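import Mathlib
import Cfsg.Prelude.Def_LieTypeDatum
import Cfsg.Agent.Lib.Unitary.Transvection

/-!
Lib/AutPSU/Semi: semilinear automorphisms of `SU n` and `PSU n`: conjugation by `GU n`, entrywise
field automorphisms, their commutation rule and the relation with the predicates of the Prelude.
-/

set_option autoImplicit false
set_option linter.unusedSectionVars false

namespace Cfsg.Agent.Lib.AutPSU

open Matrix Cfsg.Agent.Lib.Unitary

variable {F : Type*} [Field F] {q : ℕ} {n : ℕ}

/-- Entrywise application of a field automorphism to a vector. -/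
def sv (σ : F ≃+* F) (v : Fin n → F) : Fin n → F := fun i => σ (v i)

@[simp] theorem sv_apply (σ : F ≃+* F) (v : Fin n → F) (i : Fin n) : sv σ v i = σ (v i) := rfl

theorem sv_mul (σ τ : F ≃+* F) (v : Fin n → F) : sv (σ * τ) v = sv σ (sv τ v) := rfl

theorem sv_symm (σ : F ≃+* F) (v : Fin n → F) : sv σ (sv σ.symm v) = v :=
  funext fun i => σ.apply_symm_apply (v i)

theorem sv_symm' (σ : F ≃+* F) (v : Fin n → F) : sv σ.symm (sv σ v) = v :=
  funext fun i => σ.symm_apply_apply (v i)

theorem sv_add (σ : F ≃+* F) (u v : Fin n → F) : sv σ (u + v) = sv σ u + sv σ v :=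
  funext fun i => map_add σ (u i) (v i)

theorem sv_smul (σ : F ≃+* F) (a : F) (v : Fin n → F) : sv σ (a • v) = σ a • sv σ v :=
  funext fun i => map_mul σ a (v i)

theorem sv_zero (σ : F ≃+* F) : sv σ (0 : Fin n → F) = 0 := funext fun _ => map_zero σ

theorem sv_mulVec (σ : F ≃+* F) (M : Matrix (Fin n) (Fin n) F) (v : Fin n → F) :
    M.map σ *ᵥ sv σ v = sv σ (M *ᵥ v) :=
  funext fun i => (RingHom.map_mulVec σ.toRingHom M v i).symm

theorem herm_sv (σ : F ≃+* F) (u v : Fin n → F) :
    hermForm n F q (sv σ u) (sv σ v) = σ (hermForm n F q u v) := by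
  simp [hermForm, map_sum]

theorem map_preserving (σ : F ≃+* F) {M : Matrix (Fin n) (Fin n) F}
    (hM : ∀ u v, hermForm n F q (M *ᵥ u) (M *ᵥ v) = hermForm n F q u v) (u v : Fin n → F) :
    hermForm n F q (M.map σ *ᵥ u) (M.map σ *ᵥ v) = hermForm n F q u v := by
  conv_lhs => rw [← sv_symm σ u, ← sv_symm σ v, sv_mulVec, sv_mulVec, herm_sv, hM, ← herm_sv,
    sv_symm, sv_symm]

/-- A field automorphism on `GU n`. -/
def fieldGU : (F ≃+* F) →* MulAut (GU n F q) where
  toFun σ :=
    { toFun := fun g => ⟨Matrix.GeneralLinearGroup.map σ.toRingHom g.1, map_preserving σ g.2⟩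
      invFun := fun g => ⟨Matrix.GeneralLinearGroup.map σ.symm.toRingHom g.1,
        map_preserving σ.symm g.2⟩
      left_inv := fun g => Subtype.ext (Units.ext (Matrix.ext fun i j => by simp))
      right_inv := fun g => Subtype.ext (Units.ext (Matrix.ext fun i j => by simp))
      map_mul' := fun g h => Subtype.ext (map_mul _ _ _) }
  map_one' := MulEquiv.ext fun g => Subtype.ext (Units.ext (Matrix.ext fun i j => rfl))
  map_mul' σ τ := MulEquiv.ext fun g => Subtype.ext (Units.ext (Matrix.ext fun i j => rfl))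

theorem coe_fieldGU (σ : F ≃+* F) (g : GU n F q) :
    (fieldGU σ g).1.1 = g.1.1.map σ := rfl

/-- A field automorphism on `SU n`. -/
def fieldSU : (F ≃+* F) →* MulAut (SU n F q) where
  toFun σ :=
    { toFun := fun g => ⟨Matrix.SpecialLinearGroup.map σ.toRingHom g.1, map_preserving σ g.2⟩
      invFun := fun g => ⟨Matrix.SpecialLinearGroup.map σ.symm.toRingHom g.1,
        map_preserving σ.symm g.2⟩
      left_inv := fun g => Subtype.ext (Subtype.ext (Matrix.ext fun i j => by simp))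
      right_inv := fun g => Subtype.ext (Subtype.ext (Matrix.ext fun i j => by simp))
      map_mul' := fun g h => Subtype.ext (map_mul _ _ _) }
  map_one' := MulEquiv.ext fun g => Subtype.ext (Subtype.ext (Matrix.ext fun i j => rfl))
  map_mul' σ τ := MulEquiv.ext fun g => Subtype.ext (Subtype.ext (Matrix.ext fun i j => rfl))

theorem coe_fieldSU (σ : F ≃+* F) (s : SU n F q) : (fieldSU σ s).1.1 = s.1.1.map σ := rfl

/-- Conjugation of `SU n` by an element of `GU n`. -/
def conjSUEquiv (g : GU n F q) : MulAut (SU n F q) where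
  toFun s := ⟨⟨g.1.1 * s.1.1 * g⁻¹.1.1, by
      rw [det_mul_right_comm, ← Units.val_mul, ← Subgroup.coe_mul, mul_inv_cancel, Subgroup.coe_one,
        Units.val_one, Matrix.one_mul, s.1.2]⟩,
    (g * suToGU n F q s * g⁻¹).2⟩
  invFun s := ⟨⟨g⁻¹.1.1 * s.1.1 * g.1.1, by
      rw [det_mul_right_comm, ← Units.val_mul, ← Subgroup.coe_mul, inv_mul_cancel, Subgroup.coe_one,
        Units.val_one, Matrix.one_mul, s.1.2]⟩,
    (g⁻¹ * suToGU n F q s * g).2⟩
  left_inv s := Subtype.ext (Subtype.ext (by simp [Matrix.mul_assoc]))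
  right_inv s := Subtype.ext (Subtype.ext (by simp [Matrix.mul_assoc]))
  map_mul' s t := Subtype.ext (Subtype.ext (by
    show g.1.1 * (s.1.1 * t.1.1) * g⁻¹.1.1 = (g.1.1 * s.1.1 * g⁻¹.1.1) * (g.1.1 * t.1.1 * g⁻¹.1.1)
    simp [Matrix.mul_assoc]))

/-- Conjugation of `SU n` by `GU n`, as a homomorphism. -/
def conjSU : GU n F q →* MulAut (SU n F q) where
  toFun := conjSUEquiv
  map_one' := MulEquiv.ext fun s => Subtype.ext (Subtype.ext (by simp [conjSUEquiv]))
  map_mul' g h := MulEquiv.ext fun s =>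
    Subtype.ext (Subtype.ext (by simp [conjSUEquiv, MulAut.mul_apply, Matrix.mul_assoc]))

theorem coe_conjSU (g : GU n F q) (s : SU n F q) :
    (conjSU g s).1.1 = g.1.1 * s.1.1 * g⁻¹.1.1 := rfl

theorem suToGU_conjSU (g : GU n F q) (s : SU n F q) :
    suToGU n F q (conjSU g s) = g * suToGU n F q s * g⁻¹ :=
  Subtype.ext (Units.ext rfl)

theorem fieldSU_mul_conjSU (σ : F ≃+* F) (g : GU n F q) :
    fieldSU σ * conjSU g = conjSU (fieldGU σ g) * fieldSU σ := by
  refine MulEquiv.ext fun s => Subtype.ext (Subtype.ext ?_)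
  simp only [MulAut.mul_apply, coe_fieldSU, coe_conjSU, ← map_inv, coe_fieldGU, Matrix.map_mul]

/-- An automorphism of `SU n` descends to `PSU n`. -/
def descend : MulAut (SU n F q) →* MulAut (PSU n F q) where
  toFun e := QuotientGroup.congr _ _ e (Subgroup.characteristic_iff_map_eq.1 inferInstance e)
  map_one' := by
    ext x
    obtain ⟨s, rfl⟩ := QuotientGroup.mk_surjective x
    rfl
  map_mul' e e' := by
    ext x
    obtain ⟨s, rfl⟩ := QuotientGroup.mk_surjective x
    rfl

@[simp] theorem descend_mk (e : MulAut (SU n F q)) (s : SU n F q) :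
    descend e (QuotientGroup.mk s : PSU n F q) = QuotientGroup.mk (e s) := rfl

/-- The automorphism of `PSU n` induced by `v ↦ g σ(v)`. -/
def semiAut (g : GU n F q) (σ : F ≃+* F) : MulAut (PSU n F q) :=
  descend (conjSU g * fieldSU σ)

theorem semiAut_mk (g : GU n F q) (σ : F ≃+* F) (s : SU n F q) :
    semiAut g σ (QuotientGroup.mk s : PSU n F q) = QuotientGroup.mk (conjSU g (fieldSU σ s)) := rfl

theorem semiAut_mul (g g' : GU n F q) (σ σ' : F ≃+* F) :
    semiAut g σ * semiAut g' σ' = semiAut (g * fieldGU σ g') (σ * σ') := by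
  rw [semiAut, semiAut, semiAut, ← map_mul, mul_assoc, ← mul_assoc (fieldSU σ),
    fieldSU_mul_conjSU, map_mul conjSU, map_mul fieldSU]
  group

theorem semiAut_inv (g : GU n F q) (σ : F ≃+* F) :
    (semiAut g σ)⁻¹ = semiAut (fieldGU σ⁻¹ g⁻¹) σ⁻¹ := by
  rw [inv_eq_iff_mul_eq_one, semiAut_mul, ← MulAut.mul_apply, ← map_mul, mul_inv_cancel, map_one,
    MulAut.one_apply, mul_inv_cancel, semiAut, map_one, map_one, mul_one, map_one]

/-- The automorphisms induced by semilinear unitary maps. -/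
def semiGroup (n : ℕ) (F : Type*) [Field F] (q : ℕ) : Subgroup (MulAut (PSU n F q)) where
  carrier := {β | ∃ g σ, β = semiAut g σ}
  one_mem' := ⟨1, 1, by simp [semiAut]⟩
  mul_mem' := by
    rintro _ _ ⟨g, σ, rfl⟩ ⟨g', σ', rfl⟩
    exact ⟨_, _, semiAut_mul g g' σ σ'⟩
  inv_mem' := by
    rintro _ ⟨g, σ, rfl⟩
    exact ⟨_, _, semiAut_inv g σ⟩

theorem semiAut_induced (g : GU n F q) (σ : F ≃+* F) :
    IsInducedBySemilinearPSU g.1 σ (semiAut g σ) := by
  intro s s' h
  rw [semiAut_mk]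
  refine congrArg _ (Subtype.ext (Subtype.ext ?_))
  rw [h, coe_conjSU, coe_fieldSU]
  rfl

theorem eq_semiAut {g : GL (Fin n) F} {σ : F ≃+* F} (hg : g ∈ GU n F q)
    {β : MulAut (PSU n F q)} (h : IsInducedBySemilinearPSU g σ β) : β = semiAut ⟨g, hg⟩ σ := by
  refine MulEquiv.ext fun x => ?_
  obtain ⟨s, rfl⟩ := QuotientGroup.mk_surjective x
  rw [semiAut_mk]
  exact h s _ (by rw [coe_conjSU, coe_fieldSU]; rfl)

theorem gammaPSU_eq : gammaPSU n F q = semiGroup n F q := by
  refine le_antisymm ((Subgroup.closure_le _).2 ?_) fun β => ?_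
  · rintro β ⟨g, σ, hg, h⟩
    exact ⟨⟨g, hg⟩, σ, eq_semiAut hg h⟩
  · rintro ⟨g, σ, rfl⟩
    exact Subgroup.subset_closure ⟨g.1, σ, g.2, semiAut_induced g σ⟩

theorem semiAut_innerDiagonal (g : GU n F q) : IsInnerDiagonalAutPSU (semiAut g 1) := by
  refine ⟨g.1, g.2, fun s s' h => ?_⟩
  rw [semiAut_mk]
  refine congrArg _ (Subtype.ext (Subtype.ext ?_))
  rw [h, coe_conjSU, map_one]
  rfl

theorem semiAut_fieldOf (σ : F ≃+* F) :
    IsFieldAutPSUOf σ (semiAut (1 : GU n F q) σ) := by
  intro s s' h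
  rw [semiAut_mk, map_one]
  exact congrArg _ (Subtype.ext (Subtype.ext (by rw [h]; rfl)))

theorem semiAut_split (g : GU n F q) (σ : F ≃+* F) :
    semiAut g σ = semiAut g 1 * semiAut 1 σ := by
  rw [semiAut_mul, map_one, mul_one, one_mul]

end Cfsg.Agent.Lib.AutPSU
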