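import Mathlib
import Cfsg.Agent.Lib.Unitary.Simple
import Cfsg.Agent.Lib.AutPSU.Semi

/-!
Lib/AutPSU/Root: root subgroups of `SU n` and their images in `PSU n`; the group-theoretic description
of the images: centres of Sylow subgroups, normalisers, commutation.
-/

set_option autoImplicit false
set_option linter.unusedSectionVars false

namespace Cfsg.Agent.Lib.AutPSU

open Matrix Cfsg.Agent.Lib.Unitary

variable {F : Type*} [Field F] [Fintype F] {q : ℕ} {n : ℕ}

/-- The projection `SU n → PSU n`. -/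
abbrev cls (n : ℕ) (F : Type*) [Field F] (q : ℕ) : SU n F q →* PSU n F q :=
  QuotientGroup.mk' (Subgroup.center (SU n F q))

theorem cls_surjective : Function.Surjective (cls n F q) := QuotientGroup.mk'_surjective _

theorem SU_ext {X Y : SU n F q} (h : ∀ v, X.1.1 *ᵥ v = Y.1.1 *ᵥ v) : X = Y :=
  suToGU_injective (GU_ext (by simpa using h))

theorem SU_herm (X : SU n F q) (u v : Fin n → F) :
    hermForm n F q (X.1.1 *ᵥ u) (X.1.1 *ᵥ v) = hermForm n F q u v := X.2 u v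

theorem SU_mulVec_inv (X : SU n F q) (v : Fin n → F) : X.1.1 *ᵥ (X⁻¹.1.1 *ᵥ v) = v := by
  rw [← SU_mul_mulVec, mul_inv_cancel]; simp

theorem cls_eq_iff (hF : Fintype.card F = q ^ 2) (hn : 2 ≤ n) {X Y : SU n F q} :
    cls n F q X = cls n F q Y ↔ ∃ l : F, ∀ x, Y.1.1 *ᵥ x = l • (X.1.1 *ᵥ x) := by
  rw [QuotientGroup.mk'_apply, QuotientGroup.mk'_apply, QuotientGroup.eq,
    mem_center_SU_iff hF hn]
  refine exists_congr fun l => forall_congr' fun x => ?_
  rw [SU_mul_mulVec]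
  constructor
  · intro h
    rw [← SU_mulVec_inv X (Y.1.1 *ᵥ x), h, Matrix.mulVec_smul]
  · intro h
    rw [h, Matrix.mulVec_smul, SU_inv_mulVec]

/-- Elements with the same class fixing a common nonzero vector are equal. -/
theorem eq_of_cls_eq (hF : Fintype.card F = q ^ 2) (hn : 2 ≤ n) {X Y : SU n F q}
    (h : cls n F q X = cls n F q Y) {v : Fin n → F} (hv : v ≠ 0)
    (hX : X.1.1 *ᵥ v = v) (hY : Y.1.1 *ᵥ v = v) : X = Y := by
  obtain ⟨l, hl⟩ := (cls_eq_iff hF hn).1 h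
  have h1 : l • v = (1 : F) • v := by rw [one_smul]; conv_rhs => rw [← hY, hl, hX]
  have : l = 1 := smul_left_injective F hv h1
  exact SU_ext fun x => by rw [hl, this, one_smul]

theorem exists_SU_tv (hF : Fintype.card F = q ^ 2) {v : Fin n → F} {c : F}
    (hv : hermForm n F q v v = 0) (hc : c + c ^ q = 0) :
    ∃ X : SU n F q, IsTvAt v c (suToGU n F q X) := by
  obtain ⟨A, hA, hdet⟩ := exists_tv hF hv hc
  obtain ⟨X, hX⟩ := exists_SU_of_GU hdet
  exact ⟨X, fun x => by rw [suToGU_val, hX]; exact hA x⟩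

theorem exists_SU_eich (hF : Fintype.card F = q ^ 2) {e z : Fin n → F} {d : F}
    (he : hermForm n F q e e = 0) (hze : hermForm n F q z e = 0)
    (hd : d + d ^ q + hermForm n F q z z = 0) :
    ∃ X : SU n F q, IsEich e z d (suToGU n F q X) := by
  obtain ⟨A, hA, hdet⟩ := exists_eich hF he hze hd
  obtain ⟨X, hX⟩ := exists_SU_of_GU hdet
  exact ⟨X, fun x => by rw [suToGU_val, hX]; exact hA x⟩

/-! ### The subgroups attached to a vector -/

/-- Elements fixing the orthogonal of `e` pointwise. -/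
def RS (e : Fin n → F) : Subgroup (SU n F q) where
  carrier := {X | ∀ x, hermForm n F q x e = 0 → X.1.1 *ᵥ x = x}
  one_mem' := fun x _ => by simp
  mul_mem' := fun {X Y} hX hY x hx => by rw [SU_mul_mulVec, hY x hx, hX x hx]
  inv_mem' := fun {X} hX x hx => by conv_lhs => rw [← hX x hx, SU_inv_mulVec]

/-- Elements fixing `e` and trivial on `e⊥ / e`. -/
def QS (e : Fin n → F) : Subgroup (SU n F q) where
  carrier := {X | X.1.1 *ᵥ e = e ∧ ∀ x, hermForm n F q x e = 0 → ∃ a : F, X.1.1 *ᵥ x = x + a • e}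
  one_mem' := ⟨by simp, fun x _ => ⟨0, by simp⟩⟩
  mul_mem' := fun {X Y} hX hY => ⟨by rw [SU_mul_mulVec, hY.1, hX.1], fun x hx => by
    obtain ⟨a, ha⟩ := hX.2 x hx
    obtain ⟨b, hb⟩ := hY.2 x hx
    exact ⟨a + b, by rw [SU_mul_mulVec, hb, Matrix.mulVec_add, Matrix.mulVec_smul, hX.1, ha,
      add_smul, add_assoc]⟩⟩
  inv_mem' := fun {X} hX => by
    refine ⟨by conv_lhs => rw [← hX.1, SU_inv_mulVec], fun x hx => ?_⟩
    obtain ⟨a, ha⟩ := hX.2 x hx
    refine ⟨-a, ?_⟩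
    have h1 : X⁻¹.1.1 *ᵥ e = e := by conv_lhs => rw [← hX.1, SU_inv_mulVec]
    have h2 := congrArg (fun v => X⁻¹.1.1 *ᵥ v) ha
    simp only [SU_inv_mulVec, Matrix.mulVec_add, Matrix.mulVec_smul, h1] at h2
    rw [neg_smul, ← sub_eq_add_neg, eq_sub_iff_add_eq]
    exact h2.symm

/-- Elements fixing `e`. -/
def PS (e : Fin n → F) : Subgroup (SU n F q) where
  carrier := {X | X.1.1 *ᵥ e = e}
  one_mem' := by simp
  mul_mem' := fun {X Y} hX hY => by
    show (X * Y).1.1 *ᵥ e = e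
    rw [SU_mul_mulVec, show Y.1.1 *ᵥ e = e from hY, show X.1.1 *ᵥ e = e from hX]
  inv_mem' := fun {X} hX => by
    show X⁻¹.1.1 *ᵥ e = e
    conv_lhs => rw [← (show X.1.1 *ᵥ e = e from hX), SU_inv_mulVec]

/-- Elements fixing the line of `e`. -/
def NS (e : Fin n → F) : Subgroup (SU n F q) where
  carrier := {X | ∃ a : F, a ≠ 0 ∧ X.1.1 *ᵥ e = a • e}
  one_mem' := ⟨1, one_ne_zero, by simp⟩
  mul_mem' := by
    rintro X Y ⟨a, ha, hX⟩ ⟨b, hb, hY⟩
    exact ⟨b * a, mul_ne_zero hb ha, by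
      rw [SU_mul_mulVec, hY, Matrix.mulVec_smul, hX, smul_smul]⟩
  inv_mem' := by
    rintro X ⟨a, ha, hX⟩
    refine ⟨a⁻¹, inv_ne_zero ha, ?_⟩
    have h2 := congrArg (fun v => X⁻¹.1.1 *ᵥ v) hX
    simp only [SU_inv_mulVec, Matrix.mulVec_smul] at h2
    rw [eq_inv_smul_iff₀ ha]
    exact h2.symm

/-- The image of `RS e` in `PSU n`. -/
def R (e : Fin n → F) : Subgroup (PSU n F q) := (RS e).map (cls n F q)

/-- The image of `QS e` in `PSU n`. -/
def Q (e : Fin n → F) : Subgroup (PSU n F q) := (QS e).map (cls n F q)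

/-- The image of `NS e` in `PSU n`. -/
def N (e : Fin n → F) : Subgroup (PSU n F q) := (NS e).map (cls n F q)

theorem RS_le_QS {e : Fin n → F} (he : hermForm n F q e e = 0) : RS (q := q) e ≤ QS e :=
  fun _ hX => ⟨hX e he, fun x hx => ⟨0, by rw [hX x hx, zero_smul, add_zero]⟩⟩

theorem QS_le_PS (e : Fin n → F) : QS (q := q) e ≤ PS e := fun _ hX => hX.1

theorem PS_le_NS (e : Fin n → F) : PS (q := q) e ≤ NS e := fun X hX =>
  ⟨1, one_ne_zero, by rw [one_smul]; exact hX⟩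

theorem center_le_NS (hF : Fintype.card F = q ^ 2) (hn : 2 ≤ n) (e : Fin n → F) :
    Subgroup.center (SU n F q) ≤ NS e := by
  intro z hz
  obtain ⟨l, hl⟩ := (mem_center_SU_iff hF hn z).1 hz
  refine ⟨l, fun h => ?_, hl e⟩
  have hdet := z.1.2
  rw [show z.1.1 = 0 from Matrix.toLin'.injective (LinearMap.ext fun x => by simp [hl x, h])] at hdet
  have : Nonempty (Fin n) := ⟨⟨0, by omega⟩⟩
  rw [Matrix.det_zero] at hdet
  exact zero_ne_one hdet

theorem RS_smul {e : Fin n → F} {a : F} (ha : a ≠ 0) : RS (q := q) (a • e) = RS e := by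
  have key : ∀ x, hermForm n F q x (a • e) = 0 ↔ hermForm n F q x e = 0 := fun x => by
    rw [herm_smul_right]
    exact ⟨fun h => (mul_eq_zero.1 h).resolve_left (pow_ne_zero q ha), fun h => by rw [h, mul_zero]⟩
  ext X
  exact ⟨fun h x hx => h x ((key x).2 hx), fun h x hx => h x ((key x).1 hx)⟩

theorem R_smul {e : Fin n → F} {a : F} (ha : a ≠ 0) : R (q := q) (a • e) = R e := by
  rw [R, R, RS_smul ha]

/-- `Hyp` gives nonvanishing. -/
theorem ne_zero_of_hyp {e f : Fin n → F} (h : Hyp q e f) : e ≠ 0 := fun h0 => by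
  simpa [h0, herm_zero_left] using h.2.2

theorem mem_RS_iff (hF : Fintype.card F = q ^ 2) {e f : Fin n → F} (h : Hyp q e f)
    {X : SU n F q} :
    X ∈ RS e ↔ ∃ c, c + c ^ q = 0 ∧ IsTvAt e c (suToGU n F q X) := by
  constructor
  · intro hX
    set d := hermForm n F q (X.1.1 *ᵥ f) f
    have hXe : X.1.1 *ᵥ e = e := hX e h.1
    obtain ⟨g, hg, ho, hli⟩ := h.exists_complement hF
    have hXf : X.1.1 *ᵥ f = f + d • e := by
      set r := X.1.1 *ᵥ f - f - d • e
      have hre : hermForm n F q r e = 0 := by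
        have h1 := SU_herm X f e
        rw [hXe] at h1
        simp [r, herm_sub_left, herm_smul_left, h.1, h1]
      have hrf : hermForm n F q r f = 0 := by
        simp [r, herm_sub_left, herm_smul_left, h.2.1, h.2.2, d]
      have hrg : ∀ i, hermForm n F q r (g i) = 0 := fun i => by
        have h1 := SU_herm X f (g i)
        rw [hX (g i) (ho i).1] at h1
        simp [r, herm_sub_left, herm_smul_left, h1, herm_eq_zero_symm hF (ho i).1]
      have := h.complement_expand hF hg ho hli hre hrf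
      simp only [hrg, zero_smul, Finset.sum_const_zero] at this
      rw [← sub_eq_zero, ← this]
      simp only [r]; abel
    have hd : d + d ^ q = 0 := by
      have h1 := SU_herm X f f
      rw [hXf, h.2.1] at h1
      simp only [herm_add_left, herm_add_right _ _ _ hF, herm_smul_left, herm_smul_right, h.1,
        h.2.1, h.2.2, h.symm' hF, mul_zero, mul_one, zero_add, add_zero] at h1
      linear_combination h1
    obtain ⟨A, hA, -⟩ := exists_tv hF h.1 hd
    refine ⟨d, hd, ?_⟩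
    rw [show suToGU n F q X = A from h.ext hF (by rw [suToGU_val, hXe, hA.fix h.1])
      (by rw [suToGU_val, hXf, hA f, h.symm' hF, mul_one])
      fun v h1 _ => by rw [suToGU_val, hX v h1, hA.fix h1]]
    exact hA
  · rintro ⟨c, -, hc⟩ x hx
    simpa using hc.fix hx

theorem QS_param (hF : Fintype.card F = q ^ 2) {e f : Fin n → F} (h : Hyp q e f)
    {X : SU n F q} (hX : X ∈ QS e) :
    ∃ z d, hermForm n F q z e = 0 ∧ hermForm n F q z f = 0 ∧
      d + d ^ q + hermForm n F q z z = 0 ∧ IsEich e z d (suToGU n F q X) := by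
  set d := hermForm n F q (X.1.1 *ᵥ f) f
  set z := X.1.1 *ᵥ f - f - d • e
  have hXf : X.1.1 *ᵥ f = f + z + d • e := by simp only [z]; abel
  have hze : hermForm n F q z e = 0 := by
    have h1 := SU_herm X f e
    rw [hX.1] at h1
    simp [z, herm_sub_left, herm_smul_left, h.1, h1]
  have hzf : hermForm n F q z f = 0 := by
    simp [z, herm_sub_left, herm_smul_left, h.2.1, h.2.2, d]
  have hd : d + d ^ q + hermForm n F q z z = 0 := by
    have h1 := SU_herm X f f
    rw [hXf, h.2.1] at h1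
    simp only [herm_add_left, herm_add_right _ _ _ hF, herm_smul_left, herm_smul_right, h.1,
      h.2.1, h.2.2, h.symm' hF, hze, hzf, herm_eq_zero_symm hF hze, herm_eq_zero_symm hF hzf,
      mul_zero, mul_one, zero_add, add_zero] at h1
    linear_combination h1
  obtain ⟨A, hA, -⟩ := exists_eich hF h.1 hze hd
  refine ⟨z, d, hze, hzf, hd, ?_⟩
  rw [show suToGU n F q X = A from h.ext hF
    (by rw [suToGU_val, hX.1, hA, h.1, herm_eq_zero_symm hF hze]; simp)
    (by rw [suToGU_val, hXf, hA, h.symm' hF, herm_eq_zero_symm hF hzf]; simp)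
    fun v h1 h2 => by
      obtain ⟨a, ha⟩ := hX.2 v h1
      have h3 := SU_herm X v f
      rw [ha, hXf, h2] at h3
      simp only [herm_add_left, herm_add_right _ _ _ hF, herm_smul_left, herm_smul_right, h.1,
        h.2.2, h1, h2, herm_eq_zero_symm hF hze, mul_zero, mul_one, zero_add, add_zero] at h3
      rw [suToGU_val, ha, hA, h1, show a = -hermForm n F q v z by linear_combination h3]
      simp]
  exact hA

theorem mem_QS_of_eich (hF : Fintype.card F = q ^ 2) {e z : Fin n → F} {d : F} {X : SU n F q}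
    (he : hermForm n F q e e = 0) (hze : hermForm n F q z e = 0)
    (hX : IsEich e z d (suToGU n F q X)) : X ∈ QS e := by
  refine ⟨?_, fun x hx => ⟨-hermForm n F q x z, ?_⟩⟩
  · have := hX e
    rw [suToGU_val, he, herm_eq_zero_symm hF hze] at this
    simpa using this
  · have := hX x
    rw [suToGU_val, hx] at this
    simpa using this

/-! ### Conjugation -/

theorem RS_conj {e : Fin n → F} (X : SU n F q) {T : SU n F q} (hT : T ∈ RS e) :
    X * T * X⁻¹ ∈ RS (X.1.1 *ᵥ e) := fun x hx => by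
  have h := SU_herm X (X⁻¹.1.1 *ᵥ x) e
  rw [SU_mulVec_inv, hx] at h
  rw [SU_mul_mulVec, SU_mul_mulVec, hT _ h.symm, SU_mulVec_inv]

theorem QS_conj {e : Fin n → F} (X : SU n F q) {T : SU n F q} (hT : T ∈ QS e) :
    X * T * X⁻¹ ∈ QS (X.1.1 *ᵥ e) := by
  refine ⟨by rw [SU_mul_mulVec, SU_mul_mulVec, SU_inv_mulVec, hT.1], fun x hx => ?_⟩
  have h := SU_herm X (X⁻¹.1.1 *ᵥ x) e
  rw [SU_mulVec_inv, hx] at h
  obtain ⟨a, ha⟩ := hT.2 _ h.symm
  exact ⟨a, by rw [SU_mul_mulVec, SU_mul_mulVec, ha, Matrix.mulVec_add, Matrix.mulVec_smul,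
    SU_mulVec_inv]⟩

theorem QS_smul {e : Fin n → F} {a : F} (ha : a ≠ 0) : QS (q := q) (a • e) = QS e := by
  have key : ∀ x, hermForm n F q x (a • e) = 0 ↔ hermForm n F q x e = 0 := fun x => by
    rw [herm_smul_right]
    exact ⟨fun h => (mul_eq_zero.1 h).resolve_left (pow_ne_zero q ha), fun h => by rw [h, mul_zero]⟩
  ext X
  constructor
  · rintro ⟨h1, h2⟩
    refine ⟨?_, fun x hx => ?_⟩
    · rw [Matrix.mulVec_smul] at h1
      exact smul_right_injective _ ha h1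
    · obtain ⟨b, hb⟩ := h2 x ((key x).2 hx)
      exact ⟨b * a, by rw [hb, smul_smul]⟩
  · rintro ⟨h1, h2⟩
    refine ⟨by rw [Matrix.mulVec_smul, h1], fun x hx => ?_⟩
    obtain ⟨b, hb⟩ := h2 x ((key x).1 hx)
    exact ⟨b / a, by rw [hb, smul_smul, div_mul_cancel₀ b ha]⟩

theorem NS_conj_RS {e : Fin n → F} {X T : SU n F q} (hX : X ∈ NS e) (hT : T ∈ RS e) :
    X * T * X⁻¹ ∈ RS e := by
  obtain ⟨a, ha, hXe⟩ := hX
  have := RS_conj X hT
  rwa [hXe, RS_smul ha] at this

theorem NS_conj_QS {e : Fin n → F} {X T : SU n F q} (hX : X ∈ NS e) (hT : T ∈ QS e) :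
    X * T * X⁻¹ ∈ QS e := by
  obtain ⟨a, ha, hXe⟩ := hX
  have := QS_conj X hT
  rwa [hXe, QS_smul ha] at this

/-- A nonzero vector orthogonal to two given vectors. -/
theorem exists_orth_two (hF : Fintype.card F = q ^ 2) (hn : 3 ≤ n) (u w : Fin n → F) :
    ∃ v : Fin n → F, v ≠ 0 ∧ hermForm n F q v u = 0 ∧ hermForm n F q v w = 0 := by
  classical
  have h := finrank_perp hF (Submodule.span F (Set.range ![u, w]))
  have h2 : Module.finrank F (Submodule.span F (Set.range ![u, w])) ≤ 2 := by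
    exact (finrank_range_le_card (R := F) ![u, w]).trans_eq (Fintype.card_fin 2)
  have hne : perp q (Submodule.span F (Set.range ![u, w])) ≠ ⊥ := fun h0 => by
    rw [h0, finrank_bot] at h; omega
  obtain ⟨v, hv, hv0⟩ := Submodule.exists_mem_ne_zero_of_ne_bot hne
  exact ⟨v, hv0, (mem_perp_span_range hF).1 hv 0, (mem_perp_span_range hF).1 hv 1⟩

theorem normalizer_R (hF : Fintype.card F = q ^ 2) (hn : 3 ≤ n) {e f : Fin n → F}
    (h : Hyp q e f) : Subgroup.normalizer (R (q := q) e : Set (PSU n F q)) = N e := by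
  ext x
  obtain ⟨X, rfl⟩ := cls_surjective x
  constructor
  · intro hx
    obtain ⟨θ, hθ0, hθ⟩ := exists_trace_zero_ne_zero hF
    obtain ⟨T, hT⟩ := exists_SU_tv hF h.1 hθ
    have hTR : T ∈ RS e := (mem_RS_iff hF h).2 ⟨θ, hθ, hT⟩
    obtain ⟨T', hT', hTT⟩ :=
      (Subgroup.mem_normalizer_iff.1 hx (cls n F q T)).1 ⟨T, hTR, rfl⟩
    rw [← map_inv, ← map_mul, ← map_mul] at hTT
    obtain ⟨v, hv0, hve, hvX⟩ := exists_orth_two hF hn e (X.1.1 *ᵥ e)
    have heq := eq_of_cls_eq hF (by omega) hTT hv0 (hT' v hve) (RS_conj X hTR v hvX)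
    obtain ⟨c, -, hc⟩ := (mem_RS_iff hF h).1 hT'
    have hconj : IsTvAt (X.1.1 *ᵥ e) θ (suToGU n F q T') := by
      rw [heq, map_mul, map_mul, map_inv]
      exact hT.conj (suToGU n F q X)
    obtain ⟨f', hf'⟩ := exists_hyp hF (e := X.1.1 *ᵥ e)
      (fun h0 => ne_zero_of_hyp h (by
        have := congrArg (fun w => X⁻¹.1.1 *ᵥ w) h0
        rwa [SU_inv_mulVec, Matrix.mulVec_zero] at this))
      (by rw [SU_herm, h.1])
    have h1 := hconj f'
    rw [hc f', hf'.symm' hF, mul_one] at h1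
    have h2 := add_left_cancel h1
    have hne : c * hermForm n F q f' e ≠ 0 := by
      intro h0
      rw [h0, zero_smul] at h2
      rcases smul_eq_zero.1 h2.symm with h3 | h3
      · exact hθ0 h3
      · exact ne_zero_of_hyp hf' h3
    refine ⟨X, ⟨θ⁻¹ * (c * hermForm n F q f' e), mul_ne_zero (inv_ne_zero hθ0) hne, ?_⟩, rfl⟩
    rw [← smul_smul, h2, inv_smul_smul₀ hθ0]
  · rintro ⟨Y, hY, hYX⟩
    rw [← hYX, Subgroup.mem_normalizer_iff]
    intro t
    constructor
    · rintro ⟨T, hT, rfl⟩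
      exact ⟨Y * T * Y⁻¹, NS_conj_RS hY hT, by simp⟩
    · rintro ⟨T, hT, hTt⟩
      refine ⟨Y⁻¹ * T * Y⁻¹⁻¹, NS_conj_RS (inv_mem hY) hT, ?_⟩
      rw [map_mul, map_mul, map_inv, hTt]
      simp [mul_assoc]

theorem R_inj (hF : Fintype.card F = q ^ 2) (hn : 3 ≤ n) {u w : Fin n → F} (hu : IsoVec q u)
    (hw : IsoVec q w) (h : R (q := q) u = R w) : ∃ a : F, a ≠ 0 ∧ w = a • u := by
  obtain ⟨f, hf⟩ := exists_hyp hF hu.1 hu.2
  obtain ⟨f', hf'⟩ := exists_hyp hF hw.1 hw.2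
  obtain ⟨θ, hθ0, hθ⟩ := exists_trace_zero_ne_zero hF
  obtain ⟨T, hT⟩ := exists_SU_tv hF hw.2 hθ
  have hTR : T ∈ RS w := (mem_RS_iff hF hf').2 ⟨θ, hθ, hT⟩
  have hmem : cls n F q T ∈ R u := by rw [h]; exact ⟨T, hTR, rfl⟩
  obtain ⟨T', hT', hTT⟩ := hmem
  obtain ⟨v, hv0, hvu, hvw⟩ := exists_orth_two hF hn u w
  have heq := eq_of_cls_eq hF (by omega) hTT hv0 (hT' v hvu) (hTR v hvw)
  obtain ⟨c, -, hc⟩ := (mem_RS_iff hF hf).1 hT'
  have h1 := hc f'
  rw [heq, hT f', hf'.symm' hF, mul_one] at h1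
  have h2 := add_left_cancel h1
  refine ⟨θ⁻¹ * (c * hermForm n F q f' u), fun h0 => hw.1 ?_, ?_⟩
  · rw [← inv_smul_smul₀ hθ0 w, h2, smul_smul, h0, zero_smul]
  · rw [← smul_smul, ← h2, inv_smul_smul₀ hθ0]

theorem commute_R_iff (hF : Fintype.card F = q ^ 2) (hn : 3 ≤ n) {u w : Fin n → F}
    (hu : IsoVec q u) (hw : IsoVec q w) :
    (∀ x ∈ R (q := q) u, ∀ y ∈ R (q := q) w, x * y = y * x) ↔ hermForm n F q u w = 0 := by
  obtain ⟨f, hf⟩ := exists_hyp hF hu.1 hu.2
  obtain ⟨f', hf'⟩ := exists_hyp hF hw.1 hw.2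
  constructor
  · intro hcomm
    obtain ⟨θ, hθ0, hθ⟩ := exists_trace_zero_ne_zero hF
    obtain ⟨T, hT⟩ := exists_SU_tv hF hu.2 hθ
    obtain ⟨T', hT'⟩ := exists_SU_tv hF hw.2 hθ
    have h1 : T ∈ RS u := (mem_RS_iff hF hf).2 ⟨θ, hθ, hT⟩
    have h2 : T' ∈ RS w := (mem_RS_iff hF hf').2 ⟨θ, hθ, hT'⟩
    have h3 : cls n F q (T * T') = cls n F q (T' * T) := by
      rw [map_mul, map_mul]; exact hcomm _ ⟨T, h1, rfl⟩ _ ⟨T', h2, rfl⟩
    obtain ⟨v, hv0, hvu, hvw⟩ := exists_orth_two hF hn u w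
    have heq := eq_of_cls_eq hF (by omega) h3 hv0 (by rw [SU_mul_mulVec, h2 v hvw, h1 v hvu])
      (by rw [SU_mul_mulVec, h1 v hvu, h2 v hvw])
    have h4 := congrArg (fun Z => (suToGU n F q Z).1.1 *ᵥ w) heq
    simp only [map_mul, GU_mul_mulVec, hT'.fix hw.2, hT w] at h4
    rw [hT' (w + _), herm_add_left, herm_smul_left, hw.2, zero_add] at h4
    have h5 : (θ * (θ * hermForm n F q w u * hermForm n F q u w)) • w = 0 := by simpa using h4
    have h6 := (smul_eq_zero.1 h5).resolve_right hw.1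
    rcases mul_eq_zero.1 h6 with h7 | h7
    · exact absurd h7 hθ0
    rcases mul_eq_zero.1 h7 with h8 | h8
    · exact herm_eq_zero_symm hF ((mul_eq_zero.1 h8).resolve_left hθ0)
    · exact h8
  · rintro h0 _ ⟨T, hT, rfl⟩ _ ⟨T', hT', rfl⟩
    obtain ⟨c, -, hc⟩ := (mem_RS_iff hF hf).1 hT
    obtain ⟨c', -, hc'⟩ := (mem_RS_iff hF hf').1 hT'
    rw [← map_mul, ← map_mul]
    refine congrArg _ (suToGU_injective (GU_ext fun x => ?_))
    rw [map_mul, map_mul, GU_mul_mulVec, GU_mul_mulVec]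
    simp only [hc _, hc' _, herm_add_left, herm_smul_left, h0, herm_eq_zero_symm hF h0,
      mul_zero, add_zero]
    exact add_right_comm _ _ _

end Cfsg.Agent.Lib.AutPSU
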