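import Mathlib
import Cfsg.Agent.Lib.AutPSU.Root

/-!
Lib/AutPSU/Sylow: the centre of a Sylow `p`-subgroup of `PSU n` is the image of a root group, the image of
`QS e` is the largest normal `p`-subgroup of the normaliser of `R e`; automorphisms permute these.
-/

set_option autoImplicit false
set_option linter.unusedSectionVars false

namespace Cfsg.Agent.Lib.AutPSU

open Matrix Cfsg.Agent.Lib.Unitary
open scoped Pointwise

variable {F : Type*} [Field F] [Fintype F] {q : ℕ} {n : ℕ}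

/-- The centre of a subgroup, inside the ambient group. -/
def cen {G : Type*} [Group G] (S : Subgroup G) : Subgroup G :=
  S ⊓ Subgroup.centralizer (S : Set G)

theorem cen_map {G H : Type*} [Group G] [Group H] (α : G ≃* H) (S : Subgroup G) :
    (cen S).map α.toMonoidHom = cen (S.map α.toMonoidHom) := by
  ext y
  obtain ⟨x, rfl⟩ := α.surjective y
  constructor
  · rintro ⟨x', ⟨hx, hxc⟩, hxy⟩
    obtain rfl : x' = x := α.injective hxy
    refine ⟨⟨x', hx, rfl⟩, ?_⟩
    rintro _ ⟨s, hs, rfl⟩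
    simp [← map_mul, hxc s hs]
  · rintro ⟨⟨x', hx, hxy⟩, hxc⟩
    obtain rfl : x' = x := α.injective hxy
    refine ⟨x', ⟨hx, fun s hs => ?_⟩, rfl⟩
    apply α.injective
    rw [map_mul, map_mul]
    exact hxc _ ⟨s, hs, rfl⟩

variable (p : ℕ) [Fact p.Prime] [CharP F p]

theorem dvd_q (hF : Fintype.card F = q ^ 2) : p ∣ q := by
  obtain ⟨m, hp, hm⟩ := FiniteField.card F p
  exact hp.dvd_of_dvd_pow (n := 2) (by rw [← hF, hm]; exact dvd_pow_self p m.2.ne')

theorem coprime_center (hF : Fintype.card F = q ^ 2) (hn : 2 ≤ n) (k : ℕ) :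
    (Nat.card (Subgroup.center (SU n F q))).Coprime (p ^ k) := by
  rw [card_center_SU hF hn]
  refine Nat.Coprime.pow_right k (Nat.Coprime.symm ((Fact.out : p.Prime).coprime_iff_not_dvd.2 ?_))
  intro h
  have h1 : p ∣ q + 1 := h.trans (Nat.gcd_dvd_right _ _)
  exact (Fact.out : p.Prime).not_dvd_one ((Nat.dvd_add_right (dvd_q p hF)).1 h1)

theorem eich_pow (hF : Fintype.card F = q ^ 2) {e z : Fin n → F} {d : F} {A : GU n F q}
    (he : hermForm n F q e e = 0) (hze : hermForm n F q z e = 0) (hA : IsEich e z d A) (k : ℕ) :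
    ∃ d', IsEich e ((k : F) • z) d' (A ^ k) ∧ (z = 0 → d' = (k : F) * d) := by
  induction k with
  | zero => exact ⟨0, fun x => by simp [herm_zero_right x hF], fun _ => by simp⟩
  | succ k ih =>
    obtain ⟨d', hd', h0⟩ := ih
    have h := hd'.mul hF hA he (by rw [herm_smul_left, hze, mul_zero]) hze
    refine ⟨d' + d - hermForm n F q z ((k : F) • z), ?_, fun hz => ?_⟩
    · rw [pow_succ, Nat.cast_succ, add_smul, one_smul]; exact h
    · rw [h0 hz, hz, herm_zero_left, Nat.cast_succ]; ring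

theorem isPGroup_QS (hF : Fintype.card F = q ^ 2) {e f : Fin n → F} (h : Hyp q e f) :
    IsPGroup p (QS (q := q) e) := by
  rintro ⟨X, hX⟩
  refine ⟨2, Subtype.ext (suToGU_injective ?_)⟩
  obtain ⟨z, d, hze, -, -, hA⟩ := QS_param hF h hX
  obtain ⟨d1, h1, -⟩ := eich_pow hF h.1 hze hA p
  rw [CharP.cast_eq_zero, zero_smul] at h1
  obtain ⟨d2, h2, h20⟩ := eich_pow hF h.1 (herm_zero_left e) h1 p
  rw [h20 rfl, CharP.cast_eq_zero, zero_mul, zero_smul, ← pow_mul, ← sq] at h2
  show suToGU n F q (X ^ p ^ 2) = suToGU n F q 1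
  rw [map_pow, map_one]
  exact GU_ext fun x => by rw [h2 x, herm_zero_right x hF]; simp

theorem index_PS (hF : Fintype.card F = q ^ 2) (hn : 3 ≤ n) {e f : Fin n → F} (h : Hyp q e f) :
    (PS (q := q) e).index = countNull F q n - 1 := by
  classical
  let S := {v : Fin n → F // hermForm n F q v v = 0 ∧ v ≠ 0}
  have hg : ∀ v : S, ∃ X : SU n F q, X.1.1 *ᵥ e = v.1 := fun v => by
    obtain ⟨A, hA, hAe⟩ := exists_SU_isotropic hF hn (ne_zero_of_hyp h) h.1 v.2.2 v.2.1
    obtain ⟨X, hX⟩ := exists_SU_of_GU hA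
    exact ⟨X, by rw [hX, hAe]⟩
  choose g hg using hg
  have hbij : Function.Bijective fun v : S => (QuotientGroup.mk (g v) : SU n F q ⧸ PS e) := by
    constructor
    · intro v w hvw
      have h1 : ((g v)⁻¹ * g w).1.1 *ᵥ e = e := QuotientGroup.eq.1 hvw
      rw [SU_mul_mulVec, hg w] at h1
      refine Subtype.ext ?_
      rw [← hg v]
      conv_lhs => rw [← h1]
      exact SU_mulVec_inv _ _
    · intro x
      obtain ⟨X, rfl⟩ := QuotientGroup.mk_surjective x
      refine ⟨⟨X.1.1 *ᵥ e, by rw [SU_herm, h.1], fun h0 => ne_zero_of_hyp h ?_⟩,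
        QuotientGroup.eq.2 ?_⟩
      · rw [← SU_inv_mulVec X e, h0, Matrix.mulVec_zero]
      · show (_ * X).1.1 *ᵥ e = e
        set v : S := ⟨X.1.1 *ᵥ e, _⟩
        rw [SU_mul_mulVec]
        conv_rhs => rw [← SU_inv_mulVec (g v) e]
        rw [hg v]
  rw [Subgroup.index, ← Nat.card_eq_of_bijective _ hbij, countNull, Nat.card_eq_fintype_card,
    Nat.card_eq_fintype_card, Fintype.card_subtype, Fintype.card_subtype,
    show (Finset.univ.filter fun x : Fin n → F => hermForm n F q x x = 0 ∧ x ≠ 0) =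
      (Finset.univ.filter fun x : Fin n → F => hermForm n F q x x = 0).erase 0 by
        ext x; simp [and_comm], Finset.card_erase_of_mem (by simp [herm_zero_left])]

theorem not_dvd_countNull (hF : Fintype.card F = q ^ 2) (hn : 3 ≤ n) :
    ¬ p ∣ countNull F q n - 1 := by
  have hp : p.Prime := Fact.out
  obtain ⟨m, rfl⟩ : ∃ m, n = m + 1 := ⟨n - 1, by omega⟩
  have hq : ∀ k, 1 ≤ k → p ∣ q ^ k := fun k hk => (dvd_q p hF).trans (dvd_pow_self q (by omega))
  have hplus : ∀ k, 1 ≤ k → ¬ p ∣ q ^ k + 1 := fun k hk h =>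
    hp.not_dvd_one ((Nat.dvd_add_right (hq k hk)).1 h)
  have hminus : ∀ k, 1 ≤ k → ¬ p ∣ q ^ k - 1 := fun k hk h => by
    have h1 : 1 ≤ q ^ k := Nat.one_le_pow _ _ (by have := one_lt_q hF; omega)
    have := Nat.dvd_sub (hq k hk) h
    rw [show q ^ k - (q ^ k - 1) = 1 by omega] at this
    exact hp.not_dvd_one this
  rw [countNull_succ_eq hF, Nat.add_sub_cancel]
  split_ifs
  · exact fun h => (hp.dvd_mul.1 h).elim (hplus _ (by omega)) (hminus _ (by omega))
  · exact fun h => (hp.dvd_mul.1 h).elim (hminus _ (by omega)) (hplus _ (by omega))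

/-- An element fixing `e` and commuting with all of `QS e` lies in `RS e`. -/
theorem mem_RS_of_commute (hF : Fintype.card F = q ^ 2) {e f : Fin n → F} (h : Hyp q e f)
    {W : SU n F q} (hWe : W.1.1 *ᵥ e = e) (hc : ∀ X ∈ QS e, W * X = X * W) : W ∈ RS e := by
  have hmove : ∀ z, hermForm n F q z e = 0 → hermForm n F q z f = 0 →
      ∃ a : F, W.1.1 *ᵥ z = z + a • e := by
    intro z hze hzf
    obtain ⟨d, hd⟩ := exists_eich_param hF z
    obtain ⟨X, hX⟩ := exists_SU_eich hF h.1 hze hd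
    have h2 := hX.conj (suToGU n F q W)
    rw [← map_inv, ← map_mul, ← map_mul, hc X (mem_QS_of_eich hF h.1 hze hX),
      mul_inv_cancel_right, suToGU_val, hWe] at h2
    have h3 := h2 f
    rw [hX f, h.symm' hF] at h3
    simp only [one_smul, mul_one, add_assoc, add_right_inj] at h3
    refine ⟨hermForm n F q f (W.1.1 *ᵥ z) - hermForm n F q f z, ?_⟩
    rw [← sub_eq_zero] at h3 ⊢
    rw [← neg_eq_zero, ← h3, sub_smul, sub_smul, sub_smul]
    abel
  have hQ : W ∈ QS e := by
    refine ⟨hWe, fun x hx => ?_⟩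
    obtain ⟨h1, h2⟩ := h.rest_perp hF x
    obtain ⟨a, ha⟩ := hmove _ h1 h2
    rw [hx, zero_smul, sub_zero, Matrix.mulVec_sub, Matrix.mulVec_smul, hWe,
      sub_add_eq_add_sub, sub_left_inj] at ha
    exact ⟨a, ha⟩
  obtain ⟨z0, d0, hz0e, hz0f, hd0, hW⟩ := QS_param hF h hQ
  suffices hz0 : z0 = 0 by
    refine (mem_RS_iff hF h).2 ⟨d0, ?_, ?_⟩
    · rw [hz0, herm_zero_left, add_zero] at hd0; exact hd0
    · rw [hz0] at hW; exact hW.tv hF
  have horth : ∀ z, hermForm n F q z e = 0 → hermForm n F q z f = 0 →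
      hermForm n F q z0 z = hermForm n F q z z0 := by
    intro z hze hzf
    obtain ⟨d, hd⟩ := exists_eich_param hF z
    obtain ⟨X, hX⟩ := exists_SU_eich hF h.1 hze hd
    have h1 := hW.mul hF hX h.1 hz0e hze
    have h2 := hX.mul hF hW h.1 hze hz0e
    rw [← map_mul, hc X (mem_QS_of_eich hF h.1 hze hX)] at h1
    rw [← map_mul] at h2
    have h3 := (h1 f).symm.trans (h2 f)
    rw [h.symm' hF, herm_add_right _ _ _ hF, herm_add_right _ _ _ hF,
      herm_eq_zero_symm hF hzf, herm_eq_zero_symm hF hz0f, add_comm z z0, add_right_inj] at h3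
    have h4 := smul_left_injective F (ne_zero_of_hyp h) h3
    linear_combination h4
  obtain ⟨g, hg, ho, hli⟩ := h.exists_complement hF
  rw [h.complement_expand hF hg ho hli hz0e hz0f]
  refine Finset.sum_eq_zero fun i _ => ?_
  have key : ∀ a : F,
      a ^ q * hermForm n F q z0 (g i) = a * hermForm n F q (g i) z0 := by
    intro a
    have := horth (a • g i) (by rw [herm_smul_left, (ho i).1, mul_zero])
      (by rw [herm_smul_left, (ho i).2, mul_zero])
    rwa [herm_smul_right, herm_smul_left] at this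
  have h1 := key 1
  rw [one_pow, one_mul, one_mul] at h1
  rcases eq_or_ne (hermForm n F q z0 (g i)) 0 with h0 | h0
  · rw [h0, zero_smul]
  exfalso
  have hfix : ∀ a : F, a ^ q = a := fun a => mul_right_cancel₀ h0 (by rw [key a, h1])
  have hcard := card_fixed hF
  rw [Nat.card_congr (Equiv.subtypeUnivEquiv hfix), Nat.card_eq_fintype_card, hF] at hcard
  have := one_lt_q hF
  nlinarith

theorem exists_sylow_centre (hF : Fintype.card F = q ^ 2) (hn : 3 ≤ n) {e f : Fin n → F}
    (h : Hyp q e f) :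
    ∃ U : Subgroup (PSU n F q), IsPGroup p U ∧ ¬ p ∣ U.index ∧ cen U = R e := by
  have hle : QS (q := q) e ≤ PS e := QS_le_PS e
  obtain ⟨U₀, hU₀⟩ := IsPGroup.exists_le_sylow (P := (QS (q := q) e).subgroupOf (PS e))
    ((isPGroup_QS p hF h).comap_of_injective _ Subtype.val_injective)
  set U := (U₀ : Subgroup (PS (q := q) e)).map (PS e).subtype
  have hUP : U ≤ PS e := Subgroup.map_subtype_le _
  have hQU : QS e ≤ U := fun X hX => ⟨⟨X, hle hX⟩, hU₀ hX, rfl⟩
  refine ⟨U.map (cls n F q), (U₀.isPGroup'.map _).map _, ?_, ?_⟩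
  · intro hd
    have h1 : p ∣ U.index := hd.trans (Subgroup.index_map_dvd _ cls_surjective)
    rw [Subgroup.index_map_subtype] at h1
    rcases (Fact.out : p.Prime).dvd_mul.1 h1 with h2 | h2
    · exact U₀.not_dvd_index h2
    · exact not_dvd_countNull p hF hn (by rwa [index_PS hF hn h] at h2)
  · apply le_antisymm
    · rintro _ ⟨⟨W, hW, rfl⟩, hc⟩
      refine ⟨W, mem_RS_of_commute hF h (hUP hW) fun X hX => ?_, rfl⟩
      have := hc (cls n F q X) ⟨X, hQU hX, rfl⟩
      rw [← map_mul, ← map_mul] at this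
      refine eq_of_cls_eq hF (by omega) this.symm (ne_zero_of_hyp h) ?_ ?_
      · rw [SU_mul_mulVec, show X.1.1 *ᵥ e = e from hX.1, show W.1.1 *ᵥ e = e from hUP hW]
      · rw [SU_mul_mulVec, show W.1.1 *ᵥ e = e from hUP hW, show X.1.1 *ᵥ e = e from hX.1]
    · rintro _ ⟨T, hT, rfl⟩
      refine ⟨⟨T, hQU (RS_le_QS h.1 hT), rfl⟩, ?_⟩
      rintro _ ⟨W, hW, rfl⟩
      rw [← map_mul, ← map_mul]
      refine congrArg _ ?_
      obtain ⟨c, -, hc⟩ := (mem_RS_iff hF h).1 hT
      have h2 := hc.conj (suToGU n F q W)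
      rw [suToGU_val, show W.1.1 *ᵥ e = e from hUP hW] at h2
      apply suToGU_injective
      rw [map_mul, map_mul]
      exact mul_inv_eq_iff_eq_mul.1 (h2.unique hc)

theorem map_conj_R {e : Fin n → F} (X : SU n F q) :
    (R e).map (MulAut.conj (cls n F q X)).toMonoidHom = R (X.1.1 *ᵥ e) := by
  ext y
  constructor
  · rintro ⟨_, ⟨T, hT, rfl⟩, rfl⟩
    exact ⟨_, RS_conj X hT, by simp⟩
  · rintro ⟨T, hT, rfl⟩
    have h := RS_conj X⁻¹ hT
    rw [SU_inv_mulVec] at h
    exact ⟨_, ⟨_, h, rfl⟩, by simp [mul_assoc]⟩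

/-- Automorphisms permute the root groups. -/
theorem exists_image_R (hF : Fintype.card F = q ^ 2) (hn : 3 ≤ n) (α : MulAut (PSU n F q))
    {e f : Fin n → F} (h : Hyp q e f) :
    ∃ e', IsoVec q e' ∧ (R e).map α.toMonoidHom = R e' := by
  obtain ⟨p, k, hp, hc, -, -⟩ := q_eq_primePow hF
  haveI := Fact.mk hp
  obtain ⟨U, hU, hUi, hUc⟩ := exists_sylow_centre p hF hn h
  let P : Sylow p (PSU n F q) := hU.toSylow hUi
  let P' : Sylow p (PSU n F q) := (hU.map α.toMonoidHom).toSylow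
    (by rwa [Subgroup.index_map_of_bijective α.bijective])
  obtain ⟨g, hg⟩ := MulAction.exists_smul_eq (PSU n F q) P P'
  obtain ⟨X, rfl⟩ := cls_surjective g
  have hU' : U.map α.toMonoidHom = U.map (MulAut.conj (cls n F q X)).toMonoidHom := by
    have := congrArg Sylow.toSubgroup hg
    rw [Sylow.coe_subgroup_smul] at this
    exact this.symm
  refine ⟨X.1.1 *ᵥ e, ⟨fun h0 => ne_zero_of_hyp h ?_, by rw [SU_herm, h.1]⟩, ?_⟩
  · rw [← SU_inv_mulVec X e, h0, Matrix.mulVec_zero]
  · rw [← hUc, cen_map, hU', ← cen_map, hUc, map_conj_R]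

/-- The largest normal `p`-subgroup of `N e`. -/
theorem le_Q (hF : Fintype.card F = q ^ 2) (hn : 3 ≤ n) {e f : Fin n → F} (h : Hyp q e f)
    {O : Subgroup (PSU n F q)} (hO : IsPGroup p O) (hON : O ≤ N e)
    (hnorm : N e ≤ Subgroup.normalizer (O : Set (PSU n F q))) : O ≤ Q e := by
  classical
  have he0 := ne_zero_of_hyp h
  set O' : Subgroup (SU n F q) := O.comap (cls n F q) ⊓ PS e with hO'
  have hconj : ∀ Z ∈ NS e, ∀ X ∈ O', Z * X * Z⁻¹ ∈ O' := by
    rintro Z hZ X ⟨hX, hXe⟩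
    refine ⟨?_, ?_⟩
    · show cls n F q (Z * X * Z⁻¹) ∈ O
      rw [map_mul, map_mul, map_inv]
      exact (Subgroup.mem_normalizer_iff.1 (hnorm ⟨Z, hZ, rfl⟩) _).1 hX
    · obtain ⟨a, ha, hZe⟩ := hZ
      show (Z * X * Z⁻¹).1.1 *ᵥ e = e
      have h1 : Z⁻¹.1.1 *ᵥ e = a⁻¹ • e := by
        rw [eq_inv_smul_iff₀ ha, ← Matrix.mulVec_smul, ← hZe, SU_inv_mulVec]
      rw [SU_mul_mulVec, SU_mul_mulVec, h1, Matrix.mulVec_smul, show X.1.1 *ᵥ e = e from hXe,
        Matrix.mulVec_smul, hZe, inv_smul_smul₀ ha]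
  have hP' : IsPGroup p O' := by
    refine hO.of_injective (((cls n F q).comp O'.subtype).codRestrict O fun X => X.2.1) ?_
    intro X Y hXY
    exact Subtype.ext (eq_of_cls_eq hF (by omega) (congrArg Subtype.val hXY) he0 X.2.2 Y.2.2)
  -- it is enough to bound `O'`
  suffices hmain : O' ≤ QS e by
    intro o ho
    obtain ⟨Y, hY, rfl⟩ := hON ho
    obtain ⟨a, -, hYe⟩ := hY
    obtain ⟨k, hk⟩ := hO ⟨_, ho⟩
    have hk' : cls n F q (Y ^ p ^ k) = 1 := by rw [map_pow]; exact congrArg Subtype.val hk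
    have hz : Y ^ p ^ k ∈ Subgroup.center (SU n F q) := (QuotientGroup.eq_one_iff _).1 hk'
    obtain ⟨z', hz'⟩ := (powCoprime (coprime_center p hF (n := n) (by omega) k)).surjective
      ⟨_, hz⟩
    have hz'' : (z'.1) ^ p ^ k = Y ^ p ^ k := by simpa using congrArg Subtype.val hz'
    have hcls : cls n F q (Y * z'.1⁻¹) = cls n F q Y := by
      rw [map_mul, map_inv, show cls n F q z'.1 = 1 from (QuotientGroup.eq_one_iff _).2 z'.2,
        inv_one, mul_one]
    refine ⟨Y * z'.1⁻¹, hmain ⟨?_, ?_⟩, hcls⟩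
    · show cls n F q (Y * z'.1⁻¹) ∈ O
      rwa [hcls]
    · show (Y * z'.1⁻¹).1.1 *ᵥ e = e
      obtain ⟨l, hl⟩ := (mem_center_SU_iff hF (by omega) _).1 z'.2
      have hp1 : ∀ (W : SU n F q) (b : F), W.1.1 *ᵥ e = b • e →
          ∀ m : ℕ, (W ^ m).1.1 *ᵥ e = (b ^ m) • e := by
        intro W b hW m
        induction m with
        | zero => simp
        | succ m ih => rw [pow_succ, SU_mul_mulVec, hW, Matrix.mulVec_smul, ih, smul_smul, pow_succ']
      have hal : a = l := by
        apply iterateFrobenius_inj F p k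
        rw [iterateFrobenius_def, iterateFrobenius_def]
        apply smul_left_injective F he0
        show a ^ p ^ k • e = l ^ p ^ k • e
        rw [← hp1 Y a hYe, ← hp1 z'.1 l (hl e), hz'']
      have h1 := SU_inv_mulVec z'.1 e
      rw [hl e, Matrix.mulVec_smul] at h1
      rw [SU_mul_mulVec]
      conv_rhs => rw [← h1]
      rw [← Matrix.mulVec_smul, ← hal]
      rw [← hYe]
      rw [← SU_mul_mulVec, ← SU_mul_mulVec, Subgroup.mem_center_iff.1 (inv_mem z'.2) Y]
  obtain ⟨g, hg, ho, hli⟩ := h.exists_complement hF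
  let K : Submodule F (Fin n → F) :=
    { carrier := {x | hermForm n F q x e = 0 ∧ ∀ X ∈ O', ∃ a : F, X.1.1 *ᵥ x = x + a • e}
      add_mem' := fun {x y} hx hy => ⟨by rw [herm_add_left, hx.1, hy.1, add_zero], fun X hX => by
        obtain ⟨a, ha⟩ := hx.2 X hX
        obtain ⟨b, hb⟩ := hy.2 X hX
        exact ⟨a + b, by rw [Matrix.mulVec_add, ha, hb, add_smul]; abel⟩⟩
      zero_mem' := ⟨herm_zero_left e, fun X _ => ⟨0, by simp⟩⟩
      smul_mem' := fun c x hx => ⟨by rw [herm_smul_left, hx.1, mul_zero], fun X hX => by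
        obtain ⟨a, ha⟩ := hx.2 X hX
        exact ⟨c * a, by rw [Matrix.mulVec_smul, ha, smul_add, smul_smul]⟩⟩ }
  have hKe : e ∈ K := ⟨h.1, fun X hX => ⟨0, by
    rw [show X.1.1 *ᵥ e = e from hX.2, zero_smul, add_zero]⟩⟩
  have hKinv : ∀ Z ∈ NS (q := q) e, ∀ x ∈ K, Z.1.1 *ᵥ x ∈ K := by
    intro Z hZ x hx
    obtain ⟨a, ha, hZe⟩ := id hZ
    refine ⟨?_, fun X hX => ?_⟩
    · have h1 := SU_herm Z x e
      rw [hZe, hx.1, herm_smul_right] at h1
      exact (mul_eq_zero.1 h1).resolve_left (pow_ne_zero q ha)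
    · obtain ⟨b, hb⟩ := hx.2 _ (hconj Z⁻¹ (inv_mem hZ) X hX)
      rw [inv_inv, SU_mul_mulVec, SU_mul_mulVec] at hb
      have h2 := congrArg (fun v => Z.1.1 *ᵥ v) hb
      simp only [SU_mulVec_inv, Matrix.mulVec_add, Matrix.mulVec_smul, hZe, smul_smul] at h2
      exact ⟨b * a, h2⟩
  suffices hK : ∀ i, g i ∈ K by
    intro X hX
    refine ⟨hX.2, fun x hx => ?_⟩
    obtain ⟨r1, r2⟩ := h.rest_perp hF x
    have hexp := h.complement_expand hF hg ho hli r1 r2
    rw [hx, zero_smul, sub_zero, sub_eq_iff_eq_add] at hexp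
    have hxK : x ∈ K := by
      rw [hexp]
      exact K.add_mem (K.sum_mem fun i _ => K.smul_mem _ (hK i)) (K.smul_mem _ hKe)
    exact hxK.2 X hX
  -- a fixed point
  have hdec : ∀ y, hermForm n F q y e = 0 →
      ∃ b : F, y = ∑ i, hermForm n F q y (g i) • g i + b • e := by
    intro y hy
    obtain ⟨r1, r2⟩ := h.rest_perp hF y
    have hexp := h.complement_expand hF hg ho hli r1 r2
    rw [hy, zero_smul, sub_zero, sub_eq_iff_eq_add] at hexp
    refine ⟨hermForm n F q y f, hexp.trans ?_⟩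
    congr 1
    refine Finset.sum_congr rfl fun i _ => ?_
    rw [herm_sub_left, herm_smul_left, herm_eq_zero_symm hF (ho i).1, mul_zero, sub_zero]
  have hsum_e : ∀ c : Fin (n - 2) → F, hermForm n F q (∑ j, c j • g j) e = 0 := fun c => by
    simp [herm_sum_left, herm_smul_left, (ho _).1]
  have hXperp : ∀ X : O', ∀ y, hermForm n F q y e = 0 →
      hermForm n F q (X.1.1.1 *ᵥ y) e = 0 := fun X y hy => by
    have h1 := SU_herm X.1 y e
    rwa [show X.1.1.1 *ᵥ e = e from X.2.2, hy] at h1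
  letI : MulAction O' (Fin (n - 2) → F) :=
    { smul := fun X c i => hermForm n F q (X.1.1.1 *ᵥ ∑ j, c j • g j) (g i)
      one_smul := fun c => funext fun i => by
        show hermForm n F q ((1 : SU n F q).1.1 *ᵥ ∑ j, c j • g j) (g i) = c i
        simp [orthonormal_coeff hg]
      mul_smul := fun X Y c => funext fun i => by
        show hermForm n F q ((X.1 * Y.1).1.1 *ᵥ ∑ j, c j • g j) (g i) =
          hermForm n F q (X.1.1.1 *ᵥ ∑ j, (hermForm n F q (Y.1.1.1 *ᵥ ∑ k, c k • g k) (g j)) • g j)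
            (g i)
        obtain ⟨b, hb⟩ := hdec _ (hXperp Y _ (hsum_e c))
        rw [SU_mul_mulVec]
        conv_lhs => rw [hb]
        rw [Matrix.mulVec_add, Matrix.mulVec_smul, show X.1.1.1 *ᵥ e = e from X.2.2, herm_add_left,
          herm_smul_left, herm_eq_zero_symm hF (ho i).1, mul_zero, add_zero] }
  have hsm : ∀ (X : O') (c : Fin (n - 2) → F) (i : Fin (n - 2)),
      (X • c) i = hermForm n F q (X.1.1.1 *ᵥ ∑ j, c j • g j) (g i) := fun _ _ _ => rfl
  have hdvd : p ∣ Nat.card (Fin (n - 2) → F) := by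
    obtain ⟨m, -, hm⟩ := FiniteField.card F p
    rw [Nat.card_fun, Nat.card_eq_fintype_card, Nat.card_eq_fintype_card, hm, Fintype.card_fin,
      ← pow_mul]
    exact dvd_pow_self p (Nat.mul_pos m.2 (by omega)).ne'
  have h0 : (0 : Fin (n - 2) → F) ∈ MulAction.fixedPoints O' (Fin (n - 2) → F) := fun X =>
    funext fun i => by rw [hsm]; simp [herm_zero_left]
  obtain ⟨c, hc, hc0⟩ :=
    hP'.exists_fixed_point_of_prime_dvd_card_of_fixed_point (Fin (n - 2) → F) hdvd h0
  set x := ∑ j, c j • g j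
  have hxK : x ∈ K := by
    refine ⟨hsum_e c, fun X hX => ?_⟩
    obtain ⟨b, hb⟩ := hdec _ (hXperp ⟨X, hX⟩ _ (hsum_e c))
    refine ⟨b, hb.trans ?_⟩
    congr 1
    refine Finset.sum_congr rfl fun i _ => ?_
    rw [show hermForm n F q (X.1.1 *ᵥ x) (g i) = c i from congrFun (hc ⟨X, hX⟩) i]
  by_cases hn4 : 4 ≤ n
  swap
  · intro i
    haveI : Subsingleton (Fin (n - 2)) := Fin.subsingleton_iff_le_one.2 (by omega)
    have hx : x = c i • g i := Finset.sum_eq_single i
      (fun j _ hj => absurd (Subsingleton.elim j i) hj) (fun hi => absurd (Finset.mem_univ i) hi)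
    have hci : c i ≠ 0 := fun hci => hc0 (funext fun j => by
      rw [Subsingleton.elim j i, hci]; rfl)
    rw [← inv_smul_smul₀ hci (g i), ← hx]
    exact K.smul_mem _ hxK
  haveI : Nontrivial (Fin (n - 2)) := Fin.nontrivial_iff_two_le.2 (by omega)
  obtain ⟨a, b, -, ha, hb, -, hab, -, -⟩ := exists_three_norm_neg_one hF
  have hab' : a - b ≠ 0 := sub_ne_zero.2 hab
  have hiso : ∀ i j, i ≠ j → ∀ a : F, a * a ^ q = -1 →
      hermForm n F q (g i + a • g j) (g i + a • g j) = 0 ∧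
      hermForm n F q (g i + a • g j) e = 0 ∧ hermForm n F q (g i + a • g j) f = 0 := by
    intro i j hij a ha
    refine ⟨?_, ?_, ?_⟩
    · simp only [herm_add_left, herm_add_right _ _ _ hF, herm_smul_left, herm_smul_right, hg _ _,
        if_true, if_neg hij, if_neg hij.symm, mul_zero, mul_one, add_zero, zero_add]
      linear_combination ha
    · simp [herm_add_left, herm_smul_left, (ho _).1]
    · simp [herm_add_left, herm_smul_left, (ho _).2]
  have hpull : ∀ y ∈ K, ∀ v, hermForm n F q v v = 0 → hermForm n F q v e = 0 →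
      hermForm n F q y v ≠ 0 → v ∈ K := by
    intro y hy v hv hve hyv
    obtain ⟨θ, hθ0, hθ⟩ := exists_trace_zero_ne_zero hF
    obtain ⟨T, hT⟩ := exists_SU_tv hF hv hθ
    have hTe : T.1.1 *ᵥ e = e := hT.fix (herm_eq_zero_symm hF hve)
    have h1 := K.sub_mem (hKinv T (PS_le_NS e hTe) y hy) hy
    rw [show T.1.1 *ᵥ y = y + (θ * hermForm n F q y v) • v from hT y, add_sub_cancel_left] at h1
    exact (Submodule.smul_mem_iff K (mul_ne_zero hθ0 hyv)).1 h1
  obtain ⟨v, hv, hve, hvf, hxv⟩ : ∃ v, hermForm n F q v v = 0 ∧ hermForm n F q v e = 0 ∧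
      hermForm n F q v f = 0 ∧ hermForm n F q x v ≠ 0 := by
    by_contra hall
    push Not at hall
    refine hc0 (funext fun j => ?_)
    obtain ⟨i, hij⟩ := exists_ne j
    have h1 := hall _ (hiso i j hij a ha).1 (hiso i j hij a ha).2.1 (hiso i j hij a ha).2.2
    have h2 := hall _ (hiso i j hij b hb).1 (hiso i j hij b hb).2.1 (hiso i j hij b hb).2.2
    simp only [herm_add_right _ _ _ hF, herm_smul_right, x, orthonormal_coeff hg] at h1 h2
    have h3 : (a - b) ^ q * c j = 0 := by rw [sub_pow_q hF]; linear_combination h1 - h2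
    exact ((mul_eq_zero.1 h3).resolve_left (pow_ne_zero q hab')).symm
  have hvK : v ∈ K := hpull x hxK v hv hve hxv
  have hallK : ∀ w, hermForm n F q w w = 0 → hermForm n F q w e = 0 → w ∈ K := by
    intro w hw hwe
    by_cases hxw : hermForm n F q x w = 0
    · by_cases hvw : hermForm n F q v w = 0
      · have hvw' : hermForm n F q (v + w) (v + w) = 0 := by
          simp [herm_add_left, herm_add_right _ _ _ hF, hv, hw, hvw, herm_eq_zero_symm hF hvw]
        have := hpull x hxK (v + w) hvw' (by rw [herm_add_left, hve, hwe, add_zero])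
          (by rwa [herm_add_right _ _ _ hF, hxw, add_zero])
        exact (Submodule.add_mem_iff_right K hvK).1 this
      · exact hpull v hvK w hw hwe hvw
    · exact hpull x hxK w hw hwe hxw
  intro j
  obtain ⟨i, hij⟩ := exists_ne j
  have h1 := hallK _ (hiso i j hij a ha).1 (hiso i j hij a ha).2.1
  have h2 := hallK _ (hiso i j hij b hb).1 (hiso i j hij b hb).2.1
  have := K.sub_mem h1 h2
  rw [show g i + a • g j - (g i + b • g j) = (a - b) • g j by rw [sub_smul]; abel] at this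
  exact (Submodule.smul_mem_iff K hab').1 this

theorem map_N (hF : Fintype.card F = q ^ 2) (hn : 3 ≤ n) (α : MulAut (PSU n F q))
    {e f e' f' : Fin n → F} (h : Hyp q e f) (h' : Hyp q e' f')
    (hR : (R e).map α.toMonoidHom = R e') : (N e).map α.toMonoidHom = N e' := by
  rw [← normalizer_R hF hn h, ← normalizer_R hF hn h', Subgroup.map_equiv_normalizer_eq]
  exact congrArg (fun S : Subgroup (PSU n F q) => Subgroup.normalizer (S : Set (PSU n F q))) hR

theorem map_Q (hF : Fintype.card F = q ^ 2) (hn : 3 ≤ n) (α : MulAut (PSU n F q))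
    {e f e' f' : Fin n → F} (h : Hyp q e f) (h' : Hyp q e' f')
    (hR : (R e).map α.toMonoidHom = R e') : (Q e).map α.toMonoidHom = Q e' := by
  obtain ⟨p, k, hp, hc, -, -⟩ := q_eq_primePow hF
  haveI := Fact.mk hp
  have key : ∀ (β : MulAut (PSU n F q)) {e f e' f' : Fin n → F}, Hyp q e f → Hyp q e' f' →
      (R e).map β.toMonoidHom = R e' → (Q e).map β.toMonoidHom ≤ Q e' := by
    intro β e f e' f' h h' hR
    have hN := map_N hF hn β h h' hR
    refine le_Q p hF hn h' (((isPGroup_QS p hF h).map _).map _) ?_ ?_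
    · rw [← hN]
      exact Subgroup.map_mono (Subgroup.map_mono ((QS_le_PS e).trans (PS_le_NS e)))
    · rw [← hN, ← Subgroup.map_equiv_normalizer_eq]
      refine Subgroup.map_mono ?_
      rintro _ ⟨Z, hZ, rfl⟩
      rw [Subgroup.mem_normalizer_iff]
      intro t
      constructor
      · rintro ⟨T, hT, rfl⟩
        exact ⟨Z * T * Z⁻¹, NS_conj_QS hZ hT, by simp⟩
      · rintro ⟨T, hT, hTt⟩
        refine ⟨Z⁻¹ * T * Z⁻¹⁻¹, NS_conj_QS (inv_mem hZ) hT, ?_⟩
        rw [map_mul, map_mul, map_inv, hTt]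
        simp [mul_assoc]
  refine le_antisymm (key α h h' hR) fun y hy => ?_
  have hR' : (R e').map α.symm.toMonoidHom = R e := by
    rw [← hR, Subgroup.map_map]
    convert Subgroup.map_id _
    ext x; simp
  exact ⟨α.symm y, key α.symm h' h hR' ⟨y, hy, rfl⟩, α.apply_symm_apply y⟩

end Cfsg.Agent.Lib.AutPSU
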