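import Mathlib
import Cfsg.Agent.Lib.AutPSU.Sylow

/-!
Lib/AutPSU/Torus: coordinates on `QS e` along a frame `e, f, g`, the action of the stabiliser of the
two lines on them, and the fact that additive maps commuting with this action are scalar.
-/

set_option autoImplicit false
set_option linter.unusedSectionVars false

namespace Cfsg.Agent.Lib.AutPSU

open Matrix Cfsg.Agent.Lib.Unitary

variable {F : Type*} [Field F] [Fintype F] {q : ℕ} {n : ℕ}

/-- A hyperbolic pair with an orthonormal basis of its orthogonal. -/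
structure UFrame (n : ℕ) (F : Type*) [Field F] [Fintype F] (q : ℕ) where
  e : Fin n → F
  f : Fin n → F
  g : Fin (n - 2) → Fin n → F
  hyp : Hyp q e f
  orth : Orthonormal' q g
  perp_ef : ∀ i, hermForm n F q (g i) e = 0 ∧ hermForm n F q (g i) f = 0
  indep : LinearIndependent F (Sum.elim ![e, f] g)

namespace UFrame

variable (B : UFrame n F q)

theorem exists_frame (hF : Fintype.card F = q ^ 2) (hn : 2 ≤ n) : Nonempty (UFrame n F q) := by
  obtain ⟨e, f, h⟩ := exists_hyp_any (F := F) (n := n) hF hn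
  obtain ⟨g, hg, ho, hli⟩ := h.exists_complement hF
  exact ⟨⟨e, f, g, h, hg, ho, hli⟩⟩

/-- The vector of the orthogonal of the pair with given coordinates. -/
def vec (c : Fin (n - 2) → F) : Fin n → F := ∑ j, c j • B.g j

theorem vec_e (c : Fin (n - 2) → F) : hermForm n F q (B.vec c) B.e = 0 := by
  simp [vec, herm_sum_left, herm_smul_left, (B.perp_ef _).1]

theorem vec_f (c : Fin (n - 2) → F) : hermForm n F q (B.vec c) B.f = 0 := by
  simp [vec, herm_sum_left, herm_smul_left, (B.perp_ef _).2]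

theorem vec_g (c : Fin (n - 2) → F) (i : Fin (n - 2)) :
    hermForm n F q (B.vec c) (B.g i) = c i := orthonormal_coeff B.orth c i

theorem vec_herm (hF : Fintype.card F = q ^ 2) (c c' : Fin (n - 2) → F) :
    hermForm n F q (B.vec c) (B.vec c') = hermForm (n - 2) F q c c' := by
  rw [vec, vec, herm_sum_sum hF]
  simp only [B.orth _ _, mul_ite, mul_one, mul_zero, Finset.sum_ite_eq, Finset.mem_univ, if_true]
  rfl

theorem vec_single (i : Fin (n - 2)) (a : F) : B.vec (Pi.single i a) = a • B.g i := by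
  rw [vec, Finset.sum_eq_single i (fun j _ hj => by simp [hj]) (fun h => by simp at h)]
  simp

/-- Coordinates of `X f` on the orthogonal of the pair. -/
def kap (X : SU n F q) : Fin (n - 2) → F := fun i => hermForm n F q (X.1.1 *ᵥ B.f) (B.g i)

/-- Coordinate of `X f` on `e`. -/
def dlt (X : SU n F q) : F := hermForm n F q (X.1.1 *ᵥ B.f) B.f

theorem eich_of_mem (hF : Fintype.card F = q ^ 2) {X : SU n F q} (hX : X ∈ QS B.e) :
    IsEich B.e (B.vec (B.kap X)) (B.dlt X) (suToGU n F q X) ∧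
      B.dlt X + B.dlt X ^ q + hermForm (n - 2) F q (B.kap X) (B.kap X) = 0 := by
  obtain ⟨z, d, hze, hzf, hd, hE⟩ := QS_param hF B.hyp hX
  have hXf : X.1.1 *ᵥ B.f = B.f + z + d • B.e := by
    have := hE B.f
    rw [suToGU_val, B.hyp.symm' hF, herm_eq_zero_symm hF hzf] at this
    simpa using this
  have hk : ∀ i, B.kap X i = hermForm n F q z (B.g i) := fun i => by
    rw [kap, hXf, herm_add_left, herm_add_left, herm_smul_left,
      herm_eq_zero_symm hF (B.perp_ef i).1, herm_eq_zero_symm hF (B.perp_ef i).2, zero_add,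
      mul_zero, add_zero]
  have hd' : B.dlt X = d := by
    rw [dlt, hXf, herm_add_left, herm_add_left, herm_smul_left, B.hyp.2.1, B.hyp.2.2, hzf]
    ring
  have hz : B.vec (B.kap X) = z := by
    rw [B.hyp.complement_expand hF B.orth B.perp_ef B.indep hze hzf]
    exact Finset.sum_congr rfl fun i _ => by rw [hk]
  refine ⟨by rw [hz, hd']; exact hE, ?_⟩
  rw [← B.vec_herm hF, hz, hd']
  exact hd

theorem QS_ext (hF : Fintype.card F = q ^ 2) {X Y : SU n F q} (hX : X ∈ QS B.e) (hY : Y ∈ QS B.e)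
    (hk : B.kap X = B.kap Y) (hd : B.dlt X = B.dlt Y) : X = Y := by
  have h := (B.eich_of_mem hF hX).1
  rw [hk, hd] at h
  exact suToGU_injective (h.unique (B.eich_of_mem hF hY).1)

theorem exists_QS (hF : Fintype.card F = q ^ 2) (c : Fin (n - 2) → F) {d : F}
    (hd : d + d ^ q + hermForm (n - 2) F q c c = 0) :
    ∃ X ∈ QS B.e, B.kap X = c ∧ B.dlt X = d := by
  obtain ⟨X, hX⟩ := exists_SU_eich hF B.hyp.1 (B.vec_e c) (d := d) (by rw [B.vec_herm hF]; exact hd)
  refine ⟨X, mem_QS_of_eich hF B.hyp.1 (B.vec_e c) hX, ?_⟩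
  have hXf : X.1.1 *ᵥ B.f = B.f + B.vec c + d • B.e := by
    have := hX B.f
    rw [suToGU_val, B.hyp.symm' hF, herm_eq_zero_symm hF (B.vec_f c)] at this
    simpa using this
  constructor
  · funext i
    rw [kap, hXf, herm_add_left, herm_add_left, herm_smul_left, B.vec_g,
      herm_eq_zero_symm hF (B.perp_ef i).1, herm_eq_zero_symm hF (B.perp_ef i).2]
    ring
  · rw [dlt, hXf, herm_add_left, herm_add_left, herm_smul_left, B.vec_f, B.hyp.2.1, B.hyp.2.2]
    ring

theorem exists_QS' (hF : Fintype.card F = q ^ 2) (c : Fin (n - 2) → F) :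
    ∃ X ∈ QS B.e, B.kap X = c := by
  obtain ⟨d, hd⟩ := exists_eich_param hF (n := n - 2) c
  obtain ⟨X, h1, h2, -⟩ := B.exists_QS hF c hd
  exact ⟨X, h1, h2⟩

theorem kap_dlt_mul (hF : Fintype.card F = q ^ 2) {X Y : SU n F q} (hX : X ∈ QS B.e)
    (hY : Y ∈ QS B.e) :
    B.kap (X * Y) = B.kap X + B.kap Y ∧
      B.dlt (X * Y) = B.dlt X + B.dlt Y - hermForm (n - 2) F q (B.kap Y) (B.kap X) := by
  have h := (B.eich_of_mem hF hX).1.mul hF (B.eich_of_mem hF hY).1 B.hyp.1 (B.vec_e _) (B.vec_e _)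
  rw [← map_mul, B.vec_herm hF] at h
  have hXYf := h B.f
  rw [suToGU_val, B.hyp.symm' hF, herm_add_right _ _ _ hF, herm_eq_zero_symm hF (B.vec_f _),
    herm_eq_zero_symm hF (B.vec_f _)] at hXYf
  simp only [one_smul, mul_one, add_zero, sub_zero] at hXYf
  constructor
  · funext i
    rw [kap, hXYf]
    simp [herm_add_left, herm_smul_left, B.vec_g, herm_eq_zero_symm hF (B.perp_ef i).1,
      herm_eq_zero_symm hF (B.perp_ef i).2]
  · rw [dlt, hXYf]
    simp [herm_add_left, herm_smul_left, B.vec_f, B.hyp.2.1, B.hyp.2.2]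

theorem mem_RS_iff_kap (hF : Fintype.card F = q ^ 2) {X : SU n F q} (hX : X ∈ QS B.e) :
    X ∈ RS B.e ↔ B.kap X = 0 := by
  constructor
  · intro h
    funext i
    have h1 := SU_herm X B.f (B.g i)
    rw [h _ (B.perp_ef i).1] at h1
    rw [kap, h1, herm_eq_zero_symm hF (B.perp_ef i).2]
    rfl
  · intro h
    obtain ⟨hE, hd⟩ := B.eich_of_mem hF hX
    rw [h, herm_zero_left, add_zero] at hd
    rw [h, show B.vec 0 = 0 by simp [vec]] at hE
    exact (mem_RS_iff hF B.hyp).2 ⟨_, hd, hE.tv hF⟩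

/-! ### The action of the torus -/

/-- Elements fixing both lines. -/
def TS : Subgroup (SU n F q) := NS B.e ⊓ NS B.f

/-- The eigenvalue on `e`. -/
def lam (l : SU n F q) : F := hermForm n F q (l.1.1 *ᵥ B.e) B.f

/-- The action on the coordinates. -/
def act (l : SU n F q) (c : Fin (n - 2) → F) : Fin (n - 2) → F :=
  fun i => B.lam l ^ q * hermForm n F q (l.1.1 *ᵥ B.vec c) (B.g i)

theorem lam_spec (hF : Fintype.card F = q ^ 2) {l : SU n F q} (hl : l ∈ B.TS) :
    B.lam l ≠ 0 ∧ l.1.1 *ᵥ B.e = B.lam l • B.e ∧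
      l.1.1 *ᵥ B.f = (B.lam l ^ q)⁻¹ • B.f := by
  obtain ⟨⟨a, ha, hla⟩, ⟨b, hb, hlb⟩⟩ := hl
  have hlam : B.lam l = a := by rw [lam, hla, herm_smul_left, B.hyp.2.2, mul_one]
  have h1 := SU_herm l B.f B.e
  rw [hla, hlb, herm_smul_left, herm_smul_right, B.hyp.symm' hF, mul_one] at h1
  refine ⟨by rw [hlam]; exact ha, by rw [hlam]; exact hla, ?_⟩
  rw [hlam, hlb, show b = (a ^ q)⁻¹ from eq_inv_of_mul_eq_one_left h1]

theorem conj_coords (hF : Fintype.card F = q ^ 2) {l X : SU n F q} (hl : l ∈ B.TS)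
    (hX : X ∈ QS B.e) :
    l * X * l⁻¹ ∈ QS B.e ∧ B.kap (l * X * l⁻¹) = B.act l (B.kap X) ∧
      B.dlt (l * X * l⁻¹) = B.lam l ^ (q + 1) * B.dlt X := by
  obtain ⟨ha, hle, hlf⟩ := B.lam_spec hF hl
  set a := B.lam l
  have haq : a ^ q ≠ 0 := pow_ne_zero q ha
  have hinv : l⁻¹.1.1 *ᵥ B.f = a ^ q • B.f := by
    conv_lhs => rw [← smul_inv_smul₀ haq B.f, ← hlf, Matrix.mulVec_smul, SU_inv_mulVec]
  have hXf := (B.eich_of_mem hF hX).1 B.f
  rw [suToGU_val, B.hyp.symm' hF, herm_eq_zero_symm hF (B.vec_f _)] at hXf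
  simp only [one_smul, mul_one, sub_zero] at hXf
  have hval : (l * X * l⁻¹).1.1 *ᵥ B.f = B.f + a ^ q • (l.1.1 *ᵥ B.vec (B.kap X)) +
      (a ^ (q + 1) * B.dlt X) • B.e := by
    rw [SU_mul_mulVec, SU_mul_mulVec, hinv, Matrix.mulVec_smul, hXf, Matrix.mulVec_smul,
      Matrix.mulVec_add, Matrix.mulVec_add, hlf, Matrix.mulVec_smul, hle, smul_add, smul_add,
      smul_inv_smul₀ haq, smul_smul, smul_smul, pow_succ]
    congr 2
    ring
  refine ⟨NS_conj_QS hl.1 hX, ?_, ?_⟩
  · funext i
    rw [kap, hval]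
    simp [herm_add_left, herm_smul_left, act, herm_eq_zero_symm hF (B.perp_ef i).1,
      herm_eq_zero_symm hF (B.perp_ef i).2, a]
  · have h0 : hermForm n F q (l.1.1 *ᵥ B.vec (B.kap X)) B.f = 0 := by
      have h1 := SU_herm l (B.vec (B.kap X)) B.f
      rw [hlf, herm_smul_right, B.vec_f] at h1
      exact (mul_eq_zero.1 h1).resolve_left (pow_ne_zero q (inv_ne_zero haq))
    rw [dlt, hval]
    simp [herm_add_left, herm_smul_left, h0, B.hyp.2.1, B.hyp.2.2]

theorem act_add (l : SU n F q) (c c' : Fin (n - 2) → F) :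
    B.act l (c + c') = B.act l c + B.act l c' := by
  funext i
  simp [act, vec, add_smul, Finset.sum_add_distrib, Matrix.mulVec_add, herm_add_left, mul_add]

theorem act_smul (l : SU n F q) (a : F) (c : Fin (n - 2) → F) :
    B.act l (a • c) = a • B.act l c := by
  funext i
  simp only [act, vec, Pi.smul_apply, smul_eq_mul, ← smul_smul, ← Finset.smul_sum,
    Matrix.mulVec_smul, herm_smul_left]
  ring

/-! ### Elements of the torus -/

/-- An element of `GU` of determinant one fixing both lines gives a torus element. -/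
theorem torus_of_GU {A : GU n F q} (hdet : A.1.1.det = 1) {a b : F} (ha : a ≠ 0)
    (hb : b ≠ 0) (hAe : A.1.1 *ᵥ B.e = a • B.e) (hAf : A.1.1 *ᵥ B.f = b • B.f) :
    ∃ l ∈ B.TS, B.lam l = a ∧ ∀ x, l.1.1 *ᵥ x = A.1.1 *ᵥ x := by
  obtain ⟨l, hl⟩ := exists_SU_of_GU hdet
  refine ⟨l, ⟨⟨a, ha, by rw [hl, hAe]⟩, ⟨b, hb, by rw [hl, hAf]⟩⟩, ?_, fun x => by rw [hl]⟩
  rw [lam, hl, hAe, herm_smul_left, B.hyp.2.2, mul_one]

theorem vec_fixed (hF : Fintype.card F = q ^ 2) {A : GU n F q} {i : Fin (n - 2)} {z : F}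
    (hi : A.1.1 *ᵥ B.g i = z • B.g i)
    (hfix : ∀ v, hermForm n F q v (B.g i) = 0 → A.1.1 *ᵥ v = v) (c : Fin (n - 2) → F) :
    A.1.1 *ᵥ B.vec c = B.vec (Function.update c i (z * c i)) := by
  rw [vec, vec, Matrix.mulVec_sum]
  refine Finset.sum_congr rfl fun j _ => ?_
  rcases eq_or_ne j i with rfl | hj
  · rw [Matrix.mulVec_smul, hi, smul_smul, Function.update_self, mul_comm]
  · rw [Matrix.mulVec_smul, hfix _ (by rw [B.orth j i, if_neg hj]), Function.update_of_ne hj]

/-- `hyp_scale` by `a` times a scale of `g i` correcting the determinant. -/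
theorem exists_diag (hF : Fintype.card F = q ^ 2) (i : Fin (n - 2)) {a : F} (ha : a ≠ 0) :
    ∃ l ∈ B.TS, B.lam l = a ∧
      ∀ c, B.act l c = fun j => if j = i then a ^ q * (a ^ q / a) * c j else a ^ q * c j := by
  have haq : a ^ q ≠ 0 := pow_ne_zero q ha
  obtain ⟨S, hSdet, hSe, hSf, hSfix⟩ := exists_GU_hyp_scale hF B.hyp ha
  have hz : a ^ q / a * (a ^ q / a) ^ q = 1 := by rw [div_pow, pow_q_q hF]; field_simp
  obtain ⟨D, hDdet, hDi, hDfix⟩ := exists_GU_scale hF (x := B.g i) (by simpa using B.orth i i) hz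
  obtain ⟨l, hl, hlam, hlx⟩ := B.torus_of_GU (A := S * D) (a := a) (b := (a ^ q)⁻¹)
    (by simp only [Subgroup.coe_mul, Units.val_mul, Matrix.det_mul, hSdet, hDdet]; field_simp)
    ha (inv_ne_zero haq)
    (by rw [GU_mul_mulVec, hDfix _ (herm_eq_zero_symm hF (B.perp_ef i).1), hSe])
    (by rw [GU_mul_mulVec, hDfix _ (herm_eq_zero_symm hF (B.perp_ef i).2), hSf])
  refine ⟨l, hl, hlam, fun c => funext fun j => ?_⟩
  rw [act, hlam, hlx, GU_mul_mulVec, B.vec_fixed hF hDi hDfix,
    hSfix _ (B.vec_e _) (B.vec_f _), B.vec_g]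
  rcases eq_or_ne j i with rfl | hj
  · rw [Function.update_self, if_pos rfl, mul_assoc]
  · rw [Function.update_of_ne hj, if_neg hj]

/-- Scaling two of the orthonormal vectors by inverse norm-one scalars. -/
theorem exists_diag_pair (hF : Fintype.card F = q ^ 2) {i j : Fin (n - 2)} (hij : i ≠ j) {μ : F}
    (hμ : μ * μ ^ q = 1) :
    ∃ l ∈ B.TS, ∀ c, B.act l c =
      fun k => if k = i then μ * c k else if k = j then μ ^ q * c k else c k := by
  have hμ' : μ ^ q * (μ ^ q) ^ q = 1 := by rw [pow_q_q hF, mul_comm, hμ]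
  obtain ⟨S, hSdet, hSi, hSfix⟩ := exists_GU_scale hF (x := B.g i) (by simpa using B.orth i i) hμ
  obtain ⟨D, hDdet, hDj, hDfix⟩ := exists_GU_scale hF (x := B.g j) (by simpa using B.orth j j) hμ'
  obtain ⟨l, hl, hlam, hlx⟩ := B.torus_of_GU (A := S * D) (a := 1) (b := 1)
    (by simp only [Subgroup.coe_mul, Units.val_mul, Matrix.det_mul, hSdet, hDdet]; exact hμ)
    one_ne_zero one_ne_zero
    (by rw [GU_mul_mulVec, hDfix _ (herm_eq_zero_symm hF (B.perp_ef j).1),
      hSfix _ (herm_eq_zero_symm hF (B.perp_ef i).1), one_smul])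
    (by rw [GU_mul_mulVec, hDfix _ (herm_eq_zero_symm hF (B.perp_ef j).2),
      hSfix _ (herm_eq_zero_symm hF (B.perp_ef i).2), one_smul])
  refine ⟨l, hl, fun c => funext fun k => ?_⟩
  rw [act, hlam, hlx, one_pow, one_mul, GU_mul_mulVec, B.vec_fixed hF hDj hDfix,
    B.vec_fixed hF hSi hSfix, B.vec_g]
  rcases eq_or_ne k i with rfl | hki
  · rw [Function.update_self, Function.update_of_ne hij, if_pos rfl]
  · rw [Function.update_of_ne hki, if_neg hki]
    rcases eq_or_ne k j with rfl | hkj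
    · rw [Function.update_self, if_pos rfl]
    · rw [Function.update_of_ne hkj, if_neg hkj]

/-- A transvection on the orthogonal of the pair. -/
theorem exists_torus_tv (hF : Fintype.card F = q ^ 2) {v : Fin (n - 2) → F} {c0 : F}
    (hv : hermForm (n - 2) F q v v = 0) (hc : c0 + c0 ^ q = 0) :
    ∃ l ∈ B.TS, ∀ c, B.act l c = c + (c0 * hermForm (n - 2) F q c v) • v := by
  obtain ⟨A, hA, hdet⟩ := exists_tv hF (v := B.vec v) (by rw [B.vec_herm hF, hv]) hc
  obtain ⟨l, hl, hlam, hlx⟩ := B.torus_of_GU hdet one_ne_zero one_ne_zero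
    (by rw [hA.fix (herm_eq_zero_symm hF (B.vec_e v)), one_smul])
    (by rw [hA.fix (herm_eq_zero_symm hF (B.vec_f v)), one_smul])
  refine ⟨l, hl, fun c => funext fun k => ?_⟩
  rw [act, hlam, hlx, one_pow, one_mul, hA, B.vec_herm hF, herm_add_left, herm_smul_left,
    B.vec_g, B.vec_g]
  rfl

end UFrame

/-! ### Field lemmas -/

theorem exists_norm_one_pow3 (hF : Fintype.card F = q ^ 2) (hq : q ≠ 2) :
    ∃ z : F, z * z ^ q = 1 ∧ z ^ 3 ≠ 1 := by
  classical
  by_contra hall
  push Not at hall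
  have h1 := card_norm_one hF
  rw [Nat.card_eq_fintype_card, Fintype.card_subtype] at h1
  have hsub : (Finset.univ.filter fun x : F => x ^ (q + 1) = 1) ⊆
      (Polynomial.nthRoots 3 (1 : F)).toFinset := by
    intro x hx
    simp only [Finset.mem_filter, Finset.mem_univ, true_and] at hx
    rw [Multiset.mem_toFinset, Polynomial.mem_nthRoots (by norm_num)]
    exact hall x (by rw [← pow_succ']; exact hx)
  have h2 := (Finset.card_le_card hsub).trans
    ((Multiset.toFinset_card_le _).trans (Polynomial.card_nthRoots 3 1))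
  have := one_lt_q hF
  omega

theorem exists_not_fixed (hF : Fintype.card F = q ^ 2) : ∃ μ : F, μ ^ q ≠ μ := by
  by_contra hall
  push Not at hall
  have h := card_fixed hF
  rw [Nat.card_congr (Equiv.subtypeUnivEquiv hall), Nat.card_eq_fintype_card, hF] at h
  have := one_lt_q hF
  nlinarith

theorem exists_norm_one_not_fixed (hF : Fintype.card F = q ^ 2) :
    ∃ μ : F, μ * μ ^ q = 1 ∧ μ ^ q ≠ μ := by
  classical
  by_contra hall
  push Not at hall
  have h1 := card_norm_one hF
  rw [Nat.card_eq_fintype_card, Fintype.card_subtype] at h1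
  have hsub : (Finset.univ.filter fun x : F => x ^ (q + 1) = 1) ⊆
      (Polynomial.nthRoots 2 (1 : F)).toFinset := by
    intro x hx
    simp only [Finset.mem_filter, Finset.mem_univ, true_and] at hx
    have hx' : x * x ^ q = 1 := by rw [← pow_succ']; exact hx
    rw [Multiset.mem_toFinset, Polynomial.mem_nthRoots (by norm_num), sq]
    have := hall x hx'
    rwa [this] at hx'
  have h2 := (Finset.card_le_card hsub).trans
    ((Multiset.toFinset_card_le _).trans (Polynomial.card_nthRoots 2 1))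
  have := one_lt_q hF
  omega

theorem exists_sq_not_fixed (hF : Fintype.card F = q ^ 2) :
    ∃ a : F, a ≠ 0 ∧ (a ^ q) ^ 2 ≠ a ^ 2 := by
  classical
  by_contra hall
  push Not at hall
  set A := Finset.univ.filter fun x : F => x ^ q = x
  set C := Finset.univ.filter fun x : F => x + x ^ q = 0
  have hA : A.card = q := by
    rw [← card_fixed hF, Nat.card_eq_fintype_card, Fintype.card_subtype]
  have hC : C.card = q := by
    rw [← card_trace_zero hF, Nat.card_eq_fintype_card, Fintype.card_subtype]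
  have hU : A ∪ C = Finset.univ := by
    refine Finset.eq_univ_iff_forall.2 fun x => ?_
    simp only [A, C, Finset.mem_union, Finset.mem_filter, Finset.mem_univ, true_and]
    rcases eq_or_ne x 0 with rfl | hx
    · left; exact zero_pow_q hF
    · rcases sq_eq_sq_iff_eq_or_eq_neg.1 (hall x hx) with h | h
      · exact Or.inl h
      · exact Or.inr (by rw [h, add_neg_cancel])
  have h0 : (0 : F) ∈ A ∩ C := by simp [A, C, zero_pow_q hF]
  have h1 : 1 ≤ (A ∩ C).card := Finset.card_pos.2 ⟨0, h0⟩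
  have h2 := Finset.card_union_add_card_inter A C
  rw [hU, Finset.card_univ, hF, hA, hC] at h2
  have := one_lt_q hF
  nlinarith

/-- Everything is `u + v μ` with fixed `u, v`. -/
theorem exists_fixed_decomp (hF : Fintype.card F = q ^ 2) {μ : F} (hμ : μ ^ q ≠ μ) (x : F) :
    ∃ u v : F, u ^ q = u ∧ v ^ q = v ∧ x = u + v * μ := by
  have hd : μ - μ ^ q ≠ 0 := sub_ne_zero.2 hμ.symm
  have hv : ((x - x ^ q) / (μ - μ ^ q)) ^ q = (x - x ^ q) / (μ - μ ^ q) := by
    rw [div_pow, sub_pow_q hF, sub_pow_q hF, pow_q_q hF, pow_q_q hF, ← neg_sub x (x ^ q),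
      ← neg_sub μ (μ ^ q), neg_div_neg_eq]
  refine ⟨x - (x - x ^ q) / (μ - μ ^ q) * μ, _, ?_, hv, (sub_add_cancel _ _).symm⟩
  rw [sub_pow_q hF, mul_pow, hv]
  linear_combination (div_mul_cancel₀ (x - x ^ q) hd)

/-- An additive map commuting with the torus action is scalar. -/
theorem UFrame.scalar_of_commute (hF : Fintype.card F = q ^ 2) (hn : 3 ≤ n)
    (h32 : ¬ (n = 3 ∧ q = 2)) (B : UFrame n F q)
    (M : (Fin (n - 2) → F) →+ (Fin (n - 2) → F))
    (hM : ∀ l ∈ B.TS, ∀ c, M (B.act l c) = B.act l (M c)) :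
    ∃ m : F, ∀ c, M c = m • c := by
  classical
  let b : Fin (n - 2) → Fin (n - 2) → F → F := fun j i x => M (Pi.single i x) j
  have badd : ∀ j i x y, b j i (x + y) = b j i x + b j i y := fun j i x y => by
    simp only [b, Pi.single_add, map_add, Pi.add_apply]
  -- diagonal torus elements
  have hdiag : ∀ l ∈ B.TS, ∀ D : Fin (n - 2) → F, (∀ c, B.act l c = fun k => D k * c k) →
      ∀ j i x, b j i (D i * x) = D j * b j i x := by
    intro l hl D hD j i x
    have h1 := congrFun (hM l hl (Pi.single i x)) j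
    rw [hD, hD] at h1
    have h2 : (fun k => D k * (Pi.single i x : Fin (n - 2) → F) k) = Pi.single i (D i * x) := by
      funext k
      rcases eq_or_ne k i with rfl | hk
      · simp
      · simp [hk]
    rw [h2] at h1
    exact h1
  have hfix : ∀ j i (ν x : F), ν ^ q = ν → b j i (ν * x) = ν * b j i x := by
    intro j i ν x hν
    rcases eq_or_ne ν 0 with rfl | hν0
    · simp only [b, zero_mul, Pi.single_zero, map_zero, Pi.zero_apply]
    obtain ⟨l, hl, -, hact⟩ := B.exists_diag hF i hν0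
    refine hdiag l hl (fun _ => ν) (fun c => ?_) j i x
    rw [hact]
    funext k
    simp [hν, div_self hν0]
  -- one non-fixed multiplier
  have hone : ∀ j i (μ : F), μ ^ q ≠ μ → ∀ μ' : F,
      (∀ x, b j i (μ * x) = μ' * b j i x) →
      ∀ y x, b j i (y * x) =
        ((y - (y - y ^ q) / (μ - μ ^ q) * μ) + (y - y ^ q) / (μ - μ ^ q) * μ') * b j i x := by
    intro j i μ hμ μ' hμ' y x
    obtain ⟨u, v, hu, hv, hy⟩ := exists_fixed_decomp hF hμ y
    have hv' : (y - y ^ q) / (μ - μ ^ q) = v := by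
      rw [div_eq_iff (sub_ne_zero.2 hμ.symm), hy, add_pow_q hF, mul_pow, hu, hv]; ring
    rw [hv', show y - v * μ = u by rw [hy]; ring]
    conv_lhs => rw [hy, add_mul, badd, hfix _ _ _ _ hu, mul_assoc, hfix _ _ _ _ hv, hμ']
    ring
  -- off-diagonal entries vanish
  have hoff : ∀ j i, j ≠ i → ∀ x, b j i x = 0 := by
    intro j i hji x
    obtain ⟨μ, hμ1, hμ⟩ := exists_norm_one_not_fixed hF
    obtain ⟨l, hl, hact⟩ := B.exists_diag_pair hF hji.symm hμ1
    have hμb : ∀ x, b j i (μ * x) = μ ^ q * b j i x := fun x => by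
      have := hdiag l hl (fun k => if k = i then μ else if k = j then μ ^ q else 1)
        (fun c => by rw [hact]; funext k; split_ifs <;> simp) j i x
      simpa [hji] using this
    have hconj : ∀ y x, b j i (y * x) = y ^ q * b j i x := by
      intro y x
      rw [hone j i μ hμ _ hμb y x]
      congr 1
      have hd : μ - μ ^ q ≠ 0 := sub_ne_zero.2 hμ.symm
      field_simp
      ring
    obtain ⟨a, ha, ha2⟩ := exists_sq_not_fixed hF
    obtain ⟨l', hl', -, hact'⟩ := B.exists_diag hF i ha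
    have h1 := hdiag l' hl' (fun k => if k = i then a ^ q * (a ^ q / a) else a ^ q)
      (fun c => by rw [hact']; funext k; split_ifs <;> rfl) j i x
    simp only [if_true, if_neg hji] at h1
    rw [hconj, mul_pow, div_pow, pow_q_q hF] at h1
    have h2 : (a * a - a ^ q * a ^ q) * b j i x = 0 := by
      field_simp at h1
      linear_combination h1
    refine (mul_eq_zero.1 h2).resolve_left fun h0 => ha2 ?_
    linear_combination -h0
  -- diagonal entries are linear
  have hdg : ∀ i x, b i i x = x * b i i 1 := by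
    intro i x
    obtain ⟨μ, hμ, hμb⟩ : ∃ μ : F, μ ^ q ≠ μ ∧ ∀ x, b i i (μ * x) = μ * b i i x := by
      by_cases hn4 : 4 ≤ n
      · haveI : Nontrivial (Fin (n - 2)) := Fin.nontrivial_iff_two_le.2 (by omega)
        obtain ⟨j, hj⟩ := exists_ne i
        obtain ⟨μ, hμ1, hμ⟩ := exists_norm_one_not_fixed hF
        obtain ⟨l, hl, hact⟩ := B.exists_diag_pair hF hj.symm hμ1
        refine ⟨μ, hμ, fun x => ?_⟩
        have := hdiag l hl (fun k => if k = i then μ else if k = j then μ ^ q else 1)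
          (fun c => by rw [hact]; funext k; split_ifs <;> simp) i i x
        simpa using this
      · obtain ⟨z, hz, hz3⟩ := exists_norm_one_pow3 hF fun h => h32 ⟨by omega, h⟩
        obtain ⟨a, ha, haz⟩ := exists_div_conj hF hz
        obtain ⟨l, hl, -, hact⟩ := B.exists_diag hF i ha
        refine ⟨a ^ q * (a ^ q / a), fun h => hz3 ?_, fun x => ?_⟩
        · rw [mul_pow, div_pow, pow_q_q hF] at h
          have haq : a ^ q ≠ 0 := pow_ne_zero q ha
          field_simp at h
          apply mul_right_cancel₀ (pow_ne_zero 3 haq)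
          rw [one_mul, ← mul_pow, ← haz]
          linear_combination h
        · have := hdiag l hl (fun k => if k = i then a ^ q * (a ^ q / a) else a ^ q)
            (fun c => by rw [hact]; funext k; split_ifs <;> rfl) i i x
          simpa using this
    have := hone i i μ hμ μ hμb x 1
    rw [mul_one] at this
    rw [this]
    ring
  -- and equal
  have heq : ∀ i j, b i i 1 = b j j 1 := by
    intro i j
    rcases eq_or_ne i j with rfl | hij
    · rfl
    obtain ⟨a, _, _, ha, -⟩ := exists_three_norm_neg_one hF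
    obtain ⟨θ, hθ0, hθ⟩ := exists_trace_zero_ne_zero hF
    set v : Fin (n - 2) → F := Pi.single i 1 + a • Pi.single j 1
    obtain ⟨l, hl, hact⟩ := B.exists_torus_tv hF (v := v) (herm_single_pair hF hij ha) hθ
    have hMs : M (Pi.single i 1) = Pi.single i (b i i 1) := by
      funext k
      rcases eq_or_ne k i with rfl | hk
      · simp [b]
      · rw [Pi.single_eq_of_ne hk]; exact hoff k i hk 1
    have h1 := congrFun (hM l hl (Pi.single i 1)) j
    rw [hact, hact, hMs] at h1
    have hv1 : ∀ x : F, hermForm (n - 2) F q (Pi.single i x) v = x := fun x => by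
      rw [show (Pi.single i x : Fin (n - 2) → F) = x • Pi.single i 1 by simp [← Pi.single_smul],
        herm_smul_left]
      simp [v, herm_add_right _ _ _ hF, herm_smul_right, herm_std hF, hij]
    have hsum : (Pi.single i (1 : F) : Fin (n - 2) → F) + θ • v =
        Pi.single i (1 + θ) + Pi.single j (θ * a) := by
      funext k
      simp only [v, Pi.add_apply, Pi.smul_apply, smul_eq_mul]
      rcases eq_or_ne k i with rfl | hk
      · simp [hij]
      · rcases eq_or_ne k j with rfl | hk' <;> simp [*]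
    rw [hv1, hv1, mul_one, hsum, map_add, Pi.add_apply] at h1
    rw [show M (Pi.single i (1 + θ)) j = 0 from hoff j i hij.symm _, zero_add,
      show M (Pi.single j (θ * a)) j = θ * a * b j j 1 from hdg j _] at h1
    simp only [v, Pi.add_apply, Pi.smul_apply, Pi.single_eq_of_ne hij.symm, Pi.single_eq_same,
      smul_eq_mul, zero_add, mul_one] at h1
    have ha0 : a ≠ 0 := fun h => by simp [h] at ha
    apply mul_left_cancel₀ (mul_ne_zero hθ0 ha0)
    linear_combination -h1
  set i0 : Fin (n - 2) := ⟨0, by omega⟩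
  refine ⟨b i0 i0 1, fun c => ?_⟩
  conv_lhs => rw [show c = ∑ i, Pi.single i (c i) from (Finset.univ_sum_single c).symm]
  funext j
  rw [map_sum, Finset.sum_apply, Finset.sum_eq_single j]
  · show b j j (c j) = _
    rw [hdg, heq j i0, Pi.smul_apply, smul_eq_mul, mul_comm]
  · intro i _ hij; exact hoff j i hij.symm _
  · simp

end Cfsg.Agent.Lib.AutPSU
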