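import Mathlib
import Cfsg.Agent.Lib.AutPSU.Torus

/-!
Lib/AutPSU/Match: an automorphism fixing the root groups of a hyperbolic pair acts on `QS e` like a
semilinear unitary map fixing these two lines.
-/

set_option autoImplicit false
set_option linter.unusedSectionVars false

namespace Cfsg.Agent.Lib.AutPSU

open Matrix Cfsg.Agent.Lib.Unitary

variable {F : Type*} [Field F] [Fintype F] {q : ℕ} {n : ℕ}

/-- `semiAut` on representatives. -/
theorem semi_apply (g : GU n F q) (σ : F ≃+* F) (X : SU n F q) (x : Fin n → F) :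
    (conjSU g (fieldSU σ X)).1.1 *ᵥ (g.1.1 *ᵥ sv σ x) = g.1.1 *ᵥ sv σ (X.1.1 *ᵥ x) := by
  rw [coe_conjSU, coe_fieldSU, ← Matrix.mulVec_mulVec, GU_inv_mulVec, ← Matrix.mulVec_mulVec,
    sv_mulVec]

theorem exists_semi_preimage (g : GU n F q) (σ : F ≃+* F) (y : Fin n → F) :
    ∃ x, y = g.1.1 *ᵥ sv σ x :=
  ⟨sv σ.symm (g⁻¹.1.1 *ᵥ y), by rw [sv_symm, GU_mulVec_inv]⟩

theorem mem_RS_semi (g : GU n F q) (σ : F ≃+* F) (X : SU n F q) (e : Fin n → F) :
    conjSU g (fieldSU σ X) ∈ RS (g.1.1 *ᵥ sv σ e) ↔ X ∈ RS e := by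
  constructor
  · intro h x hx
    have h1 := h (g.1.1 *ᵥ sv σ x) (by rw [GU_herm, herm_sv, hx, map_zero])
    rw [semi_apply] at h1
    have h2 := congrArg (sv σ.symm) (GU_mulVec_injective g h1)
    rwa [sv_symm', sv_symm'] at h2
  · intro h y hy
    obtain ⟨x, rfl⟩ := exists_semi_preimage g σ y
    rw [GU_herm, herm_sv, map_eq_zero] at hy
    rw [semi_apply, h x hy]

theorem semiAut_map_R (g : GU n F q) (σ : F ≃+* F) (e : Fin n → F) :
    (R e).map (semiAut g σ).toMonoidHom = R (g.1.1 *ᵥ sv σ e) := by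
  ext y
  constructor
  · rintro ⟨_, ⟨T, hT, rfl⟩, rfl⟩
    exact ⟨_, (mem_RS_semi g σ T e).2 hT, (semiAut_mk g σ T).symm⟩
  · rintro ⟨T, hT, rfl⟩
    obtain ⟨T₀, hT₀⟩ := (conjSU g * fieldSU σ : MulAut (SU n F q)).surjective T
    rw [MulAut.mul_apply] at hT₀
    subst hT₀
    exact ⟨_, ⟨T₀, (mem_RS_semi g σ T₀ e).1 hT, rfl⟩, semiAut_mk g σ T₀⟩

theorem map_inv_of_fix {α : MulAut (PSU n F q)} {S : Subgroup (PSU n F q)}
    (h : S.map α.toMonoidHom = S) : S.map α⁻¹.toMonoidHom = S := by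
  ext y
  constructor
  · rintro ⟨x, hx, rfl⟩
    have hx' : x ∈ S.map α.toMonoidHom := by rw [h]; exact hx
    obtain ⟨z, hz, rfl⟩ := hx'
    simpa using hz
  · intro hy
    exact ⟨α y, h.le ⟨y, hy, rfl⟩, by simp⟩

theorem mem_NS_of_cls (hF : Fintype.card F = q ^ 2) (hn : 2 ≤ n) {e : Fin n → F} {X : SU n F q}
    (h : cls n F q X ∈ N e) : X ∈ NS e := by
  obtain ⟨Y, hY, hYX⟩ := h
  have hz : Y⁻¹ * X ∈ Subgroup.center (SU n F q) := QuotientGroup.eq.1 hYX
  have := mul_mem hY (center_le_NS hF hn e hz)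
  rwa [mul_inv_cancel_left] at this

namespace UFrame

variable (B : UFrame n F q)

/-- `α` fixes the root groups of the pair of the frame. -/
def Fixed (α : MulAut (PSU n F q)) : Prop :=
  (R B.e).map α.toMonoidHom = R B.e ∧ (R B.f).map α.toMonoidHom = R B.f

theorem Fixed.symm {α : MulAut (PSU n F q)} (h : B.Fixed α) : B.Fixed α⁻¹ :=
  ⟨map_inv_of_fix h.1, map_inv_of_fix h.2⟩

variable {B}

theorem eq_of_cls (hF : Fintype.card F = q ^ 2) (hn : 3 ≤ n) {X Y : SU n F q} (hX : X ∈ QS B.e)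
    (hY : Y ∈ QS B.e) (h : cls n F q X = cls n F q Y) : X = Y :=
  eq_of_cls_eq hF (by omega) h (ne_zero_of_hyp B.hyp) hX.1 hY.1

theorem exists_psi (hF : Fintype.card F = q ^ 2) (hn : 3 ≤ n) {α : MulAut (PSU n F q)}
    (hα : B.Fixed α) {X : SU n F q} (hX : X ∈ QS B.e) :
    ∃ Y ∈ QS B.e, cls n F q Y = α (cls n F q X) :=
  (map_Q hF hn α B.hyp B.hyp hα.1).le ⟨_, ⟨X, hX, rfl⟩, rfl⟩

theorem exists_tor (hF : Fintype.card F = q ^ 2) (hn : 3 ≤ n) {α : MulAut (PSU n F q)}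
    (hα : B.Fixed α) {l : SU n F q} (hl : l ∈ B.TS) :
    ∃ l' ∈ B.TS, cls n F q l' = α (cls n F q l) := by
  obtain ⟨l', hl'⟩ := cls_surjective (α (cls n F q l))
  refine ⟨l', ⟨mem_NS_of_cls hF (by omega) ?_, mem_NS_of_cls hF (by omega) ?_⟩, hl'⟩
  · rw [hl']; exact (map_N hF hn α B.hyp B.hyp hα.1).le ⟨_, ⟨l, hl.1, rfl⟩, rfl⟩
  · rw [hl']
    exact (map_N hF hn α (B.hyp.swap hF) (B.hyp.swap hF) hα.2).le ⟨_, ⟨l, hl.2, rfl⟩, rfl⟩

theorem conj_image (hF : Fintype.card F = q ^ 2) (hn : 3 ≤ n) {α : MulAut (PSU n F q)}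
    {l l' X Y : SU n F q} (hl' : l' ∈ B.TS) (hY : Y ∈ QS B.e)
    (h1 : cls n F q l' = α (cls n F q l)) (h2 : cls n F q Y = α (cls n F q X)) :
    l' * Y * l'⁻¹ ∈ QS B.e ∧ cls n F q (l' * Y * l'⁻¹) = α (cls n F q (l * X * l⁻¹)) := by
  refine ⟨(B.conj_coords hF hl' hY).1, ?_⟩
  simp only [map_mul, map_inv, h1, h2]

theorem exists_tau (hF : Fintype.card F = q ^ 2) (hn : 3 ≤ n) {α : MulAut (PSU n F q)}
    (hα : B.Fixed α) :
    ∃ τ : (Fin (n - 2) → F) ≃+ (Fin (n - 2) → F), ∀ X ∈ QS B.e, ∀ Y ∈ QS B.e,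
      cls n F q Y = α (cls n F q X) → B.kap Y = τ (B.kap X) := by
  choose Xc hXc hXk using B.exists_QS' hF
  choose Yc hYc hYcls using fun c => exists_psi hF hn hα (hXc c)
  have key : ∀ X ∈ QS B.e, ∀ Y ∈ QS B.e, cls n F q Y = α (cls n F q X) →
      B.kap Y = B.kap (Yc (B.kap X)) := by
    intro X hX Y hY hcls
    set c := B.kap X
    have hT : X * (Xc c)⁻¹ ∈ QS B.e := mul_mem hX (inv_mem (hXc c))
    have hk : B.kap (X * (Xc c)⁻¹) = 0 := by
      have h := (B.kap_dlt_mul hF hT (hXc c)).1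
      rw [inv_mul_cancel_right, hXk] at h
      exact add_eq_right.1 h.symm
    obtain ⟨T', hT', hT'cls⟩ := hα.1.le ⟨_, ⟨_, (B.mem_RS_iff_kap hF hT).2 hk, rfl⟩, rfl⟩
    have hT'Q := RS_le_QS B.hyp.1 hT'
    have heq : Y = T' * Yc c := eq_of_cls hF hn hY (mul_mem hT'Q (hYc c)) (by
      rw [map_mul, hT'cls, hYcls, hcls, MulEquiv.coe_toMonoidHom, ← map_mul, ← map_mul,
        inv_mul_cancel_right])
    rw [heq, (B.kap_dlt_mul hF hT'Q (hYc c)).1, (B.mem_RS_iff_kap hF hT'Q).1 hT', zero_add]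
  let τ : (Fin (n - 2) → F) →+ (Fin (n - 2) → F) :=
    AddMonoidHom.mk' (fun c => B.kap (Yc c)) fun c c' => by
      have h1 := key _ (mul_mem (hXc c) (hXc c')) _ (mul_mem (hYc c) (hYc c'))
        (by simp only [map_mul, hYcls])
      rw [(B.kap_dlt_mul hF (hXc c) (hXc c')).1, hXk, hXk, (B.kap_dlt_mul hF (hYc c) (hYc c')).1]
        at h1
      exact h1.symm
  have hinj : Function.Injective τ := by
    rw [injective_iff_map_eq_zero]
    intro c hc
    have h1 : Yc c ∈ RS B.e := (B.mem_RS_iff_kap hF (hYc c)).2 hc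
    obtain ⟨T, hT, hTcls⟩ := (map_inv_of_fix hα.1).le ⟨_, ⟨_, h1, rfl⟩, rfl⟩
    rw [MulEquiv.coe_toMonoidHom, hYcls, MulAut.inv_apply_self] at hTcls
    rw [← hXk c, ← B.mem_RS_iff_kap hF (hXc c),
      ← eq_of_cls hF hn (RS_le_QS B.hyp.1 hT) (hXc c) hTcls]
    exact hT
  exact ⟨AddEquiv.ofBijective τ ⟨hinj, (Finite.injective_iff_surjective).1 hinj⟩, key⟩

theorem tau_act (hF : Fintype.card F = q ^ 2) (hn : 3 ≤ n) {α : MulAut (PSU n F q)}
    (hα : B.Fixed α) {τ : (Fin (n - 2) → F) ≃+ (Fin (n - 2) → F)}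
    (hτ : ∀ X ∈ QS B.e, ∀ Y ∈ QS B.e, cls n F q Y = α (cls n F q X) → B.kap Y = τ (B.kap X))
    {l l' : SU n F q} (hl : l ∈ B.TS) (hl' : l' ∈ B.TS)
    (h : cls n F q l' = α (cls n F q l)) (c : Fin (n - 2) → F) :
    τ (B.act l c) = B.act l' (τ c) := by
  obtain ⟨X, hX, rfl⟩ := B.exists_QS' hF c
  obtain ⟨Y, hY, hYX⟩ := exists_psi hF hn hα hX
  obtain ⟨h1, h2⟩ := conj_image hF hn hl' hY h hYX
  obtain ⟨h3, h4, -⟩ := B.conj_coords hF hl hX
  have h5 := hτ _ h3 _ h1 h2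
  rw [h4, (B.conj_coords hF hl' hY).2.1, hτ X hX Y hY hYX] at h5
  exact h5.symm

/-- `τ` is semilinear. -/
theorem tau_semilinear (hF : Fintype.card F = q ^ 2) (hn : 3 ≤ n) (h32 : ¬ (n = 3 ∧ q = 2))
    {α : MulAut (PSU n F q)} (hα : B.Fixed α)
    {τ : (Fin (n - 2) → F) ≃+ (Fin (n - 2) → F)}
    (hτ : ∀ X ∈ QS B.e, ∀ Y ∈ QS B.e, cls n F q Y = α (cls n F q X) → B.kap Y = τ (B.kap X)) :
    ∃ σ : F ≃+* F, ∀ (a : F) c, τ (a • c) = σ a • τ c := by
  have hsc : ∀ a : F, ∃ m : F, ∀ c, τ (a • τ.symm c) = m • c := by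
    intro a
    refine B.scalar_of_commute hF hn h32
      (τ.toAddMonoidHom.comp ((DistribMulAction.toAddMonoidHom _ a).comp τ.symm.toAddMonoidHom)) ?_
    intro l hl c
    obtain ⟨l₀, hl₀, hl₀cls⟩ := exists_tor hF hn (Fixed.symm B hα) hl
    have hcls : cls n F q l = α (cls n F q l₀) := by rw [hl₀cls, MulAut.apply_inv_self]
    have h1 : τ.symm (B.act l c) = B.act l₀ (τ.symm c) := by
      apply τ.injective
      rw [τ.apply_symm_apply, tau_act hF hn hα hτ hl₀ hl hcls, τ.apply_symm_apply]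
    show τ (a • τ.symm (B.act l c)) = B.act l (τ (a • τ.symm c))
    rw [h1, ← act_smul, tau_act hF hn hα hτ hl₀ hl hcls]
  choose m hm using hsc
  have hm' : ∀ (a : F) c, τ (a • c) = m a • τ c := fun a c => by
    rw [← hm a (τ c), τ.symm_apply_apply]
  set c₀ : Fin (n - 2) → F := τ (Pi.single ⟨0, by omega⟩ 1)
  have hc₀ : c₀ ≠ 0 := by
    intro h
    have := congrFun ((map_eq_zero_iff τ τ.injective).1 h) ⟨0, by omega⟩
    simp at this
  have hinj := smul_left_injective F hc₀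
  let σ : F →+* F :=
    { toFun := m
      map_one' := hinj (show m 1 • c₀ = (1 : F) • c₀ by
        rw [← hm', one_smul, one_smul])
      map_mul' := fun a b => hinj (show m (a * b) • c₀ = (m a * m b) • c₀ by
        rw [← hm', ← smul_smul, hm', hm', smul_smul])
      map_zero' := hinj (show m 0 • c₀ = (0 : F) • c₀ by
        rw [← hm', zero_smul, zero_smul, map_zero])
      map_add' := fun a b => hinj (show m (a + b) • c₀ = (m a + m b) • c₀ by
        rw [← hm', add_smul, map_add, hm', hm', ← add_smul]) }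
  exact ⟨RingEquiv.ofBijective σ ⟨σ.injective, Finite.injective_iff_surjective.1 σ.injective⟩, hm'⟩

theorem exists_RS_dlt (hF : Fintype.card F = q ^ 2) {w : F} (hw : w + w ^ q = 0) :
    ∃ T ∈ RS B.e, B.kap T = 0 ∧ B.dlt T = w := by
  obtain ⟨T, hT, hk, hd⟩ := B.exists_QS hF 0 (d := w) (by rw [herm_zero_left, add_zero, hw])
  exact ⟨T, (B.mem_RS_iff_kap hF hT).2 hk, hk, hd⟩

/-- The form is preserved up to a scalar and this scalar gives the map on `RS e`. -/
theorem form_scale (hF : Fintype.card F = q ^ 2) (hn : 3 ≤ n)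
    {α : MulAut (PSU n F q)} (hα : B.Fixed α)
    {τ : (Fin (n - 2) → F) ≃+ (Fin (n - 2) → F)} {σ : F ≃+* F}
    (hτ : ∀ X ∈ QS B.e, ∀ Y ∈ QS B.e, cls n F q Y = α (cls n F q X) → B.kap Y = τ (B.kap X))
    (hσ : ∀ (a : F) c, τ (a • c) = σ a • τ c) :
    ∃ k : F, k ≠ 0 ∧
      (∀ i j, hermForm (n - 2) F q (τ (Pi.single i 1)) (τ (Pi.single j 1)) =
        if i = j then k * k ^ q else 0) ∧
      ∀ T ∈ RS B.e, ∀ T' ∈ RS B.e, cls n F q T' = α (cls n F q T) →
        B.dlt T' = k * k ^ q * σ (B.dlt T) := by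
  classical
  -- images of the root group
  have hroot : ∀ T ∈ RS B.e, ∃ T' ∈ RS B.e, cls n F q T' = α (cls n F q T) := fun T hT => by
    obtain ⟨T', hT', h⟩ := hα.1.le ⟨_, ⟨T, hT, rfl⟩, rfl⟩
    exact ⟨T', hT', h⟩
  set h0 := hermForm (n - 2) F q with hh0
  -- the commutator identity
  have hcomm : ∀ x y, ∀ T ∈ RS B.e, B.dlt T = h0 x y - h0 y x → ∀ T' ∈ RS B.e,
      cls n F q T' = α (cls n F q T) → B.dlt T' = h0 (τ x) (τ y) - h0 (τ y) (τ x) := by
    intro x y T hT hTd T' hT' hTcls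
    obtain ⟨X, hX, hXk⟩ := B.exists_QS' hF x
    obtain ⟨Y, hY, hYk⟩ := B.exists_QS' hF y
    obtain ⟨X', hX', hX'c⟩ := exists_psi hF hn hα hX
    obtain ⟨Y', hY', hY'c⟩ := exists_psi hF hn hα hY
    have hTQ := RS_le_QS B.hyp.1 hT
    have hT'Q := RS_le_QS B.hyp.1 hT'
    have hTk := (B.mem_RS_iff_kap hF hTQ).1 hT
    have hT'k := (B.mem_RS_iff_kap hF hT'Q).1 hT'
    have hXY := B.kap_dlt_mul hF hX hY
    have hYX := B.kap_dlt_mul hF hY hX
    have hTYX := B.kap_dlt_mul hF hTQ (mul_mem hY hX)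
    have hrel : X * Y = T * (Y * X) := by
      refine B.QS_ext hF (mul_mem hX hY) (mul_mem hTQ (mul_mem hY hX)) ?_ ?_
      · rw [hXY.1, hTYX.1, hYX.1, hTk, zero_add, add_comm]
      · rw [hXY.2, hTYX.2, hYX.2, hTd, hTk, herm_zero_right _ hF, hXk, hYk, hh0]
        ring
    have hrel' : X' * Y' = T' * (Y' * X') :=
      eq_of_cls hF hn (mul_mem hX' hY') (mul_mem hT'Q (mul_mem hY' hX')) (by
        simp only [map_mul, hX'c, hY'c, hTcls]
        simp only [← map_mul, hrel])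
    have hd := congrArg B.dlt hrel'
    rw [(B.kap_dlt_mul hF hX' hY').2, (B.kap_dlt_mul hF hT'Q (mul_mem hY' hX')).2,
      (B.kap_dlt_mul hF hY' hX').2, hT'k, herm_zero_right _ hF, hτ X hX X' hX' hX'c,
      hτ Y hY Y' hY' hY'c, hXk, hYk] at hd
    rw [hh0]
    linear_combination -hd
  let H : Fin (n - 2) → Fin (n - 2) → F := fun i j => h0 (τ (Pi.single i 1)) (τ (Pi.single j 1))
  have hsingle : ∀ (i : Fin (n - 2)) (a : F), τ (Pi.single i a) = σ a • τ (Pi.single i 1) := by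
    intro i a
    rw [← hσ, ← Pi.single_smul, smul_eq_mul, mul_one]
  have hH : ∀ i j (a b : F), h0 (τ (Pi.single i a)) (τ (Pi.single j b)) = σ a * σ b ^ q * H i j := by
    intro i j a b
    rw [hsingle i a, hsingle j b, hh0, herm_smul_left, herm_smul_right, ← mul_assoc]
  have hstd : ∀ i j (a b : F), h0 (Pi.single i a) (Pi.single j b) =
      if i = j then a * b ^ q else 0 := by
    intro i j a b
    rw [show (Pi.single i a : Fin (n - 2) → F) = a • Pi.single i 1 by simp [← Pi.single_smul],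
      show (Pi.single j b : Fin (n - 2) → F) = b • Pi.single j 1 by simp [← Pi.single_smul],
      hh0, herm_smul_left, herm_smul_right, herm_std hF]
    split_ifs <;> ring
  -- off-diagonal
  have hoff : ∀ i j, i ≠ j → H i j = 0 := by
    intro i j hij
    have h1 : ∀ a : F, σ a * H i j - σ a ^ q * H j i = 0 := by
      intro a
      obtain ⟨T, hT, hTk, hTd⟩ := exists_RS_dlt (B := B) hF (w := 0) (by simp [zero_pow_q hF])
      have hT1 : T = 1 := B.QS_ext hF (RS_le_QS B.hyp.1 hT) (one_mem _)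
        (by rw [hTk, (B.mem_RS_iff_kap hF (one_mem _)).1 (one_mem _)])
        (by rw [hTd, dlt, show ((1 : SU n F q).1.1 *ᵥ B.f) = B.f by simp, B.hyp.2.1])
      have h2 := hcomm (Pi.single i a) (Pi.single j 1) T hT
        (by rw [hTd, hstd, hstd, if_neg hij, if_neg hij.symm, sub_zero]) 1 (one_mem _)
        (by rw [hT1]; simp)
      rw [hH, hH, map_one, one_pow, mul_one, one_mul, dlt,
        show ((1 : SU n F q).1.1 *ᵥ B.f) = B.f by simp, B.hyp.2.1] at h2
      exact h2.symm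
    obtain ⟨μ, hμ⟩ := exists_not_fixed hF
    obtain ⟨a, rfl⟩ := σ.surjective μ
    have e1 := h1 1
    rw [map_one, one_pow, one_mul, one_mul] at e1
    have h3 : (σ a - σ a ^ q) * H i j = 0 := by linear_combination h1 a - σ a ^ q * e1
    exact (mul_eq_zero.1 h3).resolve_left (sub_ne_zero.2 (Ne.symm hμ))
  -- diagonal
  have hdiag : ∀ i, ∀ w : F, w + w ^ q = 0 → ∀ T ∈ RS B.e, B.dlt T = w → ∀ T' ∈ RS B.e,
      cls n F q T' = α (cls n F q T) → B.dlt T' = H i i * σ w := by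
    intro i w hw T hT hTd T' hT' hcls
    obtain ⟨t, ht⟩ := trace_surj hF (y := 1) (one_pow q)
    have hwa : w * t - (w * t) ^ q = w := by
      rw [mul_pow, show w ^ q = -w by linear_combination hw]; linear_combination w * ht
    have h2 := hcomm (Pi.single i (w * t)) (Pi.single i 1) T hT
      (by rw [hTd, hstd, hstd]; simp [hwa]) T' hT' hcls
    rw [hH, hH, map_one, one_pow, mul_one, one_mul, ← map_pow] at h2
    rw [h2, mul_comm (H i i), ← sub_mul, ← map_sub, hwa]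
  obtain ⟨θ, hθ0, hθ⟩ := exists_trace_zero_ne_zero hF
  obtain ⟨T, hT, -, hTd⟩ := exists_RS_dlt (B := B) hF hθ
  obtain ⟨T', hT', hcls⟩ := hroot T hT
  set i₀ : Fin (n - 2) := ⟨0, by omega⟩
  have hHeq : ∀ i, H i i = H i₀ i₀ := fun i => by
    have h1 := hdiag i θ hθ T hT hTd T' hT' hcls
    rw [hdiag i₀ θ hθ T hT hTd T' hT' hcls] at h1
    exact (mul_right_cancel₀ (by simpa using hθ0) h1).symm
  have hne : H i₀ i₀ ≠ 0 := by
    intro h0'
    have h1 : T' = 1 := by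
      refine B.QS_ext hF (RS_le_QS B.hyp.1 hT') (one_mem _) ?_ ?_
      · rw [(B.mem_RS_iff_kap hF (RS_le_QS B.hyp.1 hT')).1 hT',
          (B.mem_RS_iff_kap hF (one_mem _)).1 (one_mem _)]
      · rw [hdiag i₀ θ hθ T hT hTd T' hT' hcls, h0', zero_mul, dlt,
          show ((1 : SU n F q).1.1 *ᵥ B.f) = B.f by simp, B.hyp.2.1]
    rw [h1, map_one] at hcls
    have h2 : cls n F q T = cls n F q 1 := by
      rw [map_one]; exact (map_eq_one_iff α α.injective).1 hcls.symm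
    have h3 := congrArg B.dlt (eq_of_cls hF hn (RS_le_QS B.hyp.1 hT) (one_mem _) h2)
    rw [hTd, dlt, show ((1 : SU n F q).1.1 *ᵥ B.f) = B.f by simp, B.hyp.2.1] at h3
    exact hθ0 h3
  obtain ⟨k, hk⟩ := norm_surj hF (y := H i₀ i₀) (herm_self_fixed _ hF)
  refine ⟨k, fun h => hne (by rw [← hk, h, zero_mul]), fun i j => ?_, fun T hT T' hT' hcls => ?_⟩
  · rcases eq_or_ne i j with rfl | hij
    · rw [if_pos rfl, hk]; exact hHeq i
    · rw [if_neg hij]; exact hoff i j hij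
  · rw [hk]
    refine hdiag i₀ _ ?_ T hT rfl T' hT' hcls
    have h := (B.eich_of_mem hF (RS_le_QS B.hyp.1 hT)).2
    rwa [(B.mem_RS_iff_kap hF (RS_le_QS B.hyp.1 hT)).1 hT, herm_zero_left, add_zero] at h

/-- Matching by a semilinear map. -/
theorem exists_match (hF : Fintype.card F = q ^ 2) (hn : 3 ≤ n) (h32 : ¬ (n = 3 ∧ q = 2))
    {α : MulAut (PSU n F q)} (hα : B.Fixed α) :
    ∃ (g : GU n F q) (σ : F ≃+* F), B.Fixed ((semiAut g σ)⁻¹ * α) ∧
      ∀ X ∈ QS B.e, ∀ Y ∈ QS B.e, cls n F q Y = ((semiAut g σ)⁻¹ * α) (cls n F q X) →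
        B.kap Y = B.kap X ∧ (X ∈ RS B.e → B.dlt Y = B.dlt X) := by
  obtain ⟨τ, hτ⟩ := exists_tau hF hn hα
  obtain ⟨σ, hσ⟩ := tau_semilinear hF hn h32 hα hτ
  obtain ⟨k, hk0, hkH, hkd⟩ := form_scale hF hn hα hτ hσ
  have hkq : k ^ q ≠ 0 := pow_ne_zero q hk0
  set u : Fin (n - 2) → Fin n → F := fun i => (k ^ q)⁻¹ • B.vec (τ (Pi.single i 1))
  set b : Fin 2 ⊕ Fin (n - 2) → Fin n → F :=
    fun i => sv σ (Sum.elim ![B.e, B.f] B.g i) with hb
  have hbli : LinearIndependent F b := by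
    rw [Fintype.linearIndependent_iff]
    intro c hc
    have h1 := congrArg (sv σ.symm) hc
    have h2 : sv σ.symm (∑ i, c i • b i) =
        ∑ i, σ.symm (c i) • Sum.elim ![B.e, B.f] B.g i := by
      funext k
      simp [b, Finset.sum_apply, map_sum]
    rw [h2, sv_zero] at h1
    intro i
    have := Fintype.linearIndependent_iff.1 B.indep _ h1 i
    simpa using this
  obtain ⟨g, hg⟩ := exists_GU_of_gram hF hbli
    (c := Sum.elim ![k • B.e, (k ^ q)⁻¹ • B.f] u) (by simp; omega) (by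
      have hue : ∀ i, hermForm n F q (u i) B.e = 0 := fun i => by
        simp only [u, herm_smul_left, B.vec_e, mul_zero]
      have huf : ∀ i, hermForm n F q (u i) B.f = 0 := fun i => by
        simp only [u, herm_smul_left, B.vec_f, mul_zero]
      rintro (i | i) (j | j)
      · fin_cases i <;> fin_cases j <;>
          simp [b, herm_sv, herm_smul_left, herm_smul_right, B.hyp.1, B.hyp.2.1, B.hyp.2.2,
            B.hyp.symm' hF, pow_q_q hF, hk0, hkq]
      · fin_cases i <;>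
          simp [b, herm_sv, herm_smul_left, herm_smul_right, herm_eq_zero_symm hF (hue j),
            herm_eq_zero_symm hF (huf j), herm_eq_zero_symm hF (B.perp_ef j).1,
            herm_eq_zero_symm hF (B.perp_ef j).2]
      · fin_cases j <;>
          simp [b, herm_sv, herm_smul_left, herm_smul_right, hue i, huf i, (B.perp_ef i).1,
            (B.perp_ef i).2]
      · simp only [b, herm_sv, Sum.elim_inr, B.orth i j, u, herm_smul_left, herm_smul_right,
          B.vec_herm hF, hkH i j]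
        split_ifs
        · rw [map_one, inv_pow, pow_q_q hF]; field_simp
        · rw [map_zero]; ring)
  have hge : g.1.1 *ᵥ sv σ B.e = k • B.e := by simpa [b] using hg (Sum.inl 0)
  have hgf : g.1.1 *ᵥ sv σ B.f = (k ^ q)⁻¹ • B.f := by simpa [b] using hg (Sum.inl 1)
  have hgi : ∀ i, g.1.1 *ᵥ sv σ (B.g i) = u i := fun i => by simpa [b] using hg (Sum.inr i)
  have hfix : B.Fixed (semiAut g σ) :=
    ⟨by rw [semiAut_map_R, hge, R_smul hk0], by rw [semiAut_map_R, hgf, R_smul (inv_ne_zero hkq)]⟩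
  have hfix' : B.Fixed ((semiAut g σ)⁻¹ * α) := by
    have h' := Fixed.symm B hfix
    constructor
    · conv_rhs => rw [← h'.1, ← hα.1, Subgroup.map_map]
      rfl
    · conv_rhs => rw [← h'.2, ← hα.2, Subgroup.map_map]
      rfl
  refine ⟨g, σ, hfix', fun X hX Y hY hcls => ?_⟩
  -- the image of `Y` under the semilinear map
  have hτc : ∀ c, τ c = ∑ i, σ (c i) • τ (Pi.single i 1) := fun c => by
    conv_lhs => rw [show c = ∑ i, c i • Pi.single i (1 : F) from pi_eq_sum_univ' c]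
    rw [map_sum]
    exact Finset.sum_congr rfl fun i _ => hσ _ _
  have hvecsum : ∀ c, g.1.1 *ᵥ sv σ (B.vec c) = (k ^ q)⁻¹ • B.vec (τ c) := fun c => by
    have h1 : sv σ (B.vec c) = ∑ i, σ (c i) • sv σ (B.g i) := by
      funext j; simp [vec, Finset.sum_apply, map_sum]
    rw [h1, Matrix.mulVec_sum, hτc c]
    simp only [Matrix.mulVec_smul, hgi, u]
    simp only [vec, Finset.sum_apply, Pi.smul_apply, smul_eq_mul, Finset.sum_smul,
      Finset.smul_sum, smul_smul]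
    rw [Finset.sum_comm]
    exact Finset.sum_congr rfl fun i _ => Finset.sum_congr rfl fun j _ => by ring_nf
  set Z := conjSU g (fieldSU σ Y) with hZdef
  have hZcls : cls n F q Z = α (cls n F q X) := by
    have h1 : (semiAut g σ) (cls n F q Y) = α (cls n F q X) := by
      rw [hcls, MulAut.mul_apply, MulAut.apply_inv_self]
    rw [← h1]
    rfl
  obtain ⟨X', hX', hX'c⟩ := exists_psi hF hn hα hX
  have hZe : Z.1.1 *ᵥ B.e = B.e := by
    have h1 := semi_apply g σ Y B.e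
    rw [hY.1, hge, Matrix.mulVec_smul] at h1
    exact smul_right_injective _ hk0 h1
  have hZX' : Z = X' := eq_of_cls_eq hF (by omega) (hZcls.trans hX'c.symm) (ne_zero_of_hyp B.hyp)
    hZe hX'.1
  have hYf : Y.1.1 *ᵥ B.f = B.f + B.vec (B.kap Y) + B.dlt Y • B.e := by
    have := (B.eich_of_mem hF hY).1 B.f
    rw [suToGU_val, B.hyp.symm' hF, herm_eq_zero_symm hF (B.vec_f _)] at this
    simpa using this
  have hZf : Z.1.1 *ᵥ B.f =
      B.f + B.vec (τ (B.kap Y)) + (k ^ q * (σ (B.dlt Y) * k)) • B.e := by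
    have h1 := semi_apply g σ Y B.f
    rw [hgf, Matrix.mulVec_smul, hYf, sv_add, sv_add, sv_smul, Matrix.mulVec_add,
      Matrix.mulVec_add, Matrix.mulVec_smul, hgf, hvecsum, hge, inv_smul_eq_iff₀ hkq] at h1
    rw [hZdef, h1, smul_add, smul_add, smul_inv_smul₀ hkq, smul_inv_smul₀ hkq, smul_smul,
      smul_smul, mul_assoc]
  have hkap : B.kap Z = τ (B.kap Y) := by
    funext i
    rw [kap, hZf]
    simp [herm_add_left, herm_smul_left, B.vec_g, herm_eq_zero_symm hF (B.perp_ef i).1,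
      herm_eq_zero_symm hF (B.perp_ef i).2]
  have hdlt : B.dlt Z = k ^ q * (σ (B.dlt Y) * k) := by
    rw [dlt, hZf]
    simp [herm_add_left, herm_smul_left, B.vec_f, B.hyp.2.1, B.hyp.2.2]
  rw [hZX'] at hkap hdlt
  have hkk : B.kap Y = B.kap X := τ.injective (by rw [← hkap, hτ X hX X' hX' hX'c])
  refine ⟨hkk, fun hXR => ?_⟩
  have hX'R : X' ∈ RS B.e := by
    rw [B.mem_RS_iff_kap hF hX', hkap, hkk, (B.mem_RS_iff_kap hF hX).1 hXR, map_zero]
  rw [hkd X hXR X' hX'R hX'c] at hdlt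
  apply σ.injective
  apply mul_left_cancel₀ (mul_ne_zero hk0 hkq)
  linear_combination -hdlt

end UFrame

end Cfsg.Agent.Lib.AutPSU
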