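import Mathlib
import Cfsg.Agent.Lib.AutPSU.Match

/-!
Lib/AutPSU/Main: every automorphism of `PSU n` (`n ≥ 3`, not `(3, 2)`) is induced by a semilinear
unitary map.
-/

set_option autoImplicit false
set_option linter.unusedSectionVars false

namespace Cfsg.Agent.Lib.AutPSU

open Matrix Cfsg.Agent.Lib.Unitary

variable {F : Type*} [Field F] [Fintype F] {q : ℕ} {n : ℕ}

namespace UFrame

variable {B : UFrame n F q}

/-- The normalised automorphism fixes `QS e` pointwise. -/
theorem fix_QS (hF : Fintype.card F = q ^ 2) (hn : 3 ≤ n) (h32 : ¬ (n = 3 ∧ q = 2))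
    {α : MulAut (PSU n F q)} (hα : B.Fixed α)
    (hmatch : ∀ X ∈ QS B.e, ∀ Y ∈ QS B.e, cls n F q Y = α (cls n F q X) →
      B.kap Y = B.kap X ∧ (X ∈ RS B.e → B.dlt Y = B.dlt X)) :
    ∀ X ∈ QS B.e, α (cls n F q X) = cls n F q X := by
  classical
  choose ψ hψ hψc using fun X : QS (q := q) B.e => exists_psi hF hn hα X.2
  have hψk : ∀ X, B.kap (ψ X) = B.kap X.1 := fun X => (hmatch _ X.2 _ (hψ X) (hψc X)).1
  have hψmul : ∀ X Y, ψ (X * Y) = ψ X * ψ Y := fun X Y =>
    eq_of_cls hF hn (hψ _) (mul_mem (hψ X) (hψ Y)) (by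
      rw [hψc, map_mul, hψc, hψc, Subgroup.coe_mul, map_mul, map_mul])
  let D : QS (q := q) B.e → F := fun X => B.dlt (ψ X) - B.dlt X.1
  have hDmul : ∀ X Y, D (X * Y) = D X + D Y := fun X Y => by
    show B.dlt (ψ (X * Y)) - B.dlt (X.1 * Y.1) = _
    rw [hψmul, (B.kap_dlt_mul hF (hψ X) (hψ Y)).2, (B.kap_dlt_mul hF X.2 Y.2).2, hψk, hψk]
    simp only [D]; ring
  have hDzero : ∀ X : QS (q := q) B.e, B.kap X.1 = 0 → D X = 0 := fun X hX =>
    sub_eq_zero.2 ((hmatch _ X.2 _ (hψ X) (hψc X)).2 ((B.mem_RS_iff_kap hF X.2).2 hX))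
  have hDeq : ∀ X Y : QS (q := q) B.e, B.kap X.1 = B.kap Y.1 → D X = D Y := by
    intro X Y h
    have h1 : B.kap (X * Y⁻¹).1 = 0 := by
      have h2 := (B.kap_dlt_mul hF (X * Y⁻¹).2 Y.2).1
      rw [← Subgroup.coe_mul, inv_mul_cancel_right, h] at h2
      exact add_eq_right.1 h2.symm
    have h3 := hDmul (X * Y⁻¹) Y
    rw [inv_mul_cancel_right, hDzero _ h1, zero_add] at h3
    exact h3
  choose Xc hXc hXk using B.exists_QS' hF
  let Δ : (Fin (n - 2) → F) → F := fun c => D ⟨Xc c, hXc c⟩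
  have hΔ : ∀ X : QS (q := q) B.e, D X = Δ (B.kap X.1) := fun X =>
    hDeq _ _ (hXk _).symm
  let Δh : (Fin (n - 2) → F) →+ F := AddMonoidHom.mk' Δ fun c c' => by
    have h := hDmul ⟨Xc c, hXc c⟩ ⟨Xc c', hXc c'⟩
    rw [hΔ] at h
    rw [Subgroup.coe_mul, (B.kap_dlt_mul hF (hXc c) (hXc c')).1, hXk, hXk] at h
    exact h
  have hτ : ∀ X ∈ QS B.e, ∀ Y ∈ QS B.e, cls n F q Y = α (cls n F q X) →
      B.kap Y = AddEquiv.refl (Fin (n - 2) → F) (B.kap X) :=
    fun X hX Y hY h => (hmatch X hX Y hY h).1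
  have hΔact : ∀ l ∈ B.TS, ∀ c, Δh (B.act l c) = B.lam l ^ (q + 1) * Δh c := by
    intro l hl c
    obtain ⟨l', hl', hcls⟩ := exists_tor hF hn hα hl
    -- `l'` has the same norm of eigenvalue, seen on a root element
    obtain ⟨θ, hθ0, hθ⟩ := exists_trace_zero_ne_zero hF
    obtain ⟨T, hT, -, hTd⟩ := exists_RS_dlt (B := B) hF hθ
    have hTQ := RS_le_QS B.hyp.1 hT
    have hT' := (hmatch _ hTQ _ (hψ ⟨T, hTQ⟩) (hψc ⟨T, hTQ⟩)).2 hT
    obtain ⟨c1, c2⟩ := conj_image hF hn hl' (hψ ⟨T, hTQ⟩) hcls (hψc ⟨T, hTQ⟩)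
    have hN : B.lam l ^ (q + 1) = B.lam l' ^ (q + 1) := by
      have h1 := (hmatch _ (B.conj_coords hF hl hTQ).1 _ c1 c2).2 (NS_conj_RS hl.1 hT)
      rw [(B.conj_coords hF hl hTQ).2.2, (B.conj_coords hF hl' (hψ ⟨T, hTQ⟩)).2.2, hT', hTd] at h1
      exact (mul_right_cancel₀ hθ0 h1).symm
    obtain ⟨d1, d2⟩ := conj_image hF hn hl' (hψ ⟨Xc c, hXc c⟩) hcls (hψc ⟨Xc c, hXc c⟩)
    obtain ⟨a1, a2, a3⟩ := B.conj_coords hF hl (hXc c)
    have hψl : ψ ⟨_, a1⟩ = l' * ψ ⟨Xc c, hXc c⟩ * l'⁻¹ :=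
      eq_of_cls hF hn (hψ _) d1 ((hψc _).trans d2.symm)
    have h2 := hΔ ⟨_, a1⟩
    simp only [D] at h2
    rw [hψl, (B.conj_coords hF hl' (hψ _)).2.2, a3, ← hN, a2, hXk] at h2
    show Δ (B.act l c) = _ * Δ c
    rw [← h2]
    simp only [Δ, D]; ring
  have hΔzero : ∀ c, Δh c = 0 := by
    intro c
    rw [show c = ∑ j, Pi.single j (c j) from (Finset.univ_sum_single c).symm, map_sum]
    refine Finset.sum_eq_zero fun j _ => ?_
    obtain ⟨z, hz, m, hm, hl⟩ : ∃ z : F, z * z ^ q = 1 ∧ ∃ m : F, m ≠ 1 ∧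
        ∃ l ∈ B.TS, B.lam l = z ∧ ∀ x, B.act l (Pi.single j x) = Pi.single j (m * x) := by
      by_cases hn4 : 4 ≤ n
      · haveI : Nontrivial (Fin (n - 2)) := Fin.nontrivial_iff_two_le.2 (by omega)
        obtain ⟨i, hi⟩ := exists_ne j
        obtain ⟨μ, hμ, hμ'⟩ := exists_norm_one_not_fixed hF
        have hμ0 : μ ≠ 0 := fun h => by simp [h] at hμ
        obtain ⟨l, hl, hlam, hact⟩ := B.exists_diag hF i hμ0
        refine ⟨μ, hμ, μ ^ q, fun h => hμ' ?_, l, hl, hlam, fun x => ?_⟩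
        · rw [h, mul_one] at hμ; rw [h, hμ]
        · rw [hact]
          funext k
          rcases eq_or_ne k j with rfl | hk
          · simp [hi.symm]
          · simp [hk]
      · haveI : Subsingleton (Fin (n - 2)) := Fin.subsingleton_iff_le_one.2 (by omega)
        obtain ⟨z, hz, hz3⟩ := exists_norm_one_pow3 hF fun h => h32 ⟨by omega, h⟩
        have hz0 : z ≠ 0 := fun h => by simp [h] at hz
        obtain ⟨l, hl, hlam, hact⟩ := B.exists_diag hF j hz0
        refine ⟨z, hz, z ^ q * (z ^ q / z), fun h => hz3 ?_, l, hl, hlam, fun x => ?_⟩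
        · have hzq : z ^ q = z⁻¹ := eq_inv_of_mul_eq_one_right hz
          rw [hzq] at h
          field_simp at h
          linear_combination -h
        · rw [hact]
          funext k
          rw [Subsingleton.elim k j]
          simp
    obtain ⟨l, hl, hlam, hact⟩ := hl
    have hm0 : m - 1 ≠ 0 := sub_ne_zero.2 hm
    have h1 := hΔact l hl (Pi.single j (c j / (m - 1)))
    rw [hact, hlam, pow_succ', hz, one_mul] at h1
    have h2 : (Pi.single j (c j) : Fin (n - 2) → F) =
        Pi.single j (m * (c j / (m - 1))) - Pi.single j (c j / (m - 1)) := by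
      rw [← Pi.single_sub]
      congr 1
      field_simp
    rw [h2, map_sub, h1, sub_self]
  intro X hX
  rw [← hψc ⟨X, hX⟩]
  refine congrArg _ (B.QS_ext hF (hψ _) hX (hψk _) (sub_eq_zero.1 ?_))
  show D ⟨X, hX⟩ = 0
  rw [hΔ]
  exact hΔzero _

end UFrame

open UFrame in
/-- A normalised automorphism is the identity. -/
theorem eq_one_of_match (hF : Fintype.card F = q ^ 2) (hn : 3 ≤ n) (h32 : ¬ (n = 3 ∧ q = 2))
    {B : UFrame n F q} {α : MulAut (PSU n F q)} (hα : B.Fixed α)
    (hmatch : ∀ X ∈ QS B.e, ∀ Y ∈ QS B.e, cls n F q Y = α (cls n F q X) →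
      B.kap Y = B.kap X ∧ (X ∈ RS B.e → B.dlt Y = B.dlt X)) : α = 1 := by
  let Fix : Subgroup (SU n F q) :=
    { carrier := {X | α (cls n F q X) = cls n F q X}
      one_mem' := by simp
      mul_mem' := fun {X Y} hX hY => by
        simp only [Set.mem_setOf_eq, map_mul] at *
        rw [hX, hY]
      inv_mem' := fun {X} hX => by
        simp only [Set.mem_setOf_eq, map_inv] at *
        rw [hX] }
  have hFix : ∀ {X : SU n F q}, X ∈ Fix ↔ α (cls n F q X) = cls n F q X := Iff.rfl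
  have hQe : QS B.e ≤ Fix := fix_QS hF hn h32 hα hmatch
  have hef : Hyp q B.e B.f := B.hyp
  -- the opposite root group
  have hRf : RS B.f ≤ Fix := by
    intro T hT
    obtain ⟨c, hc, hTc⟩ := (mem_RS_iff hF (hef.swap hF)).1 hT
    rcases eq_or_ne c 0 with rfl | hc0
    · rw [show T = 1 from suToGU_injective (GU_ext fun x => by rw [hTc x, map_one]; simp)]
      exact one_mem _
    obtain ⟨T', hT', hT'c⟩ := hα.2.le ⟨_, ⟨T, hT, rfl⟩, rfl⟩
    obtain ⟨c', -, hTc'⟩ := (mem_RS_iff hF (hef.swap hF)).1 hT'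
    have ha : -c⁻¹ + (-c⁻¹) ^ q = 0 := by
      rw [neg_pow_q hF, inv_pow, show c ^ q = -c by linear_combination hc, inv_neg]; ring
    obtain ⟨A, hA⟩ := exists_SU_tv hF hef.1 ha
    have hAmem : A ∈ RS B.e := (mem_RS_iff hF hef).2 ⟨_, ha, hA⟩
    have hAfix : α (cls n F q A) = cls n F q A := hQe (RS_le_QS hef.1 hAmem)
    have hAe : A.1.1 *ᵥ B.e = B.e := hA.fix hef.1
    have hAf : A.1.1 *ᵥ B.f = B.f + (-c⁻¹) • B.e := by
      have := hA B.f
      rw [suToGU_val, hef.symm' hF, mul_one] at this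
      exact this
    have hTe : ∀ (S : SU n F q) (d : F), IsTvAt B.f d (suToGU n F q S) →
        (A * S * A).1.1 *ᵥ B.e = (1 - d * c⁻¹) • B.e + d • B.f := by
      intro S d hS
      have := hS B.e
      rw [suToGU_val, hef.2.2, mul_one] at this
      rw [SU_mul_mulVec, SU_mul_mulVec, hAe, this, Matrix.mulVec_add, Matrix.mulVec_smul, hAe, hAf,
        smul_add, smul_smul, sub_smul, one_smul, mul_neg, neg_smul]
      abel
    have hr : (R B.e).map (MulAut.conj (cls n F q (A * T * A))).toMonoidHom = R (q := q) B.f := by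
      rw [map_conj_R, hTe T c hTc, mul_inv_cancel₀ hc0, sub_self, zero_smul, zero_add, R_smul hc0]
    have hr' : (R B.e).map (MulAut.conj (cls n F q (A * T' * A))).toMonoidHom = R (q := q) B.f := by
      conv_lhs => rw [← hα.1]
      conv_rhs => rw [← hα.2, ← hr]
      rw [Subgroup.map_map, Subgroup.map_map]
      congr 1
      ext x
      simp only [MonoidHom.comp_apply, MulEquiv.coe_toMonoidHom, MulAut.mul_apply, MulAut.conj_apply, map_mul, map_inv, hAfix, hT'c]
    have hvec : IsoVec q ((A * T' * A).1.1 *ᵥ B.e) :=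
      ⟨fun h0 => ne_zero_of_hyp hef (by
        rw [← SU_inv_mulVec (A * T' * A) B.e, h0, Matrix.mulVec_zero]),
        by rw [SU_herm, hef.1]⟩
    rw [map_conj_R] at hr'
    obtain ⟨a, -, ha'⟩ := R_inj hF hn hvec ⟨ne_zero_of_hyp (hef.swap hF), hef.2.1⟩ hr'
    have h4 := congrArg (fun v => hermForm n F q v B.f) ha'
    simp only [hTe T' c' hTc', herm_smul_left, herm_add_left, hef.2.1, hef.2.2, mul_one, mul_zero,
      add_zero] at h4
    have hcc : c' = c := by
      rcases mul_eq_zero.1 h4.symm with h5 | h5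
      · exfalso
        rw [h5, zero_smul] at ha'
        exact ne_zero_of_hyp (hef.swap hF) ha'
      · have h6 := (sub_eq_zero.1 h5).symm
        rw [← div_eq_mul_inv, div_eq_one_iff_eq hc0] at h6
        exact h6
    rw [hFix, ← MulEquiv.coe_toMonoidHom, ← hT'c]
    exact congrArg _ (suToGU_injective ((hcc ▸ hTc').unique hTc))
  -- conjugation moves fixed `QS`
  have hconj : ∀ {v : Fin n → F} {Z : SU n F q}, Z ∈ Fix → QS v ≤ Fix →
      QS (Z.1.1 *ᵥ v) ≤ Fix := by
    intro v Z hZ hv X hX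
    have h1 := QS_conj Z⁻¹ hX
    rw [SU_inv_mulVec] at h1
    have h2 := mul_mem (mul_mem hZ (hv h1)) (inv_mem hZ)
    simpa [mul_assoc] using h2
  have hsm : ∀ {v : Fin n → F} {a : F}, a ≠ 0 → QS v ≤ Fix → QS (a • v) ≤ Fix :=
    fun ha h => by rwa [QS_smul ha]
  -- the rotation gives `QS f`
  have hQf : QS B.f ≤ Fix := by
    obtain ⟨θ, hθ0, hθ⟩ := exists_trace_zero_ne_zero hF
    have ha : -θ⁻¹ + (-θ⁻¹) ^ q = 0 := by
      rw [neg_pow_q hF, inv_pow, show θ ^ q = -θ by linear_combination hθ, inv_neg]; ring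
    obtain ⟨A, hA⟩ := exists_SU_tv hF hef.1 ha
    obtain ⟨T, hT⟩ := exists_SU_tv hF hef.2.1 hθ
    have hAF : A ∈ Fix := hQe (RS_le_QS hef.1 ((mem_RS_iff hF hef).2 ⟨_, ha, hA⟩))
    have hTF : T ∈ Fix := hRf ((mem_RS_iff hF (hef.swap hF)).2 ⟨_, hθ, hT⟩)
    have hr : (A * T * A).1.1 *ᵥ B.e = θ • B.f := by
      have h1 := hA.fix hef.1
      have h2 := hT B.e
      have h3 := hA B.f
      rw [suToGU_val] at h1 h2 h3
      rw [hef.2.2, mul_one] at h2
      rw [hef.symm' hF, mul_one] at h3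
      rw [SU_mul_mulVec, SU_mul_mulVec, h1, h2, Matrix.mulVec_add, Matrix.mulVec_smul, h1, h3,
        smul_add, smul_smul, show θ * -θ⁻¹ = -1 by field_simp]
      simp
    have := hconj (mul_mem (mul_mem hAF hTF) hAF) hQe
    rw [hr, QS_smul hθ0] at this
    exact this
  -- moving along a fixed hyperbolic pair
  have hstep : ∀ {a b : Fin n → F}, Hyp q a b → QS a ≤ Fix → QS b ≤ Fix →
      ∀ {v : Fin n → F}, hermForm n F q v v = 0 → hermForm n F q a v ≠ 0 → QS v ≤ Fix := by
    intro a b h haF hbF v hv hav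
    set s := (hermForm n F q a v ^ q)⁻¹
    have hs : s ≠ 0 := inv_ne_zero (pow_ne_zero q hav)
    have h' := hyp_of_nonorth hF h.1 hv hav
    set v' := s • v
    set d := hermForm n F q v' b
    set z := v' - b - d • a
    have hze : hermForm n F q z a = 0 := by
      simp [z, herm_sub_left, herm_smul_left, h.1, h.symm' hF, h'.symm' hF, v', s]
    have hzb : hermForm n F q z b = 0 := by
      simp [z, herm_sub_left, herm_smul_left, h.2.1, h.2.2, d]
    have hd : d + d ^ q + hermForm n F q z z = 0 := by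
      have h1 := h'.2.1
      change hermForm n F q v' v' = 0 at h1
      rw [show v' = b + z + d • a by simp only [z]; abel] at h1
      simp only [herm_add_left, herm_add_right _ _ _ hF, herm_smul_left, herm_smul_right, h.1,
        h.2.1, h.2.2, h.symm' hF, hze, hzb, herm_eq_zero_symm hF hze, herm_eq_zero_symm hF hzb,
        mul_zero, mul_one, zero_add, add_zero] at h1
      linear_combination h1
    obtain ⟨Z, hZ⟩ := exists_SU_eich hF h.1 hze hd
    have hZb : Z.1.1 *ᵥ b = v' := by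
      have := hZ b
      rw [suToGU_val, h.symm' hF, herm_eq_zero_symm hF hzb] at this
      rw [this]
      simp only [z, one_smul, mul_one, sub_zero]
      abel
    have h5 := hconj (haF (mem_QS_of_eich hF h.1 hze hZ)) hbF
    rw [hZb] at h5
    have h6 := hsm (inv_ne_zero hs) h5
    rwa [inv_smul_smul₀ hs] at h6
  have hall : ∀ {v : Fin n → F}, v ≠ 0 → hermForm n F q v v = 0 → QS v ≤ Fix := by
    intro v hv0 hv
    by_cases hev : hermForm n F q B.e v = 0
    · obtain ⟨x, hx, hex, hvx⟩ := exists_common_nonorth hF (ne_zero_of_hyp hef) hef.1 hv0 hev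
      have hxF : QS x ≤ Fix := hstep hef hQe hQf hx hex
      have hxe : hermForm n F q x B.e ≠ 0 := fun h0 => hex (herm_eq_zero_symm hF h0)
      exact hstep (hyp_of_nonorth hF hx hef.1 hxe) hxF
        (hsm (inv_ne_zero (pow_ne_zero q hxe)) hQe) hv fun h0 => hvx (herm_eq_zero_symm hF h0)
    · exact hstep hef hQe hQf hv hev
  have htop : Fix = ⊤ := by
    rw [eq_top_iff, ← suTransvections_closure hF hn h32, Subgroup.closure_le]
    rintro X ⟨v, c, hv, hc, hX⟩
    rcases eq_or_ne v 0 with rfl | hv0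
    · rw [show X = 1 from suToGU_injective (GU_ext fun x => by rw [hX x, map_one]; simp)]
      exact one_mem _
    refine hall hv0 hv (RS_le_QS hv fun x hx => ?_)
    simpa using hX.fix hx
  refine MulEquiv.ext fun y => ?_
  obtain ⟨Y, rfl⟩ := cls_surjective y
  exact hFix.1 (htop ▸ Subgroup.mem_top Y : Y ∈ Fix)

/-- Every automorphism of `PSU n` is semilinear. -/
theorem exists_semiAut (hF : Fintype.card F = q ^ 2) (hn : 3 ≤ n) (h32 : ¬ (n = 3 ∧ q = 2))
    (α : MulAut (PSU n F q)) : ∃ (g : GU n F q) (σ : F ≃+* F), α = semiAut g σ := by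
  obtain ⟨B⟩ := UFrame.exists_frame (F := F) (n := n) hF (by omega)
  have hef := B.hyp
  obtain ⟨e', he', hRe⟩ := exists_image_R hF hn α hef
  obtain ⟨f', hf', hRf⟩ := exists_image_R hF hn α (hef.swap hF)
  have hne : hermForm n F q e' f' ≠ 0 := by
    intro h0
    have hcomm := (commute_R_iff hF hn he' hf').2 h0
    have h1 : hermForm n F q B.e B.f = 0 := by
      refine (commute_R_iff hF hn ⟨ne_zero_of_hyp hef, hef.1⟩
        ⟨ne_zero_of_hyp (hef.swap hF), hef.2.1⟩).1 fun x hx y hy => ?_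
      apply α.injective
      rw [map_mul, map_mul]
      exact hcomm _ (hRe.le ⟨x, hx, rfl⟩) _ (hRf.le ⟨y, hy, rfl⟩)
    rw [hef.2.2] at h1
    exact one_ne_zero h1
  have hs : ((hermForm n F q e' f') ^ q)⁻¹ ≠ 0 := inv_ne_zero (pow_ne_zero q hne)
  obtain ⟨A, -, hAe, hAf⟩ := exists_SU_hyp hF hn (hyp_of_nonorth hF he'.2 hf'.2 hne) hef
  have hβ : B.Fixed (semiAut A 1 * α) := by
    constructor
    · have h : ((R B.e).map α.toMonoidHom).map (semiAut A 1).toMonoidHom = R (q := q) B.e := by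
        rw [hRe, semiAut_map_R, show sv (1 : F ≃+* F) e' = e' from rfl, hAe]
      rw [Subgroup.map_map] at h
      exact h
    · have h : ((R B.f).map α.toMonoidHom).map (semiAut A 1).toMonoidHom = R (q := q) B.f := by
        rw [hRf, ← R_smul hs, semiAut_map_R,
          show sv (1 : F ≃+* F) ((hermForm n F q e' f' ^ q)⁻¹ • f') =
            (hermForm n F q e' f' ^ q)⁻¹ • f' from rfl, hAf]
      rw [Subgroup.map_map] at h
      exact h
  obtain ⟨g, σ, hfix, hmatch⟩ := UFrame.exists_match hF hn h32 hβ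
  have h1 := eq_one_of_match hF hn h32 hfix hmatch
  rw [inv_mul_eq_one] at h1
  have h2 := eq_inv_mul_iff_mul_eq.2 h1.symm
  rw [semiAut_inv, semiAut_mul] at h2
  exact ⟨_, _, h2⟩

theorem gammaPSU_eq_top (hF : Fintype.card F = q ^ 2) (hn : 3 ≤ n) (h32 : ¬ (n = 3 ∧ q = 2)) :
    gammaPSU n F q = ⊤ := by
  rw [gammaPSU_eq, eq_top_iff]
  exact fun α _ => exists_semiAut hF hn h32 α

/-- The kernel of `(g, σ) ↦ semiAut g σ`. -/
theorem semiAut_eq_one_iff (hF : Fintype.card F = q ^ 2) (hn : 3 ≤ n) (g : GU n F q)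
    (σ : F ≃+* F) :
    semiAut g σ = 1 ↔ σ = 1 ∧ ∃ l : F, ∀ x, g.1.1 *ᵥ x = l • x := by
  constructor
  · intro h
    have heig : ∀ v : Fin n → F, v ≠ 0 → hermForm n F q v v = 0 →
        ∃ a : F, g.1.1 *ᵥ sv σ v = a • v := by
      intro v hv0 hv
      have h1 := semiAut_map_R g σ v
      rw [h, show ((1 : MulAut (PSU n F q)).toMonoidHom) = MonoidHom.id _ from rfl,
        Subgroup.map_id] at h1
      have hiso : IsoVec q (g.1.1 *ᵥ sv σ v) :=
        ⟨fun h0 => hv0 (by
          have h2 := GU_mulVec_injective g (a₂ := 0) (by simpa using h0)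
          have h3 := congrArg (sv σ.symm) h2
          rwa [sv_symm', sv_zero] at h3), by rw [GU_herm, herm_sv, hv, map_zero]⟩
      obtain ⟨a, -, ha⟩ := R_inj hF hn ⟨hv0, hv⟩ hiso h1
      exact ⟨a, ha⟩
    obtain ⟨B⟩ := UFrame.exists_frame (F := F) (n := n) hF (by omega)
    set e := B.e
    set f := B.f
    have hef : Hyp q e f := B.hyp
    set g0 := B.g ⟨0, by omega⟩
    have hg00 : hermForm n F q g0 g0 = 1 := by
      simpa using B.orth ⟨0, by omega⟩ ⟨0, by omega⟩
    obtain ⟨a, hae⟩ := heig e (ne_zero_of_hyp hef) hef.1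
    obtain ⟨b, hbf⟩ := heig f (ne_zero_of_hyp (hef.swap hF)) hef.2.1
    set w := g.1.1 *ᵥ sv σ g0
    have hwe : hermForm n F q w e = 0 := by
      have h1 := GU_herm (sv σ g0) (sv σ e) g
      rw [hae, herm_smul_right, herm_sv, (B.perp_ef _).1, map_zero] at h1
      have ha : a ≠ 0 := by
        intro h0
        have h2 := GU_mulVec_injective g (a₁ := sv σ e) (a₂ := 0) (by simp [hae, h0])
        have h3 := congrArg (sv σ.symm) h2
        rw [sv_symm', sv_zero] at h3
        exact ne_zero_of_hyp hef h3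
      exact (mul_eq_zero.1 h1).resolve_left (pow_ne_zero q ha)
    have hwf : hermForm n F q w f = 0 := by
      have h1 := GU_herm (sv σ g0) (sv σ f) g
      rw [hbf, herm_smul_right, herm_sv, (B.perp_ef _).2, map_zero] at h1
      have hb : b ≠ 0 := by
        intro h0
        have h2 := GU_mulVec_injective g (a₁ := sv σ f) (a₂ := 0) (by simp [hbf, h0])
        have h3 := congrArg (sv σ.symm) h2
        rw [sv_symm', sv_zero] at h3
        exact ne_zero_of_hyp (hef.swap hF) h3
      exact (mul_eq_zero.1 h1).resolve_left (pow_ne_zero q hb)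
    -- images of `e + d f + x g0`
    have key : ∀ x : F, x ≠ 0 → ∃ c : F, c = a ∧ σ x * hermForm n F q w g0 = a * x := by
      intro x hx
      obtain ⟨d, hd⟩ := trace_surj hF (y := -(x * x ^ q)) (by
        rw [neg_pow_q hF, mul_pow, pow_q_q hF, mul_comm])
      have hv : hermForm n F q (e + d • f + x • g0) (e + d • f + x • g0) = 0 := by
        simp only [herm_add_left, herm_add_right _ _ _ hF, herm_smul_left, herm_smul_right, hef.1,
          hef.2.1, hef.2.2, hef.symm' hF, hg00, g0, e, f, (B.perp_ef _).1, (B.perp_ef _).2,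
          herm_eq_zero_symm hF (B.perp_ef _).1, herm_eq_zero_symm hF (B.perp_ef _).2,
          mul_zero, mul_one, add_zero, zero_add]
        linear_combination hd
      have hv0 : e + d • f + x • g0 ≠ 0 := fun h0 => by
        have h2 := congrArg (fun u => hermForm n F q u g0) h0
        simp only [herm_add_left, herm_smul_left, herm_zero_left, hg00, g0, e, f,
          herm_eq_zero_symm hF (B.perp_ef _).1, herm_eq_zero_symm hF (B.perp_ef _).2] at h2
        exact hx (by linear_combination h2)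
      obtain ⟨c, hc⟩ := heig _ hv0 hv
      rw [sv_add, sv_add, sv_smul, sv_smul, Matrix.mulVec_add, Matrix.mulVec_add,
        Matrix.mulVec_smul, Matrix.mulVec_smul, hae, hbf] at hc
      have h3 := congrArg (fun u => hermForm n F q u f) hc
      simp only [herm_add_left, herm_smul_left, hef.2.1, hef.2.2, g0, f, (B.perp_ef _).2] at h3
      rw [show hermForm n F q (g.1.1 *ᵥ sv σ (B.g ⟨0, by omega⟩)) B.f = 0 from hwf] at h3
      have hca : c = a := by linear_combination -h3
      have h4 := congrArg (fun u => hermForm n F q u g0) hc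
      simp only [herm_add_left, herm_smul_left, hg00, g0, e, f,
        herm_eq_zero_symm hF (B.perp_ef _).1, herm_eq_zero_symm hF (B.perp_ef _).2] at h4
      refine ⟨c, hca, ?_⟩
      rw [← hca]
      linear_combination h4
    obtain ⟨-, -, hk1⟩ := key 1 one_ne_zero
    rw [map_one, one_mul, mul_one] at hk1
    have ha0 : a ≠ 0 := by
      intro h0
      have h2 := GU_mulVec_injective g (a₁ := sv σ e) (a₂ := 0) (by simp [hae, h0])
      have h3 := congrArg (sv σ.symm) h2
      rw [sv_symm', sv_zero] at h3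
      exact ne_zero_of_hyp hef h3
    have hσ : σ = 1 := by
      refine RingEquiv.ext fun x => ?_
      rcases eq_or_ne x 0 with rfl | hx
      · simp
      obtain ⟨-, -, hx'⟩ := key x hx
      rw [hk1] at hx'
      exact mul_right_cancel₀ ha0 (by rw [hx']; exact mul_comm a x)
    refine ⟨hσ, scalar_of_isotropic_eigen hF (by omega) _ fun v hv => ?_⟩
    rcases eq_or_ne v 0 with rfl | hv0
    · exact ⟨0, by simp⟩
    obtain ⟨c, hc⟩ := heig v hv0 hv
    rw [hσ] at hc
    exact ⟨c, hc⟩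
  · rintro ⟨rfl, l, hl⟩
    refine MulEquiv.ext fun y => ?_
    obtain ⟨X, rfl⟩ := QuotientGroup.mk_surjective y
    rw [semiAut_mk]
    refine congrArg _ (suToGU_injective (GU_ext fun x => ?_))
    rw [suToGU_val, coe_conjSU, coe_fieldSU, ← Matrix.mulVec_mulVec, ← Matrix.mulVec_mulVec,
      show X.1.1.map (1 : F ≃+* F) = X.1.1 from rfl, hl, suToGU_val,
      show (g⁻¹).1.1 *ᵥ x = l⁻¹ • x by
        rcases eq_or_ne l 0 with rfl | hl0
        · have := GU_mulVec_inv x g
          rw [hl, zero_smul] at this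
          simp [← this]
        · conv_lhs => rw [← inv_smul_smul₀ hl0 x, ← hl, Matrix.mulVec_smul, GU_inv_mulVec],
      Matrix.mulVec_smul, smul_smul]
    rcases eq_or_ne l 0 with rfl | hl0
    · have := GU_mulVec_inv x g
      rw [hl, zero_smul] at this
      simp [← this]
    · rw [mul_inv_cancel₀ hl0, one_smul]

end Cfsg.Agent.Lib.AutPSU
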