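import Mathlib
import Cfsg.Agent.Lib.AutPSU.Main

/-!
Lib/AutPSU/Card: the order of the automorphism group of `PSU n`.
-/

set_option autoImplicit false
set_option linter.unusedSectionVars false

namespace Cfsg.Agent.Lib.AutPSU

open Matrix Cfsg.Agent.Lib.Unitary

variable {F : Type*} [Field F] [Fintype F] {q : ℕ} {n : ℕ}

theorem card_ringAuts {p f : ℕ} [Fact p.Prime] (hF : Fintype.card F = p ^ f) :
    Nat.card (F ≃+* F) = f := by
  have hp : CharP F p := charP_of_card_eq_prime_pow hF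
  letI := ZMod.algebra F p
  have e : (F ≃+* F) ≃ (F ≃ₐ[ZMod p] F) :=
    { toFun := fun σ => AlgEquiv.ofRingEquiv (f := σ) fun x =>
        RingHom.congr_fun (Subsingleton.elim (σ.toRingHom.comp (algebraMap (ZMod p) F))
          (algebraMap (ZMod p) F)) x
      invFun := fun τ => τ.toRingEquiv
      left_inv := fun σ => RingEquiv.ext fun x => rfl
      right_inv := fun τ => AlgEquiv.ext fun x => rfl }
  rw [Nat.card_congr e, IsGalois.card_aut_eq_finrank]
  have := Module.card_eq_pow_finrank (K := ZMod p) (V := F)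
  rw [ZMod.card, hF] at this
  exact (Nat.pow_right_injective (Fact.out : p.Prime).two_le this).symm

theorem semiAut_one_hom (g g' : GU n F q) :
    semiAut (g * g') (1 : F ≃+* F) = semiAut g 1 * semiAut g' 1 := by
  rw [semiAut_mul, map_one, MulAut.one_apply, mul_one]

/-- Conjugation by `GU n` on `PSU n`. -/
def conjPSU (n : ℕ) (F : Type*) [Field F] (q : ℕ) : GU n F q →* MulAut (PSU n F q) :=
  descend.comp conjSU

theorem conjPSU_apply (g : GU n F q) : conjPSU n F q g = semiAut g 1 := by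
  rw [semiAut, map_one, mul_one]; rfl

theorem card_ker_conjPSU (hF : Fintype.card F = q ^ 2) (hn : 3 ≤ n) :
    Nat.card (conjPSU n F q).ker = q + 1 := by
  classical
  rw [← card_norm_one hF]
  set i0 : Fin n := ⟨0, by omega⟩
  have hscal : ∀ (l : F) (x : Fin n → F),
      (Matrix.scalar (Fin n) l : Matrix (Fin n) (Fin n) F) *ᵥ x = l • x := fun l x => by
    ext i; simp [Matrix.scalar_apply, Matrix.mulVec_diagonal]
  have hmem : ∀ l : {x : F // x ^ (q + 1) = 1}, ∃ g ∈ (conjPSU n F q).ker,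
      ∀ x, g.1.1 *ᵥ x = l.1 • x := by
    rintro ⟨l, hl⟩
    refine ⟨mkGU hF (Matrix.scalar (Fin n) l) fun u v => ?_, ?_, fun x => by
      rw [mkGU_val, hscal]⟩
    · rw [hscal, hscal, herm_smul_left, herm_smul_right, ← mul_assoc, ← pow_succ', hl, one_mul]
    · rw [MonoidHom.mem_ker, conjPSU_apply]
      exact (semiAut_eq_one_iff hF hn _ _).2 ⟨rfl, l, fun x => by rw [mkGU_val, hscal]⟩
  choose g hg hgx using hmem
  refine (Nat.card_eq_of_bijective (fun l => (⟨g l, hg l⟩ : (conjPSU n F q).ker)) ⟨?_, ?_⟩).symm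
  · intro a b h
    have h1 := congrFun (congrArg
      (fun X : (conjPSU n F q).ker => X.1.1.1 *ᵥ (Pi.single i0 1 : Fin n → F)) h) i0
    simp only [hgx, Pi.smul_apply, Pi.single_eq_same, smul_eq_mul, mul_one] at h1
    exact Subtype.ext h1
  · rintro ⟨w, hw⟩
    have hw' := hw
    rw [MonoidHom.mem_ker, conjPSU_apply] at hw'
    obtain ⟨-, l, hl⟩ := (semiAut_eq_one_iff hF hn _ _).1 hw'
    have h2 := GU_herm (Pi.single i0 (1 : F)) (Pi.single i0 1) w
    simp only [hl, herm_smul_left, herm_smul_right, herm_std hF, if_true, mul_one] at h2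
    exact ⟨⟨l, by rw [pow_succ]; exact h2⟩,
      Subtype.ext (GU_ext fun x => by rw [hgx, hl])⟩

theorem card_mulAut_PSU (hF : Fintype.card F = q ^ 2) (hn : 3 ≤ n) (h32 : ¬ (n = 3 ∧ q = 2))
    {p f : ℕ} [Fact p.Prime] (hq : q = p ^ f) :
    Nat.card (MulAut (PSU n F q)) = Nat.gcd n (q + 1) * (2 * f) * Nat.card (PSU n F q) := by
  classical
  set c := conjPSU n F q
  let Φ : c.range × (F ≃+* F) → MulAut (PSU n F q) := fun x => x.1.1 * semiAut 1 x.2
  have hbij : Function.Bijective Φ := by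
    constructor
    · rintro ⟨⟨_, g, rfl⟩, σ⟩ ⟨⟨_, g', rfl⟩, σ'⟩ h
      simp only [Φ, c, conjPSU_apply, ← semiAut_split] at h
      have h1 : semiAut (fieldGU σ⁻¹ (g⁻¹ * g')) (σ⁻¹ * σ') = 1 := by
        rw [map_mul, ← semiAut_mul, ← semiAut_inv, h, inv_mul_cancel]
      obtain ⟨hσ, l, hl⟩ := (semiAut_eq_one_iff hF hn _ _).1 h1
      rw [inv_mul_eq_one] at hσ
      subst hσ
      refine Prod.ext (Subtype.ext ?_) rfl
      show c g = c g'
      simp only [c, conjPSU_apply]
      rw [semiAut_split g σ, semiAut_split g' σ] at h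
      exact mul_right_cancel h
    · intro α
      obtain ⟨g, σ, rfl⟩ := exists_semiAut hF hn h32 α
      exact ⟨(⟨_, g, rfl⟩, σ), by simp only [Φ, c, conjPSU_apply]; rw [← semiAut_split]⟩
  rw [← Nat.card_eq_of_bijective Φ hbij, Nat.card_prod,
    card_ringAuts (p := p) (f := f * 2) (by rw [hF, hq, pow_mul]), mul_comm f 2]
  have h1 := Subgroup.card_eq_card_quotient_mul_card_subgroup c.ker
  rw [Nat.card_congr (QuotientGroup.quotientKerEquivRange c).toEquiv, card_ker_conjPSU hF hn,
    ← card_SU hF (n := n) (by omega), mul_comm (q + 1)] at h1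
  have h2 := Nat.eq_of_mul_eq_mul_right (Nat.succ_pos q) h1
  rw [← h2, ← card_PSU hF (by omega)]
  ring

end Cfsg.Agent.Lib.AutPSU
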