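import Cfsg.Agent.Lib.AutPSU.Out
import Cfsg.Agent.Lib.AutPSL.Hermitian

/-!
Lib/AutPSU/Descent: Galois descent in `GU n` for a field automorphism of odd order and the
conjugacy of the standard field automorphism classes of `Aut (PSU n)`.
-/

set_option autoImplicit false
set_option linter.unusedSectionVars false

namespace Cfsg.Agent.Lib.AutPSU

open Matrix Cfsg.Agent.Lib.Unitary

variable {F : Type*} [Field F] [Fintype F] {q : ℕ} {n : ℕ}

/-- Conjugate transpose. -/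
def ct (hF : Fintype.card F = q ^ 2) (M : Matrix (Fin n) (Fin n) F) : Matrix (Fin n) (Fin n) F :=
  (M.map (conj hF))ᵀ

theorem ct_mul (hF : Fintype.card F = q ^ 2) (A B : Matrix (Fin n) (Fin n) F) :
    ct hF (A * B) = ct hF B * ct hF A := by
  simp only [ct, Matrix.map_mul, Matrix.transpose_mul]

theorem ct_one (hF : Fintype.card F = q ^ 2) : ct hF (1 : Matrix (Fin n) (Fin n) F) = 1 := by
  rw [ct, Matrix.map_one _ (map_zero _) (map_one _), Matrix.transpose_one]

theorem ct_ct (hF : Fintype.card F = q ^ 2) (A : Matrix (Fin n) (Fin n) F) :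
    ct hF (ct hF A) = A := by
  ext i j
  show conj hF (conj hF (A i j)) = A i j
  rw [conj_apply, conj_apply, pow_q_q hF]

theorem ct_map (hF : Fintype.card F = q ^ 2) (σ : F ≃+* F) (A : Matrix (Fin n) (Fin n) F) :
    (ct hF A).map σ = ct hF (A.map σ) := by
  ext i j
  show σ (conj hF (A j i)) = conj hF (σ (A j i))
  rw [conj_apply, conj_apply, map_pow]

theorem preserving_iff_ct (hF : Fintype.card F = q ^ 2) (M : Matrix (Fin n) (Fin n) F) :
    (∀ u v, hermForm n F q (M *ᵥ u) (M *ᵥ v) = hermForm n F q u v) ↔ ct hF M * M = 1 := by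
  constructor
  · intro h
    ext i j
    have h1 := h (Pi.single j 1) (Pi.single i 1)
    rw [herm_std hF] at h1
    simpa [ct, Matrix.mul_apply, hermForm, Matrix.one_apply, eq_comm, mul_comm] using h1
  · intro h u v
    have h2 : Mᵀ * M.map (conj hF) = 1 := by
      have := congrArg Matrix.transpose h
      rwa [ct, Matrix.transpose_mul, Matrix.transpose_transpose, Matrix.transpose_one] at this
    have hd : ∀ x y : Fin n → F, hermForm n F q x y = x ⬝ᵥ (⇑(conj hF) ∘ y) := fun x y => rfl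
    have h3 : ⇑(conj hF) ∘ (M *ᵥ v) = M.map (conj hF) *ᵥ (⇑(conj hF) ∘ v) :=
      funext fun i => RingHom.map_mulVec (conj hF) M v i
    rw [hd, hd, h3, ← Matrix.vecMul_transpose, ← Matrix.dotProduct_mulVec, Matrix.mulVec_mulVec,
      h2, Matrix.one_mulVec]

theorem GU_ct_mul (hF : Fintype.card F = q ^ 2) (g : GU n F q) : ct hF g.1.1 * g.1.1 = 1 :=
  (preserving_iff_ct hF g.1.1).1 g.2

theorem pow_q_of_fixed {M : Type*} [Monoid M] {q0 : ℕ} {x : M} (h : x ^ q0 ^ 2 = x) :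
    ∀ k : ℕ, x ^ q0 ^ (2 * k + 1) = x ^ q0
  | 0 => by simp
  | k + 1 => by
    rw [show 2 * (k + 1) + 1 = 2 + (2 * k + 1) by ring, pow_add, pow_mul, h]
    exact pow_q_of_fixed h k

/-- The fixed field of an automorphism of odd order of `GF(q²)` is `GF(q₀²)`, with `q₀^r = q`. -/
theorem fixField_data {p f : ℕ} [Fact p.Prime] (hq : q = p ^ f) (hF : Fintype.card F = q ^ 2)
    {σ : F ≃+* F} {r : ℕ} (hr : orderOf σ = r) (hro : Odd r) :
    r ∣ f ∧ Nat.card (Cfsg.Agent.Lib.AutPSL.fixField σ) = (p ^ (f / r)) ^ 2 ∧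
      (p ^ (f / r)) ^ r = q ∧ ∀ x, σ x = x → x ^ q = x ^ p ^ (f / r) := by
  have hF2 : Fintype.card F = p ^ (f * 2) := by rw [hF, hq, pow_mul]
  obtain ⟨hd, hc⟩ := Cfsg.Agent.Lib.AutPSL.card_fixField hF2 hr
  have hrf : r ∣ f := (Nat.Coprime.dvd_of_dvd_mul_right (hro.coprime_two_right) hd)
  have hdiv : f * 2 / r = f / r * 2 := Nat.div_mul_right_comm hrf 2 ▸ rfl
  rw [hdiv, pow_mul] at hc
  have hqr : (p ^ (f / r)) ^ r = q := by rw [← pow_mul, Nat.div_mul_cancel hrf, hq]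
  refine ⟨hrf, hc, hqr, fun x hx => ?_⟩
  rw [Cfsg.Agent.Lib.AutPSL.mem_fixField_iff_pow, hc] at hx
  rw [← hqr]
  obtain ⟨k, rfl⟩ := hro
  exact pow_q_of_fixed hx k

theorem exists_q0 (hF : Fintype.card F = q ^ 2) {σ : F ≃+* F} {r : ℕ} (hr : orderOf σ = r)
    (hro : Odd r) :
    ∃ q0 : ℕ, Nat.card (Cfsg.Agent.Lib.AutPSL.fixField σ) = q0 ^ 2 ∧
      ∀ x, σ x = x → x ^ q = x ^ q0 := by
  obtain ⟨p, k, hp, -, -, hq⟩ := q_eq_primePow hF
  haveI : Fact p.Prime := ⟨hp⟩
  obtain ⟨-, h2, -, h4⟩ := fixField_data hq hF hr hro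
  exact ⟨_, h2, h4⟩

/-- **Descent in `GU n`**. -/
theorem exists_descent_GU (hF : Fintype.card F = q ^ 2) {σ : F ≃+* F} {r : ℕ}
    (hr : orderOf σ = r) (hro : Odd r) {g : GU n F q}
    (hN : Cfsg.Agent.Lib.AutPSL.tnorm (fieldGU σ) g r = 1) :
    ∃ h : GU n F q, g = h * (fieldGU σ h)⁻¹ := by
  classical
  obtain ⟨q0, hcK, hKq⟩ := exists_q0 hF hr hro
  set K := Cfsg.Agent.Lib.AutPSL.fixField σ with hKdef
  letI : Fintype K := Fintype.ofFinite _
  have hK : Fintype.card K = q0 ^ 2 := by rw [← Nat.card_eq_fintype_card, hcK]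
  have hN' : Cfsg.Agent.Lib.AutPSL.tnorm (Cfsg.Agent.Lib.AutPSL.mapGL σ) g.1 r = 1 := by
    have := Cfsg.Agent.Lib.AutPSL.map_tnorm (fieldGU σ) (Cfsg.Agent.Lib.AutPSL.mapGL σ)
      (GU n F q).subtype (fun x => Units.ext (coe_fieldGU σ x)) g r
    rw [hN, map_one] at this
    exact this.symm
  obtain ⟨h0, hh0⟩ := Cfsg.Agent.Lib.AutPSL.exists_descent hr hro.pos hN'
  have hgh : (g.1.1 : Matrix (Fin n) (Fin n) F) * h0.1.map σ = h0.1 := by
    have h1 : g.1 * Cfsg.Agent.Lib.AutPSL.mapGL σ h0 = h0 := by rw [hh0, inv_mul_cancel_right]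
    exact congrArg Units.val h1
  set H := ct hF h0.1 * h0.1 with hHdef
  have hHσ : H.map σ = H := by
    rw [hHdef, Matrix.map_mul, ct_map]
    conv_rhs => rw [← hgh, ct_mul, Matrix.mul_assoc, ← Matrix.mul_assoc (ct hF g.1.1),
      GU_ct_mul hF, Matrix.one_mul]
  let H0 : Matrix (Fin n) (Fin n) K :=
    Matrix.of fun i j => ⟨H i j, congrFun (congrFun hHσ i) j⟩
  have hH0 : H0.map K.subtype = H := Matrix.ext fun i j => rfl
  have hH0u : IsUnit H0 := by
    rw [Matrix.isUnit_iff_isUnit_det, isUnit_iff_ne_zero]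
    intro hd
    have h1 := K.subtype.map_det H0
    rw [RingHom.mapMatrix_apply, hH0, hd, map_zero, hHdef, Matrix.det_mul, ct, Matrix.det_transpose,
      ← RingHom.mapMatrix_apply, ← RingHom.map_det] at h1
    have hh : h0.1.det ≠ 0 := ((Matrix.isUnit_iff_isUnit_det _).1 h0.isUnit).ne_zero
    exact mul_ne_zero ((map_ne_zero _).2 hh) hh h1.symm
  let σK : K ≃+* K := RingEquiv.ofRingHom (conj hK) (conj hK)
    (RingHom.ext fun x => pow_q_q hK x) (RingHom.ext fun x => pow_q_q hK x)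
  have hσK : ∀ x : K, ((σK x : K) : F) = (x : F) ^ q := fun x => (hKq x x.2).symm
  have hσKord : orderOf σK = 2 := by
    refine orderOf_eq_prime (by rw [pow_two]; exact RingEquiv.ext fun x => pow_q_q hK x) fun h1 => ?_
    have h2 := card_fixed hK
    have h3 : ∀ x : K, x ^ q0 = x := fun x => RingEquiv.congr_fun h1 x
    rw [Nat.card_congr (Equiv.subtypeUnivEquiv h3),
      Nat.card_eq_fintype_card, hK] at h2
    have := one_lt_q hK
    nlinarith
  set u0 := hH0u.unit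
  have hherm : u0 * Cfsg.Agent.Lib.AutPSL.graphGL σK u0 = 1 := by
    have h1 : (Cfsg.Agent.Lib.AutPSL.graphGL σK u0)⁻¹ = u0 := by
      refine Units.ext ?_
      rw [Cfsg.Agent.Lib.AutPSL.coe_graphGL_inv]
      refine Matrix.map_injective (f := K.subtype) Subtype.val_injective ?_
      show ((H0.map σK)ᵀ).map K.subtype = H0.map K.subtype
      rw [hH0]
      have h2 : ct hF H = H := by rw [hHdef, ct_mul, ct_ct]
      conv_rhs => rw [← h2]
      ext i j
      exact hσK (H0 j i)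
    exact mul_eq_one_iff_eq_inv.2 h1.symm
  obtain ⟨h, hh⟩ := Cfsg.Agent.Lib.AutPSL.exists_congr_one hσKord hherm
  set hFm : Matrix (Fin n) (Fin n) F := (h.1).map K.subtype with hhFm
  set hFi : Matrix (Fin n) (Fin n) F := ((h⁻¹ : GL (Fin n) K).1).map K.subtype with hhFi
  have hinv : hFi * hFm = 1 := by
    rw [hhFi, hhFm, ← Matrix.map_mul, Units.inv_mul,
      Matrix.map_one _ (map_zero K.subtype) (map_one K.subtype)]
  have hH : H = hFm * ct hF hFm := by
    rw [← hH0, show H0 = u0.1 from rfl, hh, Units.val_mul,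
      Cfsg.Agent.Lib.AutPSL.coe_graphGL_inv, Matrix.map_mul]
    congr 1
    ext i j
    exact hσK (h.1 j i)
  set P := ct hF hFi with hP
  have hPσ : P.map σ = P := by
    rw [hP, ct_map]
    congr 1
    exact Matrix.ext fun i j => ((h⁻¹ : GL (Fin n) K).1 i j).2
  have hpres : ct hF (h0.1 * P) * (h0.1 * P) = 1 := by
    calc ct hF (h0.1 * P) * (h0.1 * P) = ct hF P * H * P := by
          rw [ct_mul, hHdef]; simp only [Matrix.mul_assoc]
      _ = (hFi * hFm) * ct hF (hFi * hFm) := by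
          rw [hP, ct_ct, hH, ct_mul]; simp only [Matrix.mul_assoc]
      _ = 1 := by rw [hinv, ct_one, Matrix.one_mul]
  refine ⟨mkGU hF _ ((preserving_iff_ct hF _).2 hpres), eq_mul_inv_of_mul_eq ?_⟩
  refine Subtype.ext (Units.ext ?_)
  show g.1.1 * (h0.1 * P).map σ = h0.1 * P
  rw [Matrix.map_mul, hPσ, ← Matrix.mul_assoc, hgh]

/-- A field automorphism on the units of norm one, as an automorphism. -/
def fieldU1E (σ : F ≃+* F) : MulAut (U1 F q) :=
  { fieldU1 σ with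
    toFun := fieldU1 σ
    invFun := fieldU1 σ.symm
    left_inv := fun z => Subtype.ext (Units.ext (σ.symm_apply_apply _))
    right_inv := fun z => Subtype.ext (Units.ext (σ.apply_symm_apply _)) }

/-- The twisted norm is surjective between units of norm one. -/
theorem exists_U1_tnorm_eq (hF : Fintype.card F = q ^ 2) {σ : F ≃+* F} {r : ℕ}
    (hr : orderOf σ = r) (hro : Odd r) {c : U1 F q} (hc : σ (c.1 : F) = c.1) :
    ∃ z : U1 F q, Cfsg.Agent.Lib.AutPSL.tnorm (fieldU1E σ) z r = c := by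
  classical
  obtain ⟨q0, hcK, hKq⟩ := exists_q0 hF hr hro
  set K := Cfsg.Agent.Lib.AutPSL.fixField σ with hKdef
  letI : Fintype K := Fintype.ofFinite _
  have hK : Fintype.card K = q0 ^ 2 := by rw [← Nat.card_eq_fintype_card, hcK]
  have hcc : (⟨(c.1 : F), hc⟩ : K) * (⟨(c.1 : F), hc⟩ : K) ^ q0 = 1 :=
    Subtype.ext (by
      show (c.1 : F) * (c.1 : F) ^ q0 = 1
      rw [← hKq _ hc, U1_val_pow])
  obtain ⟨d, hd0, hd⟩ := exists_div_conj hK hcc
  have hd' : (d : F) = (c.1 : F) * (d : F) ^ q := by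
    rw [hKq _ d.2]; exact congrArg Subtype.val hd
  have hd0' : (d : F) ≠ 0 := fun h0 => hd0 (Subtype.ext h0)
  obtain ⟨z0, hz0⟩ := Cfsg.Agent.Lib.AutPSL.exists_tnorm_eq hr hro.pos
    (c := Units.mk0 (d : F) hd0') (Units.ext d.2)
  have hqq : z0 ^ (q * q) = z0 := Units.ext (by
    rw [Units.val_pow_eq_pow_val, pow_mul, pow_q_q hF])
  have hz1 : z0 * (z0 ^ q)⁻¹ ∈ U1 F q := by
    rw [mem_U1_iff, mul_pow, inv_pow, ← pow_mul, mul_inv_eq_one, mul_add, mul_one, pow_add, pow_add,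
      hqq, pow_one, mul_comm]
  refine ⟨⟨_, hz1⟩, Subtype.ext ?_⟩
  rw [← Subgroup.coe_subtype, Cfsg.Agent.Lib.AutPSL.map_tnorm (fieldU1E σ)
    (Cfsg.Agent.Lib.AutPSL.mapUnits σ) (U1 F q).subtype (fun x => rfl)]
  show Cfsg.Agent.Lib.AutPSL.normHom σ r (z0 * (z0 ^ q)⁻¹) = c.1
  rw [map_mul, map_inv, map_pow, Cfsg.Agent.Lib.AutPSL.normHom_apply, hz0, mul_inv_eq_iff_eq_mul]
  exact Units.ext (by rw [Units.val_mul, Units.val_pow_eq_pow_val]; exact hd')

theorem conjPSU_mul_fieldPSU_pow (g : GU n F q) (σ : F ≃+* F) : ∀ k : ℕ,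
    (conjPSU n F q g * fieldPSU n F q σ) ^ k =
      conjPSU n F q (Cfsg.Agent.Lib.AutPSL.tnorm (fieldGU σ) g k) * fieldPSU n F q (σ ^ k)
  | 0 => by simp
  | k + 1 => by
    rw [pow_succ', conjPSU_mul_fieldPSU_pow g σ k, Cfsg.Agent.Lib.AutPSL.tnorm_succ, map_mul,
      pow_succ', map_mul (fieldPSU n F q), ← mul_assoc,
      mul_assoc (conjPSU n F q g) (fieldPSU n F q σ), fieldPSU_conjPSU]
    simp only [mul_assoc]

/-- An element of order dividing `r` in the coset of a field automorphism of odd order `r` is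
conjugate to it under the inner-diagonal group. -/
theorem exists_conj_of_pow_eq_one (hF : Fintype.card F = q ^ 2) (hn : 3 ≤ n) {σ : F ≃+* F} {r : ℕ}
    (hr : orderOf σ = r) (hro : Odd r) {g : GU n F q}
    (hg : (conjPSU n F q g * fieldPSU n F q σ) ^ r = 1) :
    ∃ h : GU n F q, conjPSU n F q g * fieldPSU n F q σ =
      conjPSU n F q h * fieldPSU n F q σ * (conjPSU n F q h)⁻¹ := by
  have hσr : σ ^ r = 1 := by rw [← hr]; exact pow_orderOf_eq_one σ
  rw [conjPSU_mul_fieldPSU_pow, hσr, map_one, mul_one] at hg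
  obtain ⟨c, hc⟩ := (conjPSU_eq_one_iff hF hn).1 hg
  have hσc : fieldU1E σ c = c := by
    have h := Cfsg.Agent.Lib.AutPSL.apply_tnorm_of_pow_eq_one (fieldGU σ) g (r := r)
      (by rw [← map_pow, hσr, map_one])
    rw [hc, fieldGU_scalar, (scalarGU_comm c g).eq] at h
    exact scalarGU_injective (by omega) (mul_left_cancel h)
  obtain ⟨z, hz⟩ := exists_U1_tnorm_eq hF hr hro
    (c := c) (congrArg (fun x : U1 F q => (x.1 : F)) hσc)
  have hmap : ∀ x, scalarGU (fieldU1E σ x) = fieldGU σ (scalarGU x : GU n F q) :=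
    fun x => (fieldGU_scalar σ x).symm
  have hN : Cfsg.Agent.Lib.AutPSL.tnorm (fieldGU σ) (scalarGU z⁻¹ * g) r = 1 := by
    rw [Cfsg.Agent.Lib.AutPSL.tnorm_mul, hc,
      ← Cfsg.Agent.Lib.AutPSL.map_tnorm (fieldU1E σ) (fieldGU σ) scalarGU hmap, ← map_mul]
    · rw [← hz, ← Cfsg.Agent.Lib.AutPSL.tnorm_mul _ _ _ _ fun _ _ x => Commute.all _ x,
        inv_mul_cancel]
      have h1 : ∀ k, Cfsg.Agent.Lib.AutPSL.tnorm (fieldU1E σ) (1 : U1 F q) k = 1 := by
        intro k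
        induction k with
        | zero => rfl
        | succ k ih => rw [Cfsg.Agent.Lib.AutPSL.tnorm_succ, ih, map_one, one_mul]
      rw [h1, map_one]
    · intro i _ x
      rw [← Cfsg.Agent.Lib.AutPSL.map_tnorm (fieldU1E σ) (fieldGU σ) scalarGU hmap,
        fieldGU_scalar]
      exact scalarGU_comm _ x
  obtain ⟨h, hh⟩ := exists_descent_GU hF hr hro hN
  refine ⟨h, ?_⟩
  have h1 : conjPSU n F q g = conjPSU n F q (h * (fieldGU σ h)⁻¹) := by
    rw [← hh, map_mul, conjPSU_scalarGU hF hn, one_mul]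
  rw [h1, map_mul, mul_assoc, mul_assoc, ← map_inv (conjPSU n F q) h, fieldPSU_conjPSU,
    map_inv (fieldGU σ)]

/-- A field automorphism of prime order is conjugate to a standard one of the same order. -/
theorem exists_std_of_isFieldAutClass (hF : Fintype.card F = q ^ 2) (hn : 3 ≤ n)
    {x : MulAut (PSU n F q)} (hx : IsFieldAutClassPSU x) {r : ℕ} (hxr : orderOf x = r) :
    ∃ (α : MulAut (PSU n F q)) (σ : F ≃+* F),
      orderOf σ = r ∧ Odd r ∧ α * x * α⁻¹ = fieldPSU n F q σ := by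
  obtain ⟨α, φ, σ, -, hodd, hφ, h⟩ := hx
  rw [eq_fieldPSU hφ] at h
  have hσ : orderOf σ = r := by
    rw [← orderOf_injective _ (fieldPSU_injective hF hn) σ, ← h, ← MulAut.conj_apply,
      MulEquiv.orderOf_eq, hxr]
  exact ⟨α, σ, hσ, hσ ▸ hodd, h⟩

end Cfsg.Agent.Lib.AutPSU
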