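import Cfsg.Agent.Lib.AutPSU.Descent
import Cfsg.Agent.Lib.AutPSp.Split

/-!
Lib/AutPSU/FieldCentralizer: the centraliser in `PGU n` of a field automorphism of odd order and
the splitting of its class.
-/

set_option autoImplicit false
set_option linter.unusedSectionVars false

namespace Cfsg.Agent.Lib.AutPSU

open Matrix Cfsg.Agent.Lib.Unitary

variable {F : Type*} [Field F] [Fintype F] {q : ℕ} {n : ℕ}

/-- The matrices of `GU n` whose automorphism commutes with `x`. -/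
def cent (x : MulAut (PSU n F q)) : Subgroup (GU n F q) :=
  (Subgroup.centralizer {x}).comap (conjPSU n F q)

theorem mem_cent {x : MulAut (PSU n F q)} {g : GU n F q} :
    g ∈ cent x ↔ conjPSU n F q g * x = x * conjPSU n F q g :=
  Subgroup.mem_centralizer_singleton_iff

theorem inndiag_inf_centralizer (x : MulAut (PSU n F q)) :
    inndiagPSU n F q ⊓ Subgroup.centralizer {x} = (cent x).map (conjPSU n F q) := by
  rw [cent, Subgroup.map_comap_eq, inndiagPSU_eq_range]

theorem mem_cent_field_iff (hF : Fintype.card F = q ^ 2) (hn : 3 ≤ n) {σ : F ≃+* F}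
    {g : GU n F q} :
    g ∈ cent (fieldPSU n F q σ) ↔ ∃ c : U1 F q, fieldGU σ g = scalarGU c * g := by
  rw [mem_cent, fieldPSU_conjPSU, mul_right_cancel_iff, conjPSU_eq_iff hF hn]

theorem splitClassCount_eq_index (hF : Fintype.card F = q ^ 2) (hn : 3 ≤ n)
    (x : MulAut (PSU n F q)) :
    Cfsg.splitClassCount (inndiagPSU n F q) (Cfsg.Inn (PSU n F q)) x =
      ((cent x).map (detU hF)).index := by
  have hker : (conjPSU n F q).ker ≤ cent x := fun g hg => by
    rw [mem_cent, MonoidHom.mem_ker.1 hg, one_mul, mul_one]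
  rw [Cfsg.Agent.Lib.AutPSL.splitClassCount_eq inn_le_inndiagPSU, inndiag_inf_centralizer,
    inn_eq_map, inndiagPSU_eq_range, ← Subgroup.map_sup, ← Subgroup.index_comap,
    Subgroup.comap_map_eq_self (hker.trans le_sup_right),
    ← Subgroup.index_comap_of_surjective _ (detU_surjective (n := n) hF (by omega)),
    Subgroup.comap_map_eq, detU_ker, sup_comm]

/-- The norm-one units fixed by a field automorphism. -/
def fixU1 (σ : F ≃+* F) : Subgroup (U1 F q) := (fieldU1 σ).eqLocus (MonoidHom.id _)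

theorem mem_fixU1 {σ : F ≃+* F} {z : U1 F q} : z ∈ fixU1 σ ↔ σ (z.1 : F) = z.1 := by
  show fieldU1 σ z = z ↔ _
  rw [Subtype.ext_iff, Units.ext_iff]
  rfl

section Inc

variable {F₀ : Type*} [Field F₀] [Fintype F₀] {q0 : ℕ} (ι : F₀ →+* F)
  (hF : Fintype.card F = q ^ 2) (hF₀ : Fintype.card F₀ = q0 ^ 2)
  (hι : ∀ y : F₀, ι y ^ q = ι (y ^ q0))

include hι in
theorem ct_map_inc (Y : Matrix (Fin n) (Fin n) F₀) :
    ct hF (Y.map ι) = (ct hF₀ Y).map ι := by
  ext i j
  show conj hF (ι (Y j i)) = ι (conj hF₀ (Y j i))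
  rw [conj_apply, conj_apply, hι]

/-- Extension of scalars on `GU n`. -/
def incGU : GU n F₀ q0 →* GU n F q :=
  ((GeneralLinearGroup.map (n := Fin n) ι).comp (GU n F₀ q0).subtype).codRestrict _ fun h => by
    show ∀ u v, hermForm n F q (_ *ᵥ u) (_ *ᵥ v) = _
    refine (preserving_iff_ct hF _).2 ?_
    show ct hF (h.1.1.map ι) * h.1.1.map ι = 1
    rw [ct_map_inc ι hF hF₀ hι, ← Matrix.map_mul, GU_ct_mul hF₀,
      Matrix.map_one _ (map_zero ι) (map_one ι)]

theorem coe_incGU (h : GU n F₀ q0) : (incGU ι hF hF₀ hι h).1.1 = h.1.1.map ι := rfl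

theorem coe_detU_incGU (h : GU n F₀ q0) :
    ((detU hF (incGU ι hF hF₀ hι h)).1 : F) = ι h.1.1.det := by
  rw [coe_detU, detGU_val, coe_incGU]
  exact (RingHom.map_det ι _).symm

variable {σ : F ≃+* F} (hfix : ∀ x, σ x = x ↔ x ∈ Set.range ι)

include hfix in
theorem fieldGU_incGU (h : GU n F₀ q0) : fieldGU σ (incGU ι hF hF₀ hι h) = incGU ι hF hF₀ hι h :=
  Subtype.ext (Units.ext (Matrix.ext fun _ _ => (hfix _).2 ⟨_, rfl⟩))

include hfix in
theorem exists_incGU {g : GU n F q} (hg : fieldGU σ g = g) : ∃ h, incGU ι hF hF₀ hι h = g := by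
  have he : ∀ i j, ∃ y, ι y = g.1.1 i j := fun i j =>
    (hfix _).1 (congrFun (congrFun (congrArg (fun A : GU n F q => A.1.1) hg) i) j)
  choose Y hY using he
  have hY' : (Matrix.of Y).map ι = g.1.1 := Matrix.ext hY
  have hp : ct hF₀ (Matrix.of Y) * Matrix.of Y = 1 := by
    refine Matrix.map_injective (f := ι) ι.injective ?_
    dsimp only
    rw [Matrix.map_mul, ← ct_map_inc ι hF hF₀ hι, hY', GU_ct_mul hF,
      Matrix.map_one _ (map_zero ι) (map_one ι)]
  exact ⟨mkGU hF₀ _ ((preserving_iff_ct hF₀ _).2 hp), Subtype.ext (Units.ext hY')⟩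

include hfix in
/-- The centraliser of a field automorphism is scalars times the subfield group. -/
theorem exists_scalar_incGU (hn : 3 ≤ n) {r : ℕ} (hr : orderOf σ = r) (hr0 : 0 < r) {g : GU n F q}
    (hg : g ∈ cent (fieldPSU n F q σ)) :
    ∃ (z : U1 F q) (h : GU n F₀ q0), g = scalarGU z * incGU ι hF hF₀ hι h := by
  obtain ⟨c, hc⟩ := (mem_cent_field_iff hF hn).1 hg
  have hiter : ∀ k, (fieldGU σ ^ k) g =
      scalarGU (Cfsg.Agent.Lib.AutPSL.tnorm (fieldU1E σ) c k) * g := by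
    intro k
    induction k with
    | zero => simp
    | succ k ih =>
      rw [pow_succ', MulAut.mul_apply, ih, map_mul, hc, fieldGU_scalar,
        Cfsg.Agent.Lib.AutPSL.tnorm_succ, mul_comm c, map_mul, mul_assoc]
      rfl
  have hNc : Cfsg.Agent.Lib.AutPSL.tnorm (fieldU1E σ) c r = 1 := by
    refine scalarGU_injective (n := n) (by omega) (mul_right_cancel (b := g) ?_)
    rw [← hiter, ← map_pow, ← hr, pow_orderOf_eq_one, map_one, map_one, one_mul]
    rfl
  have hNc' : Cfsg.Agent.Lib.AutPSL.tnorm (Cfsg.Agent.Lib.AutPSL.mapUnits σ) c.1 r = 1 := by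
    have := Cfsg.Agent.Lib.AutPSL.map_tnorm (fieldU1E σ) (Cfsg.Agent.Lib.AutPSL.mapUnits σ)
      (U1 F q).subtype (fun x => rfl) c r
    rw [hNc, map_one] at this
    exact this.symm
  obtain ⟨w, hw⟩ := Cfsg.Agent.Lib.AutPSL.exists_div_of_tnorm_eq_one hr hr0 hNc'
  set z0 : F := ((w⁻¹ : Fˣ) : F)
  have hz0 : z0 ≠ 0 := (w⁻¹).ne_zero
  have hσz0 : σ z0 = (c.1 : F) * z0 := by
    rw [← Cfsg.Agent.Lib.AutPSL.coe_mapUnits, ← Units.val_mul, hw, map_inv, mul_comm w,
      mul_inv_cancel_right]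
  have he : σ (z0 * z0 ^ q) = z0 * z0 ^ q := by
    rw [map_mul, map_pow, hσz0, mul_pow, mul_mul_mul_comm, U1_val_pow, one_mul]
  obtain ⟨e0, he0⟩ := (hfix _).1 he
  have he00 : e0 ^ q0 = e0 := ι.injective (by
    rw [← hι, he0, mul_pow, pow_q_q hF, mul_comm])
  obtain ⟨w1, hw1⟩ := norm_surj hF₀ he00
  have hw10 : ι w1 ≠ 0 := fun h0 => by
    have : ι e0 = 0 := by rw [← hw1, map_mul, h0, zero_mul]
    rw [he0] at this
    exact mul_ne_zero hz0 (pow_ne_zero _ hz0) this
  have hzn : Units.mk0 (z0 / ι w1) (div_ne_zero hz0 hw10) ∈ U1 F q := by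
    rw [mem_U1_iff]
    refine Units.ext ?_
    rw [Units.val_pow_eq_pow_val, Units.val_mk0, Units.val_one, pow_succ', div_pow, div_mul_div_comm,
      hι, ← map_mul, hw1, he0, div_self (mul_ne_zero hz0 (pow_ne_zero _ hz0))]
  set z : U1 F q := ⟨_, hzn⟩
  have hσz : fieldU1 σ z = c * z := by
    refine Subtype.ext (Units.ext ?_)
    show σ (z0 / ι w1) = (c.1 : F) * (z0 / ι w1)
    rw [map_div₀, hσz0, (hfix (ι w1)).2 ⟨w1, rfl⟩, mul_div_assoc]
  obtain ⟨h, hh⟩ := exists_incGU ι hF hF₀ hι hfix (g := scalarGU z⁻¹ * g) (by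
    rw [map_mul, hc, fieldGU_scalar, map_inv, hσz, ← mul_assoc, ← map_mul, _root_.mul_inv_rev,
      inv_mul_cancel_right])
  exact ⟨z, h, by rw [hh, ← mul_assoc, ← map_mul, mul_inv_cancel, map_one, one_mul]⟩

include hfix in
theorem incGU_mem_cent (hn : 3 ≤ n) (h : GU n F₀ q0) :
    incGU ι hF hF₀ hι h ∈ cent (fieldPSU n F q σ) :=
  (mem_cent_field_iff hF hn).2 ⟨1, by rw [fieldGU_incGU ι hF hF₀ hι hfix, map_one, one_mul]⟩

include hfix hι hF hF₀ in
theorem card_fixU1 : Nat.card (fixU1 σ : Subgroup (U1 F q)) = q0 + 1 := by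
  rw [← (card_normHom hF₀).1]
  have hmem : ∀ y : U1 F₀ q0, (Units.map (ι : F₀ →* F) y.1) ∈ U1 F q := fun y => by
    rw [mem_U1_iff]
    refine Units.ext ?_
    rw [Units.val_pow_eq_pow_val, Units.coe_map, MonoidHom.coe_coe, pow_succ', hι, ← map_mul,
      U1_val_pow, map_one, Units.val_one]
  refine (Nat.card_eq_of_bijective (fun y : U1 F₀ q0 =>
    (⟨⟨_, hmem y⟩, mem_fixU1.2 ((hfix _).2 ⟨_, rfl⟩)⟩ : (fixU1 σ : Subgroup (U1 F q)))) ⟨?_, ?_⟩).symm
  · intro a b h
    exact Subtype.ext (Units.ext (ι.injective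
      (congrArg (fun x : (fixU1 σ : Subgroup (U1 F q)) => (x.1.1 : F)) h)))
  · rintro ⟨z, hz⟩
    obtain ⟨y, hy⟩ := (hfix _).1 (mem_fixU1.1 hz)
    have hy0 : y ≠ 0 := fun h0 => z.1.ne_zero (by rw [← hy, h0, map_zero])
    have hy1 : Units.mk0 y hy0 ∈ U1 F₀ q0 := by
      rw [mem_U1_iff]
      refine Units.ext (ι.injective ?_)
      rw [Units.val_pow_eq_pow_val, Units.val_mk0, pow_succ', map_mul, ← hι, hy, U1_val_pow,
        Units.val_one, map_one]
    exact ⟨⟨_, hy1⟩, Subtype.ext (Subtype.ext (Units.ext hy))⟩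

include hfix hι hF₀ in
/-- The determinants of the centraliser. -/
theorem map_detU_cent (hn : 3 ≤ n) {r : ℕ} (hr : orderOf σ = r) (hr0 : 0 < r) :
    (cent (fieldPSU n F q σ) : Subgroup (GU n F q)).map (detU hF) =
      (powMonoidHom n : U1 F q →* U1 F q).range ⊔ fixU1 σ := by
  refine le_antisymm ?_ (sup_le ?_ ?_)
  · rintro _ ⟨g, hg, rfl⟩
    obtain ⟨z, h, rfl⟩ := exists_scalar_incGU ι hF hF₀ hι hfix hn hr hr0 hg
    rw [map_mul, detU_scalarGU]
    refine mul_mem (Subgroup.mem_sup_left ⟨z, rfl⟩) (Subgroup.mem_sup_right (mem_fixU1.2 ?_))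
    exact (hfix _).2 ⟨_, (coe_detU_incGU ι hF hF₀ hι h).symm⟩
  · rintro _ ⟨z, rfl⟩
    refine ⟨scalarGU z, ?_, detU_scalarGU hF z⟩
    rw [SetLike.mem_coe, mem_cent, conjPSU_scalarGU hF hn, one_mul, mul_one]
  · intro u hu
    obtain ⟨y, hy⟩ := (hfix _).1 (mem_fixU1.1 hu)
    have hy1 : y * y ^ q0 = 1 := ι.injective (by
      rw [map_mul, ← hι, hy, U1_val_pow, map_one])
    obtain ⟨A, hA⟩ := exists_GU_det hF₀ (n := n) (by omega) hy1
    refine ⟨incGU ι hF hF₀ hι A, incGU_mem_cent ι hF hF₀ hι hfix hn A, ?_⟩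
    exact Subtype.ext (Units.ext (by rw [coe_detU_incGU, hA, hy]))

include hfix hF hF₀ hι in
/-- The centraliser in `PGU n` of a field automorphism is the projective unitary group over the
fixed field. -/
theorem nonempty_centralizer_equiv (hn : 3 ≤ n) {r : ℕ} (hr : orderOf σ = r) (hr0 : 0 < r) :
    Nonempty (↥(inndiagPSU n F q ⊓ Subgroup.centralizer {fieldPSU n F q σ}) ≃*
      Cfsg.PGU n F₀ q0) := by
  let Ψ : GU n F₀ q0 →* MulAut (PSU n F q) := (conjPSU n F q).comp (incGU ι hF hF₀ hι)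
  have hrange : Ψ.range = inndiagPSU n F q ⊓ Subgroup.centralizer {fieldPSU n F q σ} := by
    rw [inndiag_inf_centralizer]
    ext y
    constructor
    · rintro ⟨h, rfl⟩
      exact ⟨_, incGU_mem_cent ι hF hF₀ hι hfix hn h, rfl⟩
    · rintro ⟨g, hg, rfl⟩
      obtain ⟨z, h, rfl⟩ := exists_scalar_incGU ι hF hF₀ hι hfix hn hr hr0 hg
      exact ⟨h, by rw [map_mul, conjPSU_scalarGU hF hn, one_mul]; rfl⟩
  have hker : (Cfsg.Geo.scalars (Fin n) F₀).subgroupOf (GU n F₀ q0) = Ψ.ker := by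
    ext h
    rw [MonoidHom.mem_ker, Subgroup.mem_subgroupOf, Cfsg.Geo.mem_scalars_iff]
    show _ ↔ conjPSU n F q (incGU ι hF hF₀ hι h) = 1
    rw [conjPSU_eq_one_iff hF hn]
    constructor
    · rintro ⟨c, hc⟩
      obtain ⟨z, -, hz⟩ := exists_scalarGU (by omega) (g := incGU ι hF hF₀ hι h) (l := ι c)
        fun x => by
          rw [coe_incGU, hc, Matrix.smul_one_eq_diagonal, Matrix.diagonal_map (map_zero ι)]
          exact funext fun i => Matrix.mulVec_diagonal _ _ i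
      exact ⟨z, hz⟩
    · rintro ⟨z, hz⟩
      have hent : ∀ i j, ι (h.1.1 i j) = if i = j then (z.1 : F) else 0 := by
        intro i j
        have := congrFun (congrFun (congrArg (fun A : GU n F q => A.1.1) hz) i) j
        simpa [coe_incGU, coe_scalarGU, Matrix.one_apply] using this
      set k₀ : Fin n := ⟨0, by omega⟩
      have h00 : h.1.1 k₀ k₀ ≠ 0 := fun h' => by
        have := hent k₀ k₀
        rw [h', map_zero, if_pos rfl] at this
        exact z.1.ne_zero this.symm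
      refine ⟨Units.mk0 _ h00, Matrix.ext fun i j => ι.injective ?_⟩
      rw [hent i j]
      simp only [Matrix.smul_apply, Matrix.one_apply, Units.val_mk0, smul_eq_mul, mul_ite, mul_one,
        mul_zero]
      split_ifs with hij
      · rw [hent, if_pos rfl]
      · rw [map_zero]
  exact ⟨(MulEquiv.subgroupCongr hrange.symm).trans
    ((QuotientGroup.quotientKerEquivRange Ψ).symm.trans
      (QuotientGroup.quotientMulEquivOfEq hker.symm))⟩

end Inc

end Cfsg.Agent.Lib.AutPSU
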