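import Cfsg.Agent.Lib.AutPSU.Common
import Cfsg.Agent.Lib.AutPSU.FieldCentralizer

/-!
Lib/AutPSU/LocalOdd: the `p'`-core of the centraliser of a field automorphism of odd prime order `p`
in an almost simple group with socle `PSU n`.
-/

set_option autoImplicit false
set_option linter.unusedSectionVars false

namespace Cfsg.Agent.Lib.AutPSU

open Matrix Cfsg.Agent.Lib.Unitary

/-- In `SU 3 (2)` a normal subgroup that is not central has order divisible by `9`. -/
theorem nine_dvd_of_noncentral {F : Type*} [Field F] [Fintype F] (hF : Fintype.card F = 2 ^ 2)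
    (M : Subgroup (SU 3 F 2)) [hM : M.Normal] (hMc : ¬ M ≤ Subgroup.center (SU 3 F 2)) :
    9 ∣ Nat.card M := by
  classical
  let φ : M × Fˣ →* Equiv.Perm (Fin 3 → F) :=
    { toFun := fun x =>
        { toFun := fun v => (x.2 : F) • (x.1.1.1.1 *ᵥ v)
          invFun := fun v => ((x.2⁻¹ : Fˣ) : F) • ((x.1.1)⁻¹.1.1 *ᵥ v)
          left_inv := fun v => by
            simp only [Matrix.mulVec_smul, SU_inv_mulVec, smul_smul, Units.inv_mul, one_smul]
          right_inv := fun v => by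
            simp only [Matrix.mulVec_smul, SU_mulVec_inv, smul_smul, Units.mul_inv, one_smul] }
      map_one' := Equiv.ext fun v => by
        show ((1 : Fˣ) : F) • ((1 : SU 3 F 2).1.1 *ᵥ v) = v
        simp
      map_mul' := fun x y => Equiv.ext fun v => by
        show ((x.2 * y.2 : Fˣ) : F) • ((x.1.1 * y.1.1).1.1 *ᵥ v) =
          (x.2 : F) • (x.1.1.1.1 *ᵥ ((y.2 : F) • (y.1.1.1.1 *ᵥ v)))
        rw [SU_mul_mulVec, Matrix.mulVec_smul, smul_smul, Units.val_mul] }
  letI : MulAction (M × Fˣ) (Fin 3 → F) := MulAction.compHom _ φ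
  obtain ⟨e, f, hef⟩ := exists_hyp_any (F := F) (n := 3) hF (by norm_num)
  have he : IsoVec 2 e := ⟨ne_zero_of_hyp hef, hef.1⟩
  have horb : MulAction.orbit (M × Fˣ) e =
      {v : Fin 3 → F | hermForm 3 F 2 v v = 0} \ {0} := by
    ext v
    constructor
    · rintro ⟨x, rfl⟩
      show hermForm 3 F 2 ((x.2 : F) • (x.1.1.1.1 *ᵥ e)) ((x.2 : F) • (x.1.1.1.1 *ᵥ e)) = 0 ∧
        (x.2 : F) • (x.1.1.1.1 *ᵥ e) ≠ 0
      refine ⟨by rw [herm_smul_left, herm_smul_right, SU_herm, he.2, mul_zero, mul_zero],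
        smul_ne_zero x.2.ne_zero fun h0 => he.1 ?_⟩
      rw [← SU_inv_mulVec x.1.1 e, h0, Matrix.mulVec_zero]
    · rintro ⟨hv, hv0⟩
      obtain ⟨g, hg, a, ha, hga⟩ := orbitRel_all hF le_rfl hM hMc he (show IsoVec 2 v from ⟨hv0, hv⟩)
      refine ⟨(⟨g, hg⟩, (Units.mk0 a ha)⁻¹), ?_⟩
      show ((Units.mk0 a ha)⁻¹ : Fˣ).1 • (g.1.1 *ᵥ e) = v
      rw [hga, smul_smul, Units.val_inv_eq_inv_val, Units.val_mk0, inv_mul_cancel₀ ha, one_smul]
  have hnull : {v : Fin 3 → F | hermForm 3 F 2 v v = 0}.ncard = 28 := by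
    have := q_mul_countNull hF 3
    have h2 : countNull F 2 3 = 28 := by norm_num at this; omega
    rw [← h2, countNull, ← Nat.card_coe_set_eq]
    rfl
  have h1 := (MulAction.stabilizer (M × Fˣ) e).index_dvd_card
  rw [MulAction.index_stabilizer, horb, Set.ncard_diff_singleton_of_mem
    (show (0 : Fin 3 → F) ∈ {v : Fin 3 → F | hermForm 3 F 2 v v = 0} from herm_zero_left _), hnull,
    Nat.card_prod, Nat.card_units, show Nat.card F = 4 by rw [Nat.card_eq_fintype_card, hF]; norm_num] at h1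
  have h2 : 27 ∣ Nat.card M * 3 := h1
  omega

variable {F : Type*} [Field F] [Fintype F] {q : ℕ} {n : ℕ}
variable {F₀ : Type*} [Field F₀] [Fintype F₀] {q0 : ℕ} (ι : F₀ →+* F)
  (hF : Fintype.card F = q ^ 2) (hF₀ : Fintype.card F₀ = q0 ^ 2)
  (hι : ∀ y : F₀, ι y ^ q = ι (y ^ q0))
  {σ : F ≃+* F} (hfix : ∀ x, σ x = x ↔ x ∈ Set.range ι)

include hF hF₀ hι hfix in
/-- A semilinear map fixing the isotropic lines over the fixed field is scalar and trivial there. -/
theorem scalar_of_fix_lines_sub (hn : 3 ≤ n) (g : GU n F q) (τ : F ≃+* F)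
    (hlines : ∀ v : Fin n → F, v ≠ 0 → hermForm n F q v v = 0 → sv σ v = v →
      ∃ a : F, g.1.1 *ᵥ sv τ v = a • v) :
    (∃ l : F, ∀ x, g.1.1 *ᵥ x = l • x) ∧ ∀ t, σ t = t → τ t = t := by
  classical
  set G : Matrix (Fin n) (Fin n) F := g.1.1
  have hm1 : (-1 : F₀) ^ q0 = -1 := by rw [neg_pow_q hF₀, one_pow]
  have hnorm : ∀ y : F₀, y ^ q0 = y → ∃ x : F₀, ι x * ι x ^ q = ι y := fun y hy => by
    obtain ⟨x, hx⟩ := norm_surj hF₀ hy
    exact ⟨x, by rw [hι, ← map_mul, hx]⟩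
  have hσι : ∀ y, σ (ι y) = ι y := fun y => (hfix _).2 ⟨y, rfl⟩
  have hh : ∀ (i j : Fin n) (a b : F), hermForm n F q (a • Pi.single i (1 : F)) (b • Pi.single j 1) =
      if i = j then a * b ^ q else 0 := fun i j a b => by
    rw [herm_smul_left, herm_smul_right, herm_std hF]
    split_ifs <;> ring
  -- off-diagonal entries vanish
  have hpair : ∀ i j k : Fin n, i ≠ j → k ≠ i → k ≠ j → ∀ a : F₀, ι a * ι a ^ q = ι (-1) →
      G k i + τ (ι a) * G k j = 0 := by
    intro i j k hij hki hkj a ha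
    set v : Fin n → F := (1 : F) • Pi.single i (1 : F) + ι a • Pi.single j 1 with hv
    have hv0 : v ≠ 0 := fun h0 => by
      have := congrFun h0 i
      simp [v, hij] at this
    have hvv : hermForm n F q v v = 0 := by
      simp only [v, herm_add_left, herm_add_right _ _ _ hF, hh, if_true, if_neg hij, if_neg hij.symm]
      rw [one_pow, ha, map_neg, map_one]
      ring
    have hσv : sv σ v = v := by
      rw [hv, sv_add, sv_smul, sv_smul, sv_single, sv_single, map_one, hσι]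
    obtain ⟨c, hc⟩ := hlines v hv0 hvv hσv
    have := congrFun hc k
    rw [hv, sv_add, sv_smul, sv_smul, sv_single, sv_single, map_one, Matrix.mulVec_add,
      Matrix.mulVec_smul, Matrix.mulVec_smul] at this
    simp only [Pi.add_apply, Pi.smul_apply, mulVec_single_col, smul_eq_mul, one_mul] at this
    rw [this]
    simp [Pi.single_eq_of_ne hki, Pi.single_eq_of_ne hkj]
  obtain ⟨a1, ha1⟩ := hnorm (-1) hm1
  obtain ⟨u, hu, hu1⟩ : ∃ u : F₀, u ^ (q0 + 1) = 1 ∧ u ≠ 1 := by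
    by_contra hh
    push Not at hh
    have h1 := card_norm_one hF₀
    have : Subsingleton {x : F₀ // x ^ (q0 + 1) = 1} :=
      ⟨fun a b => Subtype.ext ((hh a.1 a.2).trans (hh b.1 b.2).symm)⟩
    rw [Nat.card_of_subsingleton ⟨1, one_pow _⟩] at h1
    have := one_lt_q hF₀
    omega
  have ha2 : ι (u * a1) * ι (u * a1) ^ q = ι (-1) := by
    rw [map_mul, mul_pow, mul_mul_mul_comm, ha1, hι, ← map_mul, ← pow_succ', hu, map_one, one_mul]
  have ha10 : a1 ≠ 0 := fun h0 => by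
    rw [h0, map_zero, zero_mul, map_neg, map_one] at ha1
    exact neg_ne_zero.2 one_ne_zero ha1.symm
  have hoff : ∀ k j : Fin n, k ≠ j → G k j = 0 := by
    intro k j hkj
    obtain ⟨i, hij, hik⟩ : ∃ i : Fin n, i ≠ j ∧ i ≠ k := by
      by_contra hh
      push Not at hh
      have h1 : (Finset.univ : Finset (Fin n)) ⊆ {j, k} := fun i _ => by
        by_cases h : i = j
        · simp [h]
        · simp [hh i h]
      have := Finset.card_le_card h1
      rw [Finset.card_univ, Fintype.card_fin] at this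
      have := Finset.card_le_two (a := j) (b := k)
      omega
    have h1 := hpair i j k hij (Ne.symm hik) hkj a1 ha1
    have h2 := hpair i j k hij (Ne.symm hik) hkj (u * a1) ha2
    have h3 : (τ (ι (u * a1)) - τ (ι a1)) * G k j = 0 := by linear_combination h2 - h1
    refine (mul_eq_zero.1 h3).resolve_left (sub_ne_zero.2 fun h4 => hu1 ?_)
    exact mul_right_cancel₀ ha10 ((ι.injective (τ.injective h4)).trans (one_mul a1).symm)
  have hdiag : ∀ (k : Fin n), G k k ≠ 0 := fun k h0 =>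
    det_ne_zero_of_preserving hF g.2 (Matrix.det_eq_zero_of_column_eq_zero k fun i => by
      rcases eq_or_ne i k with rfl | hik
      · exact h0
      · exact hoff i k hik)
  have htriple : ∀ i j k : Fin n, i ≠ j → i ≠ k → j ≠ k → ∀ x : F₀,
      G i i * τ (ι x) = G k k * ι x := by
    intro i j k hij hik hjk x
    have hy : (-1 - x * x ^ q0 : F₀) ^ q0 = -1 - x * x ^ q0 := by
      rw [sub_pow_q hF₀, hm1, mul_pow, pow_q_q hF₀, mul_comm (x ^ q0)]
    obtain ⟨y, hy⟩ := hnorm _ hy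
    set v : Fin n → F := ι x • Pi.single i (1 : F) + ι y • Pi.single j 1 + (1 : F) • Pi.single k 1
      with hv
    have hv0 : v ≠ 0 := fun h0 => by
      have := congrFun h0 k
      simp [v, hik.symm, hjk.symm] at this
    have hvv : hermForm n F q v v = 0 := by
      simp only [v, herm_add_left, herm_add_right _ _ _ hF, hh, if_true, if_neg hij, if_neg hij.symm,
        if_neg hik, if_neg hik.symm, if_neg hjk, if_neg hjk.symm]
      rw [one_pow, hy, hι x, ← map_mul, map_sub, map_neg, map_one]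
      ring
    have hσv : sv σ v = v := by
      rw [hv, sv_add, sv_add, sv_smul, sv_smul, sv_smul, sv_single, sv_single, sv_single, map_one,
        hσι, hσι]
    obtain ⟨c, hc⟩ := hlines v hv0 hvv hσv
    rw [hv, sv_add, sv_add, sv_smul, sv_smul, sv_smul, sv_single, sv_single, sv_single, map_one,
      Matrix.mulVec_add, Matrix.mulVec_add, Matrix.mulVec_smul, Matrix.mulVec_smul,
      Matrix.mulVec_smul] at hc
    have hk := congrFun hc k
    have hi := congrFun hc i
    simp only [Pi.add_apply, Pi.smul_apply, mulVec_single_col, smul_eq_mul, one_mul,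
      hoff k i hik.symm, hoff k j hjk.symm, hoff i j hij, hoff i k hik, mul_zero, add_zero,
      zero_add, Pi.single_eq_same, Pi.single_eq_of_ne hik, Pi.single_eq_of_ne hij,
      Pi.single_eq_of_ne hik.symm, Pi.single_eq_of_ne hjk.symm, mul_one] at hk hi
    rw [mul_comm, hi, hk]
  set i0 : Fin n := ⟨0, by omega⟩
  set i1 : Fin n := ⟨1, by omega⟩
  set i2 : Fin n := ⟨2, by omega⟩
  have h01 : i0 ≠ i1 := by simp [i0, i1]
  have h02 : i0 ≠ i2 := by simp [i0, i2]
  have h12 : i1 ≠ i2 := by simp [i1, i2]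
  have hd : ∀ k, G k k = G i0 i0 := by
    intro k
    rcases eq_or_ne k i0 with rfl | hk
    · rfl
    obtain ⟨j, hj0, hjk⟩ : ∃ j : Fin n, i0 ≠ j ∧ j ≠ k := by
      rcases eq_or_ne k i1 with rfl | h
      · exact ⟨i2, h02, h12.symm⟩
      · exact ⟨i1, h01, Ne.symm h⟩
    have := htriple i0 j k hj0 hk.symm hjk 1
    rw [map_one, map_one, mul_one, mul_one] at this
    exact this.symm
  refine ⟨⟨G i0 i0, fun x => funext fun k => ?_⟩, fun t ht => ?_⟩
  · show (G *ᵥ x) k = _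
    rw [Matrix.mulVec, dotProduct, Finset.sum_eq_single k (fun j _ hj => by rw [hoff k j hj.symm, zero_mul])
      (fun h0 => absurd (Finset.mem_univ k) h0), hd k]
    rfl
  · obtain ⟨x, rfl⟩ := (hfix t).1 ht
    have := htriple i0 i1 i2 h01 h02 h12 x
    rw [hd i2] at this
    exact mul_left_cancel₀ (hdiag i0) this

/-- `SU n (q₀)` acting on `PSU n (q)`. -/
noncomputable def subPSU : SU n F₀ q0 →* MulAut (PSU n F q) :=
  ((conjPSU n F q).comp (incGU ι hF hF₀ hι)).comp (suToGU n F₀ q0)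

theorem subPSU_apply (s : SU n F₀ q0) :
    subPSU ι hF hF₀ hι s = conjPSU n F q (incGU ι hF hF₀ hι (suToGU n F₀ q0 s)) := rfl

include hfix in
theorem subPSU_range_le (hn : 3 ≤ n) :
    (subPSU ι hF hF₀ hι : SU n F₀ q0 →* MulAut (PSU n F q)).range ≤
      Cfsg.Inn (PSU n F q) ⊓ Subgroup.centralizer {fieldPSU n F q σ} := by
  rintro _ ⟨s, rfl⟩
  refine ⟨?_, incGU_mem_cent ι hF hF₀ hι hfix hn _⟩
  rw [inn_eq_map]
  refine Subgroup.mem_map_of_mem _ (MonoidHom.mem_ker.2 (Units.ext ?_))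
  rw [← coe_detU hF, coe_detU_incGU, suToGU_val, s.1.2, map_one, Units.val_one]

include hfix in
theorem inndiag_centralizer_le (hn : 3 ≤ n) {p : ℕ} (hσ : orderOf σ = p) (hp : 0 < p) :
    Cfsg.inndiagPSU n F q ⊓ Subgroup.centralizer {fieldPSU n F q σ} ≤
      ((conjPSU n F q).comp (incGU (n := n) ι hF hF₀ hι)).range := by
  rw [inndiag_inf_centralizer]
  rintro _ ⟨g, hg, rfl⟩
  obtain ⟨z, h, rfl⟩ := exists_scalar_incGU ι hF hF₀ hι hfix hn hσ hp hg
  exact ⟨h, by rw [map_mul, conjPSU_scalarGU hF hn, one_mul]; rfl⟩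

theorem conj_mem_subPSU_range (h : GU n F₀ q0) :
    ∀ x ∈ (subPSU ι hF hF₀ hι : SU n F₀ q0 →* MulAut (PSU n F q)).range,
      conjPSU n F q (incGU ι hF hF₀ hι h) * x * (conjPSU n F q (incGU ι hF hF₀ hι h))⁻¹ ∈
        (subPSU ι hF hF₀ hι : SU n F₀ q0 →* MulAut (PSU n F q)).range := by
  rintro _ ⟨s, rfl⟩
  refine ⟨conjSU h s, ?_⟩
  rw [subPSU_apply, subPSU_apply, suToGU_conjSU, map_mul, map_mul, map_mul, map_mul, map_inv,
    map_inv]

/-- If `p` divides the order of a subgroup of `PGU n (q₀)`, it divides that of `PSU n (q₀)`. -/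
theorem dvd_card_subPSU_range (hn : 3 ≤ n) {p : ℕ} [hp : Fact p.Prime]
    {D : Subgroup (MulAut (PSU n F q))}
    (hD : D ≤ ((conjPSU n F q).comp (incGU ι hF hF₀ hι)).range) (hpD : p ∣ Nat.card D) :
    p ∣ Nat.card (subPSU ι hF hF₀ hι : SU n F₀ q0 →* MulAut (PSU n F q)).range := by
  classical
  set θ : SU n F₀ q0 →* MulAut (PSU n F q) := subPSU ι hF hF₀ hι
  suffices h : ∃ y ∈ θ.range, orderOf y = p by
    obtain ⟨y, hy, ho⟩ := h
    rw [← ho]
    exact Subgroup.orderOf_dvd_natCard _ hy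
  by_cases hpq : p ∣ q0 + 1
  · obtain ⟨z, hz⟩ := exists_prime_orderOf_dvd_card' (G := U1 F₀ q0) p
      (by rw [(card_normHom hF₀).1]; exact hpq)
    set i0 : Fin n := ⟨0, by omega⟩
    set i1 : Fin n := ⟨1, by omega⟩
    set i2 : Fin n := ⟨2, by omega⟩
    have h01 : i0 ≠ i1 := by simp [i0, i1]
    obtain ⟨A, hAd, hA0, hAf⟩ := exists_GU_scale hF₀ (x := (Pi.single i0 1 : Fin n → F₀))
      (by rw [herm_std hF₀, if_pos rfl]) (U1_val_pow z)
    obtain ⟨B, hBd, hB1, hBf⟩ := exists_GU_scale hF₀ (x := (Pi.single i1 1 : Fin n → F₀))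
      (by rw [herm_std hF₀, if_pos rfl]) (U1_val_pow z⁻¹)
    obtain ⟨s, hs⟩ : ∃ s : SU n F₀ q0, suToGU n F₀ q0 s = A * B := by
      have : A * B ∈ (suToGU n F₀ q0).range := by
        rw [suToGU_range, MonoidHom.mem_ker]
        refine Units.ext ?_
        rw [detGU_val, Subgroup.coe_mul, Units.val_mul, Matrix.det_mul, hAd, hBd, ← Units.val_mul,
          ← Subgroup.coe_mul, mul_inv_cancel]
        rfl
      exact this
    have hsi : ∀ i, ∃ c : F₀, c ^ p = 1 ∧
        s.1.1 *ᵥ (Pi.single i 1 : Fin n → F₀) = c • (Pi.single i 1 : Fin n → F₀) ∧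
        (i = i0 → c = z.1) ∧ (i = i2 → c = 1) := by
      intro i
      have hzp : ((z : U1 F₀ q0).1 : F₀) ^ p = 1 := by
        rw [← Units.val_pow_eq_pow_val, ← SubgroupClass.coe_pow, ← hz, pow_orderOf_eq_one]; rfl
      rw [← suToGU_val, hs, GU_mul_mulVec]
      rcases eq_or_ne i i1 with rfl | h1
      · refine ⟨((z⁻¹ : U1 F₀ q0).1 : F₀), ?_, ?_, fun h => absurd h h01.symm,
          fun h => absurd h (by simp [i1, i2])⟩
        · rw [← Units.val_pow_eq_pow_val, ← SubgroupClass.coe_pow, inv_pow, ← hz, pow_orderOf_eq_one,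
            inv_one]
          rfl
        · rw [hB1, Matrix.mulVec_smul, hAf _ (by rw [herm_std hF₀, if_neg h01.symm])]
      rw [hBf _ (by rw [herm_std hF₀, if_neg h1])]
      rcases eq_or_ne i i0 with rfl | h0
      · exact ⟨_, hzp, hA0, fun _ => rfl, fun h => absurd h (by simp [i0, i2])⟩
      · exact ⟨1, one_pow p, by rw [hAf _ (by rw [herm_std hF₀, if_neg h0]), one_smul],
          fun h => absurd h h0, fun _ => rfl⟩
    refine ⟨θ s, ⟨s, rfl⟩, orderOf_eq_prime ?_ ?_⟩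
    · rw [← map_pow, show s ^ p = 1 from ?_, map_one]
      refine suToGU_injective (GU_ext_col fun i => ?_)
      obtain ⟨c, hc, hsc, -, -⟩ := hsi i
      have hpow : ∀ k, (s ^ k).1.1 *ᵥ (Pi.single i 1 : Fin n → F₀) = c ^ k • Pi.single i 1 := by
        intro k
        induction k with
        | zero =>
          rw [pow_zero, pow_zero, one_smul]
          exact Matrix.one_mulVec _
        | succ k ih => rw [pow_succ, SU_mul_mulVec, hsc, Matrix.mulVec_smul, ih, smul_smul, pow_succ']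
      rw [suToGU_val, hpow, hc, one_smul, map_one, GU_one_mulVec]
    · intro h
      obtain ⟨w, hw⟩ := (conjPSU_eq_one_iff hF hn).1 h
      have hd : ∀ i (c : F₀), s.1.1 *ᵥ (Pi.single i 1 : Fin n → F₀) = c • Pi.single i 1 →
          ι c = (w.1 : F) := by
        intro i c hc
        have h1 := congrFun (congrFun (congrArg (fun X : GU n F q => X.1.1) hw) i) i
        simp only [coe_incGU, suToGU_val, coe_scalarGU, Matrix.map_apply, Matrix.smul_apply,
          Matrix.one_apply_eq, smul_eq_mul, mul_one] at h1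
        have h2 := congrFun hc i
        rw [mulVec_single_col, Pi.smul_apply, Pi.single_eq_same, smul_eq_mul, mul_one] at h2
        rw [← h2, h1]
      obtain ⟨c0, -, hc0, he0, -⟩ := hsi i0
      obtain ⟨c2, -, hc2, -, he2⟩ := hsi i2
      have := (hd _ _ hc0).trans (hd _ _ hc2).symm
      rw [he0 rfl, he2 rfl, ι.injective.eq_iff] at this
      rw [show z = 1 from Subtype.ext (Units.ext this), orderOf_one] at hz
      exact hp.out.one_lt.ne hz
  · obtain ⟨⟨y, hy⟩, hoy⟩ := exists_prime_orderOf_dvd_card' p hpD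
    rw [Subgroup.orderOf_mk] at hoy
    obtain ⟨h, rfl⟩ := hD hy
    refine ⟨((conjPSU n F q).comp (incGU ι hF hF₀ hι) h) ^ (q0 + 1), ?_,
      by rw [Nat.Coprime.orderOf_pow (hoy.symm ▸ (hp.out.coprime_iff_not_dvd.2 hpq)), hoy]⟩
    rw [← map_pow]
    have : h ^ (q0 + 1) ∈ (suToGU n F₀ q0).range := by
      rw [suToGU_range, MonoidHom.mem_ker, ← coe_detU hF₀, map_pow,
        ← (card_normHom hF₀).1, pow_card_eq_one']
      rfl
    obtain ⟨s, hs⟩ := this
    exact ⟨s, by rw [subPSU_apply, hs]; rfl⟩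

/-- Normal `p'`-subgroups of `PSU n (q₀)` are trivial. -/
theorem eq_bot_of_le_subPSU_range (hn : 3 ≤ n) {p : ℕ} [hp : Fact p.Prime] (hpo : Odd p)
    (hpN : p ∣ Nat.card (subPSU ι hF hF₀ hι : SU n F₀ q0 →* MulAut (PSU n F q)).range)
    (W : Subgroup (MulAut (PSU n F q)))
    (hW : W ≤ (subPSU ι hF hF₀ hι : SU n F₀ q0 →* MulAut (PSU n F q)).range)
    (hWn : ∀ x ∈ (subPSU ι hF hF₀ hι : SU n F₀ q0 →* MulAut (PSU n F q)).range, ∀ w ∈ W,
      x * w * x⁻¹ ∈ W)
    (hWp : ¬ p ∣ Nat.card W) : W = ⊥ := by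
  classical
  set θ : SU n F₀ q0 →* MulAut (PSU n F q) := subPSU ι hF hF₀ hι
  have hMn : (W.comap θ).Normal := ⟨fun w hw g => by
    rw [Subgroup.mem_comap, map_mul, map_mul, map_inv]
    exact hWn _ ⟨g, rfl⟩ _ hw⟩
  have hcen : ∀ s ∈ Subgroup.center (SU n F₀ q0), θ s = 1 := by
    intro s hs
    obtain ⟨l, hl⟩ := (mem_center_SU_iff hF₀ (by omega) s).1 hs
    have hM : s.1.1 = l • 1 := Matrix.toLin'.injective (LinearMap.ext fun x => by
      rw [Matrix.toLin'_apply, Matrix.toLin'_apply, hl, Matrix.smul_mulVec, Matrix.one_mulVec])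
    obtain ⟨z, -, hz⟩ := exists_scalarGU (by omega)
      (g := incGU ι hF hF₀ hι (suToGU n F₀ q0 s)) (l := ι l) fun x => by
        rw [coe_incGU, suToGU_val, hM, Matrix.smul_one_eq_diagonal, Matrix.diagonal_map (map_zero ι)]
        exact funext fun i => Matrix.mulVec_diagonal _ _ i
    rw [show θ s = conjPSU n F q (incGU ι hF hF₀ hι (suToGU n F₀ q0 s)) from rfl, hz,
      conjPSU_scalarGU hF hn]
  by_cases hc : W.comap θ ≤ Subgroup.center (SU n F₀ q0)
  · rw [eq_bot_iff]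
    intro w hw
    obtain ⟨s, rfl⟩ := hW hw
    exact hcen s (hc hw)
  exfalso
  by_cases h32 : n = 3 ∧ q0 = 2
  · obtain ⟨rfl, rfl⟩ := h32
    have h9 := @nine_dvd_of_noncentral _ _ _ hF₀ (W.comap θ) hMn hc
    have hS : Nat.card (SU 3 F₀ 2) = 216 := by
      have h2 := card_SU hF₀ (n := 3) (by norm_num)
      rw [card_GU hF₀] at h2
      norm_num [Finset.prod_range_succ, -Nat.card_eq_fintype_card] at h2
      omega
    have hd216 : p ∣ 216 := hS ▸ hpN.trans (Subgroup.card_range_dvd θ)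
    have hp3 : p = 3 := by
      have h8 : (216 : ℕ) = 2 ^ 3 * 3 ^ 3 := by norm_num
      rw [h8] at hd216
      rcases hp.out.dvd_mul.1 hd216 with h | h
      · have := (Nat.prime_dvd_prime_iff_eq hp.out Nat.prime_two).1 (hp.out.dvd_of_dvd_pow h)
        subst this
        exact absurd hpo (by decide)
      · exact (Nat.prime_dvd_prime_iff_eq hp.out Nat.prime_three).1 (hp.out.dvd_of_dvd_pow h)
    subst hp3
    let ψ : (W.comap θ) →* W := (θ.comp (W.comap θ).subtype).codRestrict W fun x => x.2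
    have hψker : Nat.card ψ.ker ∣ 3 := by
      have hle : θ.ker ≤ Subgroup.center (SU 3 F₀ 2) := by
        intro s hs
        obtain ⟨z, hz⟩ := (conjPSU_eq_one_iff hF hn).1 (MonoidHom.mem_ker.1 hs)
        rw [mem_center_SU_iff hF₀ (by norm_num)]
        have hent : ∀ i j, ι (s.1.1 i j) = if i = j then (z.1 : F) else 0 := by
          intro i j
          have := congrFun (congrFun (congrArg (fun A : GU 3 F q => A.1.1) hz) i) j
          simpa [coe_incGU, coe_scalarGU, Matrix.one_apply] using this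
        refine ⟨s.1.1 0 0, fun x => ?_⟩
        have hM : s.1.1 = s.1.1 0 0 • 1 := Matrix.ext fun i j => ι.injective (by
          rw [hent i j, Matrix.smul_apply, Matrix.one_apply, smul_eq_mul, mul_ite, mul_one, mul_zero]
          split_ifs with hij
          · rw [hent 0 0, if_pos rfl]
          · rw [map_zero])
        conv_lhs => rw [hM, Matrix.smul_mulVec, Matrix.one_mulVec]
      have h1 : Nat.card ψ.ker = Nat.card ((W.comap θ).subtype.comp ψ.ker.subtype).range :=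
        Nat.card_congr (MonoidHom.ofInjective (by
          exact Subtype.val_injective.comp Subtype.val_injective)).toEquiv
      rw [h1]
      have h3 : Nat.card (Subgroup.center (SU 3 F₀ 2)) = 3 := by
        rw [card_center_SU hF₀ (by norm_num)]
        exact Nat.gcd_self 3
      refine (Subgroup.card_dvd_of_le (K := Subgroup.center (SU 3 F₀ 2)) ?_).trans (dvd_of_eq h3)
      rintro _ ⟨x, rfl⟩
      exact hle (MonoidHom.mem_ker.2 (congrArg Subtype.val (MonoidHom.mem_ker.1 x.2)))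
    have h1 := Subgroup.card_eq_card_quotient_mul_card_subgroup ψ.ker
    rw [Nat.card_congr (QuotientGroup.quotientKerEquivRange ψ).toEquiv] at h1
    have hdvd : 9 ∣ Nat.card W * 3 := h9.trans (h1 ▸ Nat.mul_dvd_mul
      (Subgroup.card_subgroup_dvd_card ψ.range) hψker)
    exact hWp (Nat.dvd_of_mul_dvd_mul_right (by norm_num : 0 < 3) (hdvd : 3 * 3 ∣ _))
  · have htop := SU_normal_eq_top hF₀ hn h32 hMn hc
    have : θ.range ≤ W := by
      rintro _ ⟨s, rfl⟩
      exact (htop ▸ Subgroup.mem_top s : s ∈ W.comap θ)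
    rw [le_antisymm hW this] at hWp
    exact hWp hpN

include hfix in
/-- An automorphism centralising `PSU n (q₀)` is a power of the field automorphism. -/
theorem mem_zpowers_of_commute (hn : 3 ≤ n) (h32 : ¬ (n = 3 ∧ q = 2)) {c : MulAut (PSU n F q)}
    (hc : ∀ x ∈ (subPSU ι hF hF₀ hι : SU n F₀ q0 →* MulAut (PSU n F q)).range, c * x = x * c) :
    c ∈ Subgroup.zpowers (fieldPSU n F q σ) := by
  obtain ⟨g, τ, rfl⟩ := exists_decomp hF hn h32 c
  obtain ⟨θ0, hθ00, hθ0⟩ := exists_trace_zero_ne_zero hF₀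
  set θ : F := ι θ0
  have hθ : θ + θ ^ q = 0 := by rw [hι, ← map_add, hθ0, map_zero]
  have hθne : θ ≠ 0 := (map_ne_zero ι).2 hθ00
  have hlines : ∀ v : Fin n → F, v ≠ 0 → hermForm n F q v v = 0 → sv σ v = v →
      ∃ a : F, g.1.1 *ᵥ sv τ v = a • v := by
    intro v hv0 hv hσv
    obtain ⟨T, hT, hTd⟩ := exists_tv hF hv hθ
    have hTσ : fieldGU σ T = T := by
      have h1 := isTvAt_fieldGU σ hT
      rw [hσv, (hfix θ).2 ⟨θ0, rfl⟩] at h1
      exact h1.unique hT
    obtain ⟨h, hh⟩ := exists_incGU ι hF hF₀ hι hfix hTσ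
    obtain ⟨s, hs⟩ : ∃ s, suToGU n F₀ q0 s = h := by
      have h1 := coe_detU_incGU ι hF hF₀ hι h
      rw [coe_detU, detGU_val, hh, hTd] at h1
      have : h ∈ (suToGU n F₀ q0).range := by
        rw [suToGU_range, MonoidHom.mem_ker]
        exact Units.ext (ι.injective (by rw [detGU_val, ← h1, Units.val_one, map_one]))
      exact this
    have h1 := hc _ ⟨s, rfl⟩
    rw [subPSU_apply, hs, hh, mul_assoc, fieldPSU_conjPSU, ← mul_assoc (conjPSU n F q g),
      ← mul_assoc (conjPSU n F q T), mul_left_inj, ← map_mul, ← map_mul] at h1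
    obtain ⟨z, hz⟩ := (conjPSU_eq_iff hF hn).1 h1
    have hB : IsTvAt (g.1.1 *ᵥ sv τ v) (τ θ) (g * fieldGU τ T * g⁻¹) :=
      (isTvAt_fieldGU τ hT).conj g
    have h2 : g * fieldGU τ T * g⁻¹ = scalarGU z⁻¹ * T := by
      rw [map_inv, mul_inv_eq_iff_eq_mul, mul_assoc, eq_inv_mul_iff_mul_eq, ← hz]
    exact (eq_of_tv_scalar hF hn hT hB (by simpa using hθne) h2).2
  obtain ⟨⟨l, hl⟩, hτ⟩ := scalar_of_fix_lines_sub ι hF hF₀ hι hfix hn g τ hlines
  obtain ⟨z, -, rfl⟩ := exists_scalarGU (by omega) hl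
  rw [conjPSU_scalarGU hF hn, one_mul]
  obtain ⟨r, m, hr, -, -, hq⟩ := q_eq_primePow hF
  haveI : Fact r.Prime := ⟨hr⟩
  obtain ⟨k, hk⟩ := Subgroup.mem_zpowers_iff.1 (Cfsg.Agent.Lib.AutPSL.mem_zpowers_of_fix
    (r := r) (f := m * 2) (by rw [hF, hq, pow_mul]) σ τ hτ)
  exact Subgroup.mem_zpowers_iff.2 ⟨k, by rw [← map_zpow, hk]⟩

include hfix in
theorem exists_ne_one_subPSU_range (hn : 3 ≤ n) :
    ∃ x ∈ (subPSU ι hF hF₀ hι : SU n F₀ q0 →* MulAut (PSU n F q)).range, x ≠ 1 := by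
  obtain ⟨θ0, hθ00, hθ0⟩ := exists_trace_zero_ne_zero hF₀
  obtain ⟨e, f, hef⟩ := exists_hyp_any (F := F₀) (n := n) hF₀ (by omega)
  obtain ⟨X, hX⟩ := exists_SU_tv hF₀ hef.1 hθ0
  refine ⟨_, ⟨X, rfl⟩, fun h => ?_⟩
  rw [subPSU_apply] at h
  obtain ⟨z, hz⟩ := (conjPSU_eq_one_iff hF hn).1 h
  obtain ⟨y, hy0, hye, -⟩ := exists_perp_two hF₀ hn e e
  have hXy := hX.fix hye
  have hker : ∀ u : Fin n → F₀, ∀ i, ι (((suToGU n F₀ q0 X).1.1 *ᵥ u) i) = (z.1 : F) * ι (u i) := by
    intro u i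
    rw [RingHom.map_mulVec, ← coe_incGU ι hF hF₀ hι, hz, scalarGU_mulVec]
    rfl
  obtain ⟨j, hj⟩ : ∃ j, y j ≠ 0 := by
    by_contra hh
    push Not at hh
    exact hy0 (funext hh)
  have hz1 : (z.1 : F) = 1 := by
    have := hker y j
    rw [hXy] at this
    exact mul_right_cancel₀ ((map_ne_zero ι).2 hj) (this.symm.trans (one_mul _).symm)
  have h1 : (suToGU n F₀ q0 X).1.1 *ᵥ f = f := funext fun i => ι.injective (by
    rw [hker, hz1, one_mul])
  rw [hX f, hef.symm' hF₀, mul_one, add_eq_left, smul_eq_zero] at h1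
  exact h1.elim hθ00 (ne_zero_of_hyp hef)

include ι hF hF₀ hι hfix in
/-- The criterion for a standard field automorphism of odd prime order. -/
theorem pPrimeCore_iff_std (hn : 3 ≤ n) (h32 : ¬ (n = 3 ∧ q = 2)) {p : ℕ} [hp : Fact p.Prime]
    (hpo : Odd p) (hσ : orderOf σ = p) {𝒢 : Subgroup (MulAut (PSU n F q))}
    (hinn : Cfsg.Inn (PSU n F q) ≤ 𝒢) :
    Cfsg.pPrimeCore p ↥(𝒢 ⊓ Subgroup.centralizer {fieldPSU n F q σ}) ≠ ⊥ ↔
      ¬ p ∣ Nat.card ↥(Cfsg.Inn (PSU n F q) ⊓ Subgroup.centralizer {fieldPSU n F q σ}) := by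
  set x := fieldPSU n F q σ with hx
  set D := Cfsg.Inn (PSU n F q) ⊓ Subgroup.centralizer {x}
  set C := 𝒢 ⊓ Subgroup.centralizer {x}
  set θ : SU n F₀ q0 →* MulAut (PSU n F q) := subPSU ι hF hF₀ hι
  have hDC : D ≤ C := inf_le_inf_right _ hinn
  have hCD : ∀ c ∈ C, ∀ d ∈ D, c * d * c⁻¹ ∈ D := fun c hc d hd =>
    ⟨(Cfsg.innNormal _).conj_mem d hd.1 c, Subgroup.mul_mem _ (Subgroup.mul_mem _ hc.2 hd.2) (Subgroup.inv_mem _ hc.2)⟩
  have hND : θ.range ≤ D := subPSU_range_le ι hF hF₀ hι hfix hn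
  have hDle : D ≤ ((conjPSU n F q).comp (incGU ι hF hF₀ hι)).range :=
    (inf_le_inf_right _ inn_le_inndiagPSU).trans
      (inndiag_centralizer_le ι hF hF₀ hι hfix hn hσ hp.out.pos)
  constructor
  · intro hne hpD
    refine hne (Cfsg.Agent.Lib.AutPSL.pPrimeCore_eq_bot_of (x := x) hND hDC ?_ hCD ?_ ?_ ?_ ?_)
    · intro d hd y hy
      obtain ⟨h, rfl⟩ := hDle hd
      exact conj_mem_subPSU_range ι hF hF₀ hι h y hy
    · exact fun c _ _ h => mem_zpowers_of_commute ι hF hF₀ hι hfix hn h32 h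
    · rw [hx, orderOf_injective _ (fieldPSU_injective hF hn), hσ]
    · intro hxD
      have h1 : fieldPSU n F q σ ∈ (fieldPart hF hn h32).ker := by
        rw [fieldPart_ker]; exact inn_le_inndiagPSU hxD.1
      rw [MonoidHom.mem_ker, fieldPart_fieldPSU] at h1
      rw [h1, orderOf_one] at hσ
      exact hp.out.one_lt.ne hσ
    · exact eq_bot_of_le_subPSU_range ι hF hF₀ hι hn hpo
        (dvd_card_subPSU_range ι hF hF₀ hι hn hDle hpD)
  · intro hpD
    obtain ⟨y, hy, hy1⟩ := exists_ne_one_subPSU_range ι hF hF₀ hι hfix hn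
    exact Cfsg.Agent.Lib.AutPSL.pPrimeCore_ne_bot_of hDC hCD
      (fun h => hy1 (Subgroup.mem_bot.1 (h ▸ hND hy))) hpD

end Cfsg.Agent.Lib.AutPSU
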