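import Cfsg.Agent.Lib.AutPSU.RealForm

/-!
Lib/AutPSU/TwoSymp: odd subgroups of `GU n` normalised by the symplectic group of an alternating real
form are scalar; semilinear maps centralising its transvections.
-/

set_option autoImplicit false
set_option linter.unusedSectionVars false
set_option maxHeartbeats 400000

namespace Cfsg.Agent.Lib.AutPSU

open Matrix Cfsg.Agent.Lib.Unitary

variable {F : Type*} [Field F] [Fintype F] {q : ℕ} {n : ℕ} {s : F}

theorem isTvAt_smul (hF : Fintype.card F = q ^ 2) {v : Fin n → F} {k l : F} {A : GU n F q}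
    (hA : IsTvAt (l • v) k A) : IsTvAt v (k * l ^ (q + 1)) A := fun x => by
  rw [hA, herm_smul_right, smul_smul, pow_succ]
  congr 2
  ring

theorem isTvAt_mul (hF : Fintype.card F = q ^ 2) {v : Fin n → F} {c d : F} {A B : GU n F q}
    (hv : hermForm n F q v v = 0) (hA : IsTvAt v c A) (hB : IsTvAt v d B) :
    IsTvAt v (c + d) (A * B) := fun x => by
  rw [GU_mul_mulVec, hB x, hA, herm_add_left, herm_smul_left, hv, mul_zero, add_zero, add_mul,
    add_smul, add_assoc, add_comm (_ • v)]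

theorem isTvAt_zero (v : Fin n → F) : IsTvAt v 0 (1 : GU n F q) := fun x => by
  rw [GU_one_mulVec, zero_mul, zero_smul, add_zero]

theorem isTvAt_inv (hF : Fintype.card F = q ^ 2) {v : Fin n → F} {c : F} {A : GU n F q}
    (hv : hermForm n F q v v = 0) (hA : IsTvAt v c A) : IsTvAt v (-c) A⁻¹ := fun x => by
  apply GU_mulVec_injective A
  dsimp only
  rw [GU_mulVec_inv, hA, herm_add_left, herm_smul_left, hv, mul_zero, add_zero, add_assoc,
    ← add_smul, neg_mul, neg_add_cancel, zero_smul, add_zero]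

namespace RealStr

variable (R : RealStr n F q s) (hF : Fintype.card F = q ^ 2) (h2 : (2 : F) ≠ 0) (hs : s = -1)

include hs in
theorem symp_anti {u v : Fin n → F} (hu : R.Real u) (hv : R.Real v) :
    hermForm n F q u v ^ q = -hermForm n F q u v := by
  have h := R.herm_real hu hv
  rw [hs, neg_one_mul] at h
  rw [eq_neg_iff_add_eq_zero, add_comm, ← eq_neg_iff_add_eq_zero]
  exact h

include hF hs in
theorem symp_comm {u v : Fin n → F} (hu : R.Real u) (hv : R.Real v) :
    hermForm n F q v u = -hermForm n F q u v := by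
  rw [← herm_conj u v hF, R.symp_anti hs hu hv]

include hF h2 hs in
theorem symp_self {u : Fin n → F} (hu : R.Real u) : hermForm n F q u u = 0 := by
  have h := R.symp_comm hF hs hu hu
  exact (mul_eq_zero.1 (show (2 : F) * hermForm n F q u u = 0 by linear_combination h)).resolve_left h2

include hF h2 in
theorem exists_nonorth {a : Fin n → F} (ha0 : a ≠ 0) :
    ∃ y, R.Real y ∧ hermForm n F q a y ≠ 0 := by
  by_contra hcon
  push Not at hcon
  exact ha0 (R.eq_zero_of_perp_real hF h2 hcon)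

include hF h2 in
theorem exists_real_ne_zero (hn : 0 < n) : ∃ a, R.Real a ∧ a ≠ 0 := by
  by_contra hcon
  push Not at hcon
  have h1 := R.eq_zero_of_perp_real hF h2 (u := (Pi.single ⟨0, hn⟩ 1 : Fin n → F)) fun y hy => by
    rw [hcon y hy, herm_zero_right _ hF]
  have := congrFun h1 ⟨0, hn⟩
  simp at this

include hF h2 hs in
/-- An element of order four in the symplectic group of a plane. -/
theorem exists_plane_neg {a b : Fin n → F} (ha : R.Real a) (hb : R.Real b) {k : F}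
    (hk : k + k ^ q = 0) (hk0 : k ≠ 0) (hab : hermForm n F q a b ≠ 0) :
    ∃ (l : F) (Ta Tb : GU n F q), l + l ^ q = 0 ∧ IsTvAt a k Ta ∧ IsTvAt b l Tb ∧
      (∀ y, hermForm n F q y a = 0 → hermForm n F q y b = 0 → (Ta * Tb * Ta).1.1 *ᵥ y = y) ∧
      (Ta * Tb * Ta).1.1 *ᵥ ((Ta * Tb * Ta).1.1 *ᵥ a) = -a ∧
      (Ta * Tb * Ta).1.1 *ᵥ ((Ta * Tb * Ta).1.1 *ᵥ b) = -b := by
  set h := hermForm n F q a b with hh
  have hkq : k ^ q = -k := eq_neg_of_add_eq_zero_right hk
  set l := (k * h * h)⁻¹ with hl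
  have hl' : l + l ^ q = 0 := by
    rw [hl, inv_pow, mul_pow, mul_pow, hkq, R.symp_anti hs ha hb, neg_mul_neg, mul_neg, inv_neg,
      add_neg_cancel]
  obtain ⟨Ta, hTa, -⟩ := exists_tv hF (R.symp_self hF h2 hs ha) hk
  obtain ⟨Tb, hTb, -⟩ := exists_tv hF (R.symp_self hF h2 hs hb) hl'
  have haa := R.symp_self hF h2 hs ha
  have hbb := R.symp_self hF h2 hs hb
  have hba := R.symp_comm hF hs ha hb
  have hlk : l * h * (k * h) = 1 := by rw [hl]; field_simp
  have hJa : (Ta * Tb * Ta).1.1 *ᵥ a = (l * h) • b := by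
    rw [GU_mul_mulVec, GU_mul_mulVec, hTa.fix haa, hTb, hTa, herm_add_left, herm_smul_left, haa,
      hba, ← hh]
    have : k * (0 + l * h * -h) = -1 := by linear_combination -hlk
    rw [this, neg_one_smul]
    abel
  have hJb : (Ta * Tb * Ta).1.1 *ᵥ b = (-(k * h)) • a := by
    rw [GU_mul_mulVec, GU_mul_mulVec, hTa b, hba, ← hh, Matrix.mulVec_add, Matrix.mulVec_smul,
      hTb.fix hbb, hTb a, ← hh,
      show b + (k * -h) • (a + (l * h) • b) = (-(k * h)) • a by
        rw [smul_add, smul_smul, show k * -h * (l * h) = -1 by linear_combination -hlk,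
          neg_one_smul, mul_neg]
        abel,
      Matrix.mulVec_smul, hTa.fix haa]
  refine ⟨l, Ta, Tb, hl', hTa, hTb, fun y hya hyb => ?_, ?_, ?_⟩
  · rw [GU_mul_mulVec, GU_mul_mulVec, hTa.fix hya, hTb.fix hyb, hTa.fix hya]
  · rw [hJa, Matrix.mulVec_smul, hJb, smul_smul, mul_neg, hlk, neg_one_smul]
  · rw [hJb, Matrix.mulVec_smul, hJa, smul_smul, neg_mul,
      show k * h * (l * h) = 1 by linear_combination hlk, neg_one_smul]

include hF h2 hs in
/-- A map squaring to `-1` on a real plane and fixing its orthogonal has a noncentral involution as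
square. -/
theorem plane_square {a b : Fin n → F} (hn : 3 ≤ n) (ha : R.Real a) (hb : R.Real b)
    (hab : hermForm n F q a b ≠ 0) {x : GU n F q}
    (hfix : ∀ y, hermForm n F q y a = 0 → hermForm n F q y b = 0 → x.1.1 *ᵥ y = y)
    (hxa : x.1.1 *ᵥ (x.1.1 *ᵥ a) = -a) (hxb : x.1.1 *ᵥ (x.1.1 *ᵥ b) = -b) :
    x * x * (x * x) = 1 ∧ x * x ∉ (scalarGU : U1 F q →* GU n F q).range := by
  have haa := R.symp_self hF h2 hs ha
  have hbb := R.symp_self hF h2 hs hb
  have hba0 : hermForm n F q b a ≠ 0 := by rw [R.symp_comm hF hs ha hb]; exact neg_ne_zero.2 hab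
  refine ⟨GU_ext fun y => ?_, fun h => ?_⟩
  · set s0 := hermForm n F q y b / hermForm n F q a b
    set t0 := hermForm n F q y a / hermForm n F q b a
    set r := y - (s0 • a + t0 • b) with hr
    have hra : hermForm n F q r a = 0 := by
      rw [hr, herm_sub_left, herm_add_left, herm_smul_left, herm_smul_left, haa,
        div_mul_cancel₀ _ hba0]
      ring
    have hrb : hermForm n F q r b = 0 := by
      rw [hr, herm_sub_left, herm_add_left, herm_smul_left, herm_smul_left, hbb,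
        div_mul_cancel₀ _ hab]
      ring
    have hy : y = r + (s0 • a + t0 • b) := by rw [hr, sub_add_cancel]
    rw [GU_one_mulVec, GU_mul_mulVec, GU_mul_mulVec, GU_mul_mulVec, hy]
    simp only [Matrix.mulVec_add, Matrix.mulVec_smul, hfix r hra hrb, hxa, hxb, Matrix.mulVec_neg,
      neg_neg]
  · obtain ⟨y, hy0, hya, hyb⟩ := exists_perp_two hF hn a b
    have h1 := eq_one_of_scalar_fix h hy0 (by
      rw [GU_mul_mulVec, hfix y hya hyb, hfix y hya hyb])
    have h3 : (x * x).1.1 *ᵥ a = a := by rw [h1, GU_one_mulVec]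
    rw [GU_mul_mulVec, hxa] at h3
    have ha0 : a ≠ 0 := fun h0 => hab (by rw [h0, herm_zero_left])
    have h4 : (2 : F) • a = 0 := by
      rw [two_smul]
      conv_lhs => arg 1; rw [← h3]
      exact neg_add_cancel a
    exact h2 ((smul_eq_zero.1 h4).resolve_right ha0)

include hF h2 hs in
/-- Semilinear maps fixing all fixed lines are scalar on fixed vectors. -/
theorem symp_scalar_of_lines (hn : 3 ≤ n) (g : GU n F q) (τ : F ≃+* F)
    (h : ∀ v, R.Real v → ∃ a : F, g.1.1 *ᵥ sv τ v = a • v) :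
    ∃ l : F, ∀ v, R.Real v → g.1.1 *ᵥ sv τ v = l • v := by
  let L : (Fin n → F) → (Fin n → F) := fun x => g.1.1 *ᵥ sv τ x
  have hLadd : ∀ x y, L (x + y) = L x + L y := fun x y => by
    simp only [L, sv_add, Matrix.mulVec_add]
  have key : ∀ (a b : Fin n → F) (la lb : F), R.Real a → R.Real b → hermForm n F q a b ≠ 0 →
      L a = la • a → L b = lb • b → la = lb := by
    intro a b la lb ha hb hab hla hlb
    obtain ⟨l, hl⟩ := h _ (R.add_real ha hb)
    have h1 : la • a + lb • b = l • (a + b) := by rw [← hla, ← hlb, ← hLadd]; exact hl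
    have e1 := congrArg (fun x => hermForm n F q x b) h1
    have e2 := congrArg (fun x => hermForm n F q x a) h1
    simp only [herm_add_left, herm_smul_left, R.symp_self hF h2 hs ha, R.symp_self hF h2 hs hb,
      mul_zero, add_zero, zero_add] at e1 e2
    have hba : hermForm n F q b a ≠ 0 := by rw [R.symp_comm hF hs ha hb]; exact neg_ne_zero.2 hab
    exact (mul_right_cancel₀ hab e1).trans (mul_right_cancel₀ hba e2).symm
  obtain ⟨a, haR, ha0⟩ := R.exists_real_ne_zero hF h2 (by omega)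
  obtain ⟨la, hla⟩ := h a haR
  refine ⟨la, fun v hv => ?_⟩
  show L v = _
  obtain ⟨lv, hlv⟩ := h v hv
  rcases eq_or_ne v 0 with rfl | hv0
  · simp only [L, sv_zero, Matrix.mulVec_zero, smul_zero]
  -- a common fixed vector orthogonal to neither
  obtain ⟨z, hz, hza, hzv⟩ : ∃ z, R.Real z ∧ hermForm n F q a z ≠ 0 ∧ hermForm n F q v z ≠ 0 := by
    obtain ⟨y, hy, hay⟩ := R.exists_nonorth hF h2 ha0
    obtain ⟨y', hy', hvy⟩ := R.exists_nonorth hF h2 hv0
    by_cases h1 : hermForm n F q v y = 0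
    · by_cases h3 : hermForm n F q a y' = 0
      · exact ⟨y + y', R.add_real hy hy', by rw [herm_add_right _ _ _ hF, h3, add_zero]; exact hay,
          by rw [herm_add_right _ _ _ hF, h1, zero_add]; exact hvy⟩
      · exact ⟨y', hy', h3, hvy⟩
    · exact ⟨y, hy, hay, h1⟩
  obtain ⟨lz, hlz⟩ := h z hz
  rw [key a z la lz haR hz hza hla hlz, ← key v z lv lz hv hz hzv hlv hlz]
  exact hlv

variable (M : Subgroup (GU n F q))
  (hodd : ∀ m ∈ M, ∃ k, Odd k ∧ m ^ k ∈ (scalarGU : U1 F q →* GU n F q).range)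
  (hnorm : ∀ A ∈ R.commGroup, ∀ m ∈ M, A * m * A⁻¹ ∈ M)
  (hJ : ∀ m ∈ M, ∃ z : F, ∀ x, R.J (m.1.1 *ᵥ x) = z • m.1.1 *ᵥ R.J x)

include hF h2 hs hodd hnorm in
theorem pair_nonorth (hn : 3 ≤ n) {a b : Fin n → F} {c1 c2 : F} {A B : GU n F q} (ha : R.Real a)
    (hb : R.Real b) (hc1 : c1 + c1 ^ q = 0) (hc10 : c1 ≠ 0) (hA : IsTvAt a c1 A)
    (hB : IsTvAt b c2 B) (hab : hermForm n F q a b ≠ 0) (hM : A * B ∈ M) : False := by
  set h := hermForm n F q a b with hh
  have hhq : h ^ q = -h := R.symp_anti hs ha hb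
  have hc1q : c1 ^ q = -c1 := eq_neg_of_add_eq_zero_right hc1
  have hba := R.symp_comm hF hs ha hb
  have haa := R.symp_self hF h2 hs ha
  have hbb := R.symp_self hF h2 hs hb
  let Rel : (Fin n → F) → (Fin n → F) → Prop := fun v w =>
    ∀ V W : GU n F q, IsTvAt v c1 V → IsTvAt w c1 W → V * W⁻¹ ∈ M
  have hRinv : ∀ g ∈ R.commGroup, ∀ v w, Rel v w → Rel (g.1.1 *ᵥ v) (g.1.1 *ᵥ w) := by
    intro g hg v w hvw V W hV hW
    have hV' : IsTvAt v c1 (g⁻¹ * V * g) := by
      have := hV.conj g⁻¹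
      rwa [GU_inv_mulVec, inv_inv] at this
    have hW' : IsTvAt w c1 (g⁻¹ * W * g) := by
      have := hW.conj g⁻¹
      rwa [GU_inv_mulVec, inv_inv] at this
    have h1 := hnorm g hg _ (hvw _ _ hV' hW')
    convert h1 using 1
    group
  have hRtrans : ∀ u v w, R.Real v → Rel u v → Rel v w → Rel u w := by
    intro u v w hv huv hvw U W hU hW
    obtain ⟨V, hV, -⟩ := exists_tv hF (R.symp_self hF h2 hs hv) hc1
    have h1 := M.mul_mem (huv U V hU hV) (hvw V W hV hW)
    rwa [← mul_assoc, inv_mul_cancel_right] at h1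
  -- elements moving `a` inside the plane
  have hgb : ∀ t : F, t ^ q = t → ∃ g ∈ R.commGroup, g.1.1 *ᵥ a = a + t • b ∧ g.1.1 *ᵥ b = b := by
    intro t ht
    have he : t / h + (t / h) ^ q = 0 := by rw [div_pow, ht, hhq, div_neg, add_neg_cancel]
    obtain ⟨T, hT, -⟩ := exists_tv hF hbb he
    exact ⟨T, R.tv_mem_commGroup hF hs hb he hT, by rw [hT, ← hh, div_mul_cancel₀ _ hab],
      hT.fix hbb⟩
  have hga : ∀ r : F, r ^ q = r → ∃ g ∈ R.commGroup, g.1.1 *ᵥ a = a ∧ g.1.1 *ᵥ b = b + r • a := by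
    intro r hr
    have he : -r / h + (-r / h) ^ q = 0 := by
      rw [div_pow, neg_pow_q hF, hr, hhq, neg_div_neg_eq, ← add_div, neg_add_cancel, zero_div]
    obtain ⟨T, hT, -⟩ := exists_tv hF haa he
    refine ⟨T, R.tv_mem_commGroup hF hs ha he hT, hT.fix haa, ?_⟩
    rw [hT, hba, ← hh, show -r / h * -h = r by field_simp]
  have hbase : ∀ t : F, t ^ q = t → Rel a (a + t • b) := by
    intro t ht V W hV hW
    obtain ⟨g, hg, hga', hgb'⟩ := hgb t ht
    have hA' : V = A := hV.unique hA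
    have hW' : W = g * A * g⁻¹ := by
      have := hA.conj g; rw [hga'] at this; exact hW.unique this
    have hB' : g * B * g⁻¹ = B := by
      have := hB.conj g; rw [hgb'] at this; exact this.unique hB
    have h1 := M.mul_mem hM (M.inv_mem (hnorm g hg _ hM))
    rw [show g * (A * B) * g⁻¹ = g * A * g⁻¹ * (g * B * g⁻¹) by group, hB', ← hW',
      _root_.mul_inv_rev, ← mul_assoc, mul_inv_cancel_right, ← hA'] at h1
    exact h1
  -- moving `a` to any vector off its line
  have hmove : ∀ α β : F, α ^ q = α → β ^ q = β → β ≠ 0 →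
      ∃ g ∈ R.commGroup, g.1.1 *ᵥ a = α • a + β • b ∧ Rel a (α • a + β • b) := by
    intro α β hα hβ hβ0
    obtain ⟨g1, hg1, h11, -⟩ := hgb β hβ
    obtain ⟨g2, hg2, h21, h22⟩ := hga ((α - 1) / β) (by rw [div_pow, sub_pow_q hF, one_pow, hα, hβ])
    have e : g2.1.1 *ᵥ (a + β • b) = α • a + β • b := by
      rw [Matrix.mulVec_add, Matrix.mulVec_smul, h21, h22, smul_add, smul_smul,
        mul_div_cancel₀ _ hβ0, sub_smul, one_smul]
      abel
    refine ⟨g2 * g1, mul_mem hg2 hg1, by rw [GU_mul_mulVec, h11, e], ?_⟩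
    have := hRinv g2 hg2 a (a + β • b) (hbase β hβ)
    rwa [h21, e] at this
  have h1q : (1 : F) ^ q = 1 := one_pow q
  by_cases hex : ∃ r : F, r ^ q = r ∧ r ≠ 0 ∧ r * r ≠ 1
  · obtain ⟨r, hr, hr0, hr1⟩ := hex
    obtain ⟨g1, hg1, h11, h12⟩ := hgb 1 h1q
    have habR : R.Real (a + (1 : F) • b) := R.add_real ha (R.smul_real h1q hb)
    -- `a` and `r • a`
    obtain ⟨g2, hg2, hg2a, hR2⟩ := hmove r (-r) hr (by rw [neg_pow_q hF, hr]) (neg_ne_zero.2 hr0)
    have he : g1.1.1 *ᵥ (r • a + (-r) • b) = r • a := by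
      rw [Matrix.mulVec_add, Matrix.mulVec_smul, Matrix.mulVec_smul, h11, h12, one_smul, smul_add,
        neg_smul, add_neg_cancel_right]
    have hR1 : Rel a (r • a) := by
      refine hRtrans a _ _ habR (hbase 1 h1q) ?_
      have := hRinv g1 hg1 _ _ hR2
      rwa [h11, he] at this
    obtain ⟨V, hV, -⟩ := exists_tv hF haa hc1
    have hra : hermForm n F q (r • a) (r • a) = 0 := R.symp_self hF h2 hs (R.smul_real hr ha)
    obtain ⟨W, hW, -⟩ := exists_tv hF hra hc1
    have hVW : IsTvAt a (c1 * (1 - r * r)) (V * W⁻¹) := by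
      have hW2 := isTvAt_smul hF hW
      have := isTvAt_mul hF haa hV (isTvAt_inv hF haa hW2)
      convert this using 1
      rw [pow_succ, hr]
      ring
    set k0 := c1 * (1 - r * r)
    have hk0 : k0 ≠ 0 := mul_ne_zero hc10 (sub_ne_zero.2 (Ne.symm hr1))
    have hk0q : k0 ^ q = -k0 := by rw [mul_pow, sub_pow_q hF, one_pow, mul_pow, hr, hc1q, neg_mul]
    have hVWM : V * W⁻¹ ∈ M := hR1 V W hV hW
    -- `a ↦ X • a`
    have hscale : ∀ X : F, X ^ q = X → X ≠ 0 → ∃ g ∈ R.commGroup, g.1.1 *ᵥ a = X • a := by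
      intro X hX hX0
      obtain ⟨g, hg, hga', -⟩ := hmove X (-X) hX (by rw [neg_pow_q hF, hX]) (neg_ne_zero.2 hX0)
      refine ⟨g1 * g, mul_mem hg1 hg, ?_⟩
      rw [GU_mul_mulVec, hga', Matrix.mulVec_add, Matrix.mulVec_smul, Matrix.mulVec_smul, h11, h12,
        one_smul, smul_add, neg_smul, add_neg_cancel_right]
    have hsq : ∀ X : F, X ^ q = X → ∀ U : GU n F q, IsTvAt a (k0 * X ^ 2) U → U ∈ M := by
      intro X hX U hU
      rcases eq_or_ne X 0 with rfl | hX0
      · rw [zero_pow two_ne_zero, mul_zero] at hU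
        rw [hU.unique (isTvAt_zero a)]
        exact one_mem M
      obtain ⟨g, hg, hga'⟩ := hscale X hX hX0
      have h1 := hVW.conj g
      rw [hga'] at h1
      have h3 := isTvAt_smul hF h1
      rw [pow_succ, hX, ← pow_two] at h3
      rw [hU.unique h3]
      exact hnorm g hg _ hVWM
    have hall : ∀ (k : F) (U : GU n F q), k + k ^ q = 0 → IsTvAt a k U → U ∈ M := by
      intro k U hk hU
      obtain ⟨X, Y, hX, hY, hXY⟩ := exists_quad hF h2 h1q h1q (t := k / k0)
        (by rw [div_pow, hk0q, eq_neg_of_add_eq_zero_right hk, neg_div_neg_eq]) one_ne_zero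
        one_ne_zero
      have hanti : ∀ Z : F, Z ^ q = Z → k0 * Z ^ 2 + (k0 * Z ^ 2) ^ q = 0 := fun Z hZ => by
        rw [mul_pow, hk0q, ← pow_mul, mul_comm 2 q, pow_mul, hZ]; ring
      obtain ⟨U1, hU1, -⟩ := exists_tv hF haa (hanti X hX)
      obtain ⟨U2, hU2, -⟩ := exists_tv hF haa (hanti Y hY)
      have hsum := isTvAt_mul hF haa hU1 hU2
      rw [show k0 * X ^ 2 + k0 * Y ^ 2 = k by
        rw [one_mul, one_mul] at hXY
        rw [← mul_add, hXY, mul_div_cancel₀ _ hk0]] at hsum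
      rw [hU.unique hsum]
      exact M.mul_mem (hsq X hX U1 hU1) (hsq Y hY U2 hU2)
    obtain ⟨l, Ta, Tb, hl, hTa, hTb, hfix, hJa, hJb⟩ :=
      R.exists_plane_neg hF h2 hs ha hb hc1 hc10 hab
    have hTbM : Tb ∈ M := by
      obtain ⟨g, hg, hgab, -⟩ := hmove 0 1 (zero_pow_q hF) h1q one_ne_zero
      rw [zero_smul, zero_add, one_smul] at hgab
      obtain ⟨U, hU, -⟩ := exists_tv hF haa hl
      have h1 := hU.conj g
      rw [hgab] at h1
      rw [hTb.unique h1]
      exact hnorm g hg _ (hall l U hl hU)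
    have hJM : Ta * Tb * Ta ∈ M :=
      M.mul_mem (M.mul_mem (hall c1 Ta hc1 hTa) hTbM) (hall c1 Ta hc1 hTa)
    obtain ⟨h4, hns⟩ := R.plane_square hF h2 hs hn ha hb hab hfix hJa hJb
    obtain ⟨j, hj, hmj⟩ := hodd _ (M.mul_mem hJM hJM)
    exact hns (mem_scalar_of_sq hj hmj (by rw [h4]; exact one_mem _))
  · -- every nonzero fixed scalar squares to one: `q = 3`
    push Not at hex
    have h3 : (3 : F) = 0 := by
      have h2q : (2 : F) ^ q = 2 := by rw [← one_add_one_eq_two, add_pow_q hF, one_pow]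
      linear_combination hex 2 h2q h2
    set v := a + b with hv
    have hvR : R.Real v := R.add_real ha hb
    have hav : hermForm n F q a v = h := by rw [hv, herm_add_right _ _ _ hF, haa, zero_add]
    have hva : hermForm n F q v a = -h := by rw [R.symp_comm hF hs ha hvR, hav]
    have hvv := R.symp_self hF h2 hs hvR
    obtain ⟨W, hW, -⟩ := exists_tv hF hvv hc1
    have hK : A * W⁻¹ ∈ M := by
      have h1 := hbase 1 h1q A W hA (by rw [one_smul]; exact hW)
      exact h1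
    have hWi := isTvAt_inv hF hvv hW
    set X := c1 * h
    have hX0 : X ≠ 0 := mul_ne_zero hc10 hab
    have hX : X * X = 1 := hex X (by rw [mul_pow, hc1q, hhq, neg_mul_neg]) hX0
    have hKa : (A * W⁻¹).1.1 *ᵥ a = (2 : F) • a - X • v := by
      rw [GU_mul_mulVec, hWi, hav, hA, herm_add_left, herm_smul_left, haa, hva,
        show c1 * (0 + -c1 * h * -h) = X * X by simp only [X]; ring, hX, one_smul, two_smul,
        neg_mul, neg_smul]
      abel
    have hKv : (A * W⁻¹).1.1 *ᵥ v = v - X • a := by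
      rw [GU_mul_mulVec, hWi.fix hvv, hA, hva, mul_neg, neg_smul, sub_eq_add_neg]
    have hKKa : (A * W⁻¹).1.1 *ᵥ ((A * W⁻¹).1.1 *ᵥ a) = -a := by
      rw [hKa, Matrix.mulVec_sub, Matrix.mulVec_smul, Matrix.mulVec_smul, hKa, hKv]
      simp only [smul_sub, smul_smul]
      rw [hX, show (2 : F) * 2 = 1 by linear_combination h3, one_smul,
        show (2 : F) * X = -X by linear_combination X * h3, neg_smul]
      have : (3 : F) • a = 0 := by rw [h3, zero_smul]
      rw [show (3 : F) = 1 + 1 + 1 by norm_num, add_smul, add_smul, one_smul] at this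
      linear_combination (norm := abel) this
    have hKKv : (A * W⁻¹).1.1 *ᵥ ((A * W⁻¹).1.1 *ᵥ v) = -v := by
      rw [hKv, Matrix.mulVec_sub, Matrix.mulVec_smul, hKa, hKv]
      simp only [smul_sub, smul_smul]
      rw [hX, one_smul, show X * 2 = -X by linear_combination X * h3, neg_smul]
      have : (3 : F) • v = 0 := by rw [h3, zero_smul]
      rw [show (3 : F) = 1 + 1 + 1 by norm_num, add_smul, add_smul, one_smul] at this
      linear_combination (norm := abel) this
    obtain ⟨h4, hns⟩ := R.plane_square hF h2 hs hn ha hvR (by rw [hav]; exact hab)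
      (fun y hya hyv => by rw [GU_mul_mulVec, hWi.fix hyv, hA.fix hya]) hKKa hKKv
    obtain ⟨j, hj, hmj⟩ := hodd _ (M.mul_mem hK hK)
    exact hns (mem_scalar_of_sq hj hmj (by rw [h4]; exact one_mem _))

include hF h2 hs hodd hnorm in
theorem symp_pair (hn : 3 ≤ n) {a b : Fin n → F} {c1 c2 : F} {A B : GU n F q} (ha : R.Real a)
    (hb : R.Real b) (hb0 : b ≠ 0) (hc1 : c1 + c1 ^ q = 0) (hc10 : c1 ≠ 0) (hA : IsTvAt a c1 A)
    (hB : IsTvAt b c2 B) (hind : ∀ l : F, a ≠ l • b) (hM : A * B ∈ M) : False := by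
  by_cases hab : hermForm n F q a b = 0
  swap
  · exact R.pair_nonorth hF h2 hs M hodd hnorm hn ha hb hc1 hc10 hA hB hab hM
  -- find `k ⊥ b`, not orthogonal to `a`
  obtain ⟨k, hk, hkb, hka⟩ : ∃ k, R.Real k ∧ hermForm n F q b k = 0 ∧ hermForm n F q a k ≠ 0 := by
    obtain ⟨θ, hθ0, hθ⟩ := exists_trace_zero_ne_zero hF
    obtain ⟨y, hy, hby⟩ := R.exists_nonorth hF h2 hb0
    by_contra hcon
    push Not at hcon
    set hy1 := hermForm n F q b y
    have hlin : ∀ y', R.Real y' → hermForm n F q a y' * hy1 = hermForm n F q a y * hermForm n F q b y' := by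
      intro y' hy'
      set u := θ • (hy1 • y' - hermForm n F q b y' • y) with hu
      have hp : ∀ c : F, c ^ q = -c → (θ * c) ^ q = θ * c := fun c hc => by
        rw [mul_pow, hc, show θ ^ q = -θ from eq_neg_of_add_eq_zero_right hθ, neg_mul_neg]
      have huR : R.Real u := by
        rw [hu, smul_sub, smul_smul, smul_smul]
        exact R.sub_real hF (R.smul_real (hp _ (R.symp_anti hs hb hy)) hy')
          (R.smul_real (hp _ (R.symp_anti hs hb hy')) hy)
      have e1 : hermForm n F q b u = 0 := by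
        rw [hu, herm_smul_right, herm_sub_right _ _ _ hF, herm_smul_right, herm_smul_right]
        rw [R.symp_anti hs hb hy', show hy1 ^ q = -hy1 from R.symp_anti hs hb hy]
        ring
      have e2 := hcon u huR e1
      rw [hu, herm_smul_right, herm_sub_right _ _ _ hF, herm_smul_right, herm_smul_right,
        R.symp_anti hs hb hy', show hy1 ^ q = -hy1 from R.symp_anti hs hb hy] at e2
      have e3 := (mul_eq_zero.1 e2).resolve_left (pow_ne_zero q hθ0)
      linear_combination -e3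
    apply hind (hermForm n F q a y / hy1)
    refine sub_eq_zero.1 (R.eq_zero_of_perp_real hF h2 fun y' hy' => ?_)
    rw [herm_sub_left, herm_smul_left, div_mul_eq_mul_div, sub_eq_zero, eq_div_iff hby]
    exact hlin y' hy'
  obtain ⟨θ, hθ0, hθ⟩ := exists_trace_zero_ne_zero hF
  obtain ⟨g, hg, -⟩ := exists_tv hF (R.symp_self hF h2 hs hk) hθ
  have hgc := R.tv_mem_commGroup hF hs hk hθ hg
  set a' := g.1.1 *ᵥ a with ha'
  have hgb : g.1.1 *ᵥ b = b := hg.fix hkb
  have hA' : IsTvAt a' c1 (g * A * g⁻¹) := hA.conj g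
  have hB' : g * B * g⁻¹ = B := by
    have := hB.conj g; rw [hgb] at this; exact this.unique hB
  have hAA' : A * (g * A * g⁻¹)⁻¹ ∈ M := by
    have h1 := M.mul_mem hM (M.inv_mem (hnorm g hgc _ hM))
    rwa [show g * (A * B) * g⁻¹ = g * A * g⁻¹ * (g * B * g⁻¹) by group, hB', _root_.mul_inv_rev,
      ← mul_assoc, mul_inv_cancel_right] at h1
  have ha'R : R.Real a' := R.real_image hgc ha
  refine R.pair_nonorth hF h2 hs M hodd hnorm hn ha ha'R hc1 hc10 hA
    (isTvAt_inv hF (R.symp_self hF h2 hs ha'R) hA') ?_ hAA'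
  rw [ha', hg, herm_add_right _ _ _ hF, R.symp_self hF h2 hs ha, zero_add, herm_smul_right]
  exact mul_ne_zero (pow_ne_zero q (mul_ne_zero hθ0 hka)) hka

include hF h2 hs hodd hnorm hJ in
theorem symp_le_scalar (hn : 3 ≤ n) : M ≤ (scalarGU : U1 F q →* GU n F q).range := by
  intro m hm
  have hsv : ∀ v : Fin n → F, sv (1 : F ≃+* F) v = v := fun v => rfl
  obtain ⟨z, hz⟩ := hJ m hm
  obtain ⟨θ, hθ0, hθ⟩ := exists_trace_zero_ne_zero hF
  have hlines : ∀ v, R.Real v → ∃ l : F, m.1.1 *ᵥ v = l • v := by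
    intro v hv
    rcases eq_or_ne v 0 with rfl | hv0
    · exact ⟨0, by simp⟩
    set mv := m.1.1 *ᵥ v with hmv
    have hmv0 : mv ≠ 0 := fun h0 => hv0 (GU_mulVec_injective m (by simpa [← hmv] using h0))
    obtain ⟨a, l, haR, hl, hal⟩ := R.exists_real_multiple hF hmv0 (z := z) (by rw [hmv, hz, hv])
    by_cases hdep : ∃ j : F, a = j • v
    · obtain ⟨j, rfl⟩ := hdep
      exact ⟨l * j, by rw [hal, smul_smul]⟩
    exfalso
    push Not at hdep
    obtain ⟨V, hV, -⟩ := exists_tv hF (R.symp_self hF h2 hs hv) hθ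
    have hVc := R.tv_mem_commGroup hF hs hv hθ hV
    have hA : IsTvAt a (θ * l ^ (q + 1)) (m * V * m⁻¹) := by
      have h1 := hV.conj m
      rw [← hmv, hal] at h1
      exact isTvAt_smul hF h1
    have hc : θ * l ^ (q + 1) + (θ * l ^ (q + 1)) ^ q = 0 := by
      have e : (l ^ (q + 1)) ^ q = l ^ (q + 1) := by
        rw [← pow_mul, add_one_mul, pow_add, pow_mul, pow_q_q hF, pow_succ]; ring
      rw [mul_pow, e, ← add_mul, hθ, zero_mul]
    refine R.symp_pair hF h2 hs M hodd hnorm hn haR hv hv0 hc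
      (mul_ne_zero hθ0 (pow_ne_zero _ hl)) hA (isTvAt_inv hF (R.symp_self hF h2 hs hv) hV) hdep ?_
    have h1 := M.mul_mem hm (hnorm V hVc _ (M.inv_mem hm))
    simpa only [mul_assoc] using h1
  obtain ⟨l, hl⟩ := R.symp_scalar_of_lines hF h2 hs hn m 1 fun v hv => by
    rw [hsv]; exact hlines v hv
  obtain ⟨z', -, hz'⟩ := exists_scalarGU (by omega)
    (R.ext_real hF h2 fun v hv => by have := hl v hv; rwa [hsv] at this)
  exact ⟨z', hz'.symm⟩

include hF h2 hs in
/-- A semilinear map commuting up to scalars with the transvections fixes all fixed lines, and so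
does its square. -/
theorem symp_outer (hn : 3 ≤ n) (h : GU n F q) (τ : F ≃+* F)
    (hL : ∀ A : GU n F q, A ∈ R.commGroup → A.1.1.det = 1 →
      ∃ z : F, ∀ x, h.1.1 *ᵥ sv τ (A.1.1 *ᵥ x) = z • A.1.1 *ᵥ (h.1.1 *ᵥ sv τ x))
    (v : Fin n → F) (hv : R.Real v) :
    ∃ a : F, h.1.1 *ᵥ sv τ (h.1.1 *ᵥ sv τ v) = a • v := by
  suffices hsuff : ∃ a : F, h.1.1 *ᵥ sv τ v = a • v by
    obtain ⟨a, ha⟩ := hsuff
    exact ⟨τ a * a, by rw [ha, sv_smul, Matrix.mulVec_smul, ha, smul_smul]⟩
  rcases eq_or_ne v 0 with rfl | hv0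
  · exact ⟨0, by rw [sv_zero, Matrix.mulVec_zero, zero_smul]⟩
  obtain ⟨θ, hθ0, hθ⟩ := exists_trace_zero_ne_zero hF
  obtain ⟨T, hT, hTd⟩ := exists_tv hF (R.symp_self hF h2 hs hv) hθ
  obtain ⟨z, hz⟩ := hL T (R.tv_mem_commGroup hF hs hv hθ hT) hTd
  have hT' : IsTvAt (h.1.1 *ᵥ sv τ v) (τ θ) (h * fieldGU τ T * h⁻¹) := (isTvAt_fieldGU τ hT).conj h
  have hact : ∀ y, (h * fieldGU τ T * h⁻¹).1.1 *ᵥ y = z • T.1.1 *ᵥ y := by
    intro y
    set x := sv τ.symm (h⁻¹.1.1 *ᵥ y) with hx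
    have hy : h.1.1 *ᵥ sv τ x = y := by rw [hx, sv_symm, GU_mulVec_inv]
    have h1 := hz x
    rw [hy] at h1
    rw [← h1, ← hy, GU_mul_mulVec, GU_mul_mulVec, GU_inv_mulVec, coe_fieldGU, sv_mulVec]
  obtain ⟨y, hy0, hyv, -⟩ := exists_perp_two hF hn v v
  have hz0 : z ≠ 0 := fun h0 => by
    have := hact y
    rw [h0, zero_smul] at this
    exact hy0 (GU_mulVec_injective (h * fieldGU τ T * h⁻¹) (a₁ := y) (a₂ := 0)
      (this.trans (Matrix.mulVec_zero _).symm))
  obtain ⟨w, -, hw⟩ := exists_scalarGU (by omega) (g := h * fieldGU τ T * h⁻¹ * T⁻¹) (l := z)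
    fun y => by rw [GU_mul_mulVec, hact, GU_mulVec_inv]
  exact (eq_of_tv_scalar hF hn hT hT' (by simpa using hθ0) (z := w) (by
    rw [← hw, inv_mul_cancel_right])).2

include hF h2 hs in
/-- A noncentral involution of determinant one commuting with `J`. -/
theorem symp_exists_invol (hn : 3 ≤ n) : ∃ t : GU n F q, t ∈ R.commGroup ∧ t.1.1.det = 1 ∧
    t * t = 1 ∧ t ∉ (scalarGU : U1 F q →* GU n F q).range := by
  obtain ⟨a, haR, ha0⟩ := R.exists_real_ne_zero hF h2 (by omega)
  obtain ⟨b, hbR, hab⟩ := R.exists_nonorth hF h2 ha0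
  obtain ⟨θ, hθ0, hθ⟩ := exists_trace_zero_ne_zero hF
  obtain ⟨l, Ta, Tb, hl, hTa, hTb, hfix, hJa, hJb⟩ :=
    R.exists_plane_neg hF h2 hs haR hbR hθ hθ0 hab
  obtain ⟨h4, hns⟩ := R.plane_square hF h2 hs hn haR hbR hab hfix hJa hJb
  have hc : Ta * Tb * Ta ∈ R.commGroup :=
    mul_mem (mul_mem (R.tv_mem_commGroup hF hs haR hθ hTa) (R.tv_mem_commGroup hF hs hbR hl hTb))
      (R.tv_mem_commGroup hF hs haR hθ hTa)
  have hda : Ta.1.1.det = 1 := IsTv.det hF ⟨a, θ, R.symp_self hF h2 hs haR, hθ, hTa⟩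
  have hdb : Tb.1.1.det = 1 := IsTv.det hF ⟨b, l, R.symp_self hF h2 hs hbR, hl, hTb⟩
  exact ⟨_, mul_mem hc hc, by simp [Matrix.det_mul, hda, hdb], h4, hns⟩

end RealStr

end Cfsg.Agent.Lib.AutPSU
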