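import Cfsg.Agent.Lib.AutPSU.TwoOrth
import Cfsg.Agent.Lib.AutPSU.TwoSymp

/-!
Lib/AutPSU/LocalTwo: in odd characteristic the centraliser of an outer involution in an almost simple
group with socle `PSU n` has trivial odd core.
-/

set_option autoImplicit false
set_option linter.unusedSectionVars false

namespace Cfsg.Agent.Lib.AutPSU

open Matrix Cfsg.Agent.Lib.Unitary

variable {F : Type*} [Field F] [Fintype F] {q : ℕ} {n : ℕ}

/-- The involution of the space attached to an outer involution. -/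
theorem exists_realStr (hF : Fintype.card F = q ^ 2) (hn : 3 ≤ n) {σ : F ≃+* F}
    (hσ : ∀ x, σ x = x ^ q) {g : GU n F q}
    (hg : (conjPSU n F q g * fieldPSU n F q σ) ^ 2 = 1) :
    ∃ (s : F) (R : RealStr n F q s) (w : F), (s = 1 ∨ s = -1) ∧ w ≠ 0 ∧
      ∀ x, R.J x = w • g.1.1 *ᵥ sv σ x := by
  have hσσ : ∀ x, σ (σ x) = x := fun x => by rw [hσ, hσ, pow_q_q hF]
  have hσ2 : σ * σ = 1 := RingEquiv.ext hσσ
  rw [pow_two, ← semiAut_eq_mul, semiAut_mul, hσ2, ← conjPSU_apply, conjPSU_eq_one_iff hF hn] at hg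
  obtain ⟨z, hz⟩ := hg
  have hzg : ∀ x, g.1.1 *ᵥ sv σ (g.1.1 *ᵥ sv σ x) = (z.1 : F) • x := fun x => by
    rw [← sv_mulVec, ← sv_mul, hσ2, ← coe_fieldGU, ← GU_mul_mulVec, hz, scalarGU_mulVec]
    rfl
  set c : F := (z.1 : F) with hc
  have hc0 : c ≠ 0 := z.1.ne_zero
  obtain ⟨y, hy⟩ : ∃ y : Fin n → F, y ≠ 0 :=
    ⟨Pi.single ⟨0, by omega⟩ 1, fun h => by simpa using congrFun h ⟨0, by omega⟩⟩
  have hcq : c ^ q = c := by
    have h1 := hzg (g.1.1 *ᵥ sv σ y)
    rw [hzg y, sv_smul, Matrix.mulVec_smul, hσ] at h1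
    refine smul_left_injective F (fun h0 => hy ?_) h1
    have := hzg y
    rw [h0, sv_zero, Matrix.mulVec_zero] at this
    exact (smul_eq_zero.1 this.symm).resolve_left hc0
  have hc2 : c * c = 1 := by
    conv_lhs => arg 2; rw [← hcq]
    exact U1_val_pow z
  have hcs : c = 1 ∨ c = -1 := mul_self_eq_one_iff.1 hc2
  obtain ⟨w, hw⟩ := norm_surj hF hcq
  have hw0 : w ≠ 0 := fun h0 => hc0 (by rw [← hw, h0, zero_mul])
  refine ⟨c, ⟨fun x => w • g.1.1 *ᵥ sv σ x, fun u v => ?_, fun l v => ?_, fun v => ?_, fun u v => ?_⟩,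
    w, hcs, hw0, fun x => rfl⟩
  · rw [sv_add, Matrix.mulVec_add, smul_add]
  · rw [sv_smul, Matrix.mulVec_smul, smul_comm, hσ]
  · rw [sv_smul, Matrix.mulVec_smul, hzg, hσ, smul_smul, smul_smul, hw, hc2, one_smul]
  · rw [herm_smul_left, herm_smul_right, GU_herm, herm_sv, hσ, ← mul_assoc, hw]

variable {s : F} (R : RealStr n F q s) (hF : Fintype.card F = q ^ 2) {σ : F ≃+* F} {w : F}
  (hw : w ≠ 0) {g : GU n F q} (hJ : ∀ x, R.J x = w • g.1.1 *ᵥ sv σ x)

include hw hJ in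
theorem commute_of_mem_commGroup {A : GU n F q} (hA : A ∈ R.commGroup) :
    conjPSU n F q A * (conjPSU n F q g * fieldPSU n F q σ) =
      conjPSU n F q g * fieldPSU n F q σ * conjPSU n F q A := by
  have h : g * fieldGU σ A = A * g := GU_ext fun v => by
    have h1 := hA (sv σ.symm v)
    rw [hJ, hJ, Matrix.mulVec_smul, sv_symm] at h1
    have h2 := smul_right_injective _ hw h1
    rw [← sv_mulVec, sv_symm, ← coe_fieldGU] at h2
    rw [GU_mul_mulVec, GU_mul_mulVec]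
    exact h2
  rw [mul_assoc (conjPSU n F q g), fieldPSU_conjPSU, ← mul_assoc (conjPSU n F q g), ← map_mul, h,
    map_mul, mul_assoc]

include hF hJ in
theorem exists_J_comm (hn : 3 ≤ n) {m : GU n F q}
    (hm : conjPSU n F q m * (conjPSU n F q g * fieldPSU n F q σ) =
      conjPSU n F q g * fieldPSU n F q σ * conjPSU n F q m) :
    ∃ z : F, ∀ x, R.J (m.1.1 *ᵥ x) = z • m.1.1 *ᵥ R.J x := by
  rw [mul_assoc (conjPSU n F q g), fieldPSU_conjPSU, ← mul_assoc, ← mul_assoc, ← map_mul, ← map_mul,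
    mul_left_inj, conjPSU_eq_iff hF hn] at hm
  obtain ⟨z, hz⟩ := hm
  refine ⟨z.1, fun x => ?_⟩
  rw [hJ, hJ, ← sv_mulVec, ← coe_fieldGU, ← GU_mul_mulVec, hz, GU_mul_mulVec, scalarGU_mulVec,
    GU_mul_mulVec, Matrix.mulVec_smul, smul_comm]

/-- The criterion for outer involutions: the odd core is trivial and the centraliser in the socle
has even order. -/
theorem two_part {r : ℕ} [CharP F r] (hr : r ≠ 2) (hF : Fintype.card F = q ^ 2) (hn : 3 ≤ n)
    (h32 : ¬ (n = 3 ∧ q = 2)) {g : GU n F q} {σ : F ≃+* F} (hσ : orderOf σ = 2)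
    (hβ : (conjPSU n F q g * fieldPSU n F q σ) ^ 2 = 1) {𝒢 : Subgroup (MulAut (PSU n F q))}
    (hinn : Cfsg.Inn (PSU n F q) ≤ 𝒢) :
    Cfsg.pPrimeCore 2 ↥(𝒢 ⊓ Subgroup.centralizer {conjPSU n F q g * fieldPSU n F q σ}) = ⊥ ∧
      2 ∣ Nat.card ↥(Cfsg.Inn (PSU n F q) ⊓
        Subgroup.centralizer {conjPSU n F q g * fieldPSU n F q σ}) := by
  haveI : Fact (Nat.Prime 2) := ⟨Nat.prime_two⟩
  have h2 : (2 : F) ≠ 0 := Ring.two_ne_zero (by rwa [ringChar.eq F r])
  obtain ⟨p, k, hp, -, -, hq⟩ := q_eq_primePow hF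
  haveI : Fact p.Prime := ⟨hp⟩
  have hFp : Fintype.card F = p ^ (k * 2) := by rw [hF, hq, pow_mul]
  have hσq : ∀ x, σ x = x ^ q := fun x => by
    rw [Cfsg.Agent.Lib.AutPSL.apply_eq_pow hFp hσ x, Nat.mul_div_cancel k two_pos, hq]
  obtain ⟨s, R, w, hs, hw, hJ⟩ := exists_realStr hF hn hσq hβ
  set β := conjPSU n F q g * fieldPSU n F q σ with hβdef
  set D := Cfsg.Inn (PSU n F q) ⊓ Subgroup.centralizer {β}
  set C := 𝒢 ⊓ Subgroup.centralizer {β}
  have hDC : D ≤ C := inf_le_inf_right _ hinn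
  have hcent : ∀ A ∈ R.commGroup, conjPSU n F q A ∈ Subgroup.centralizer {β} := fun A hA =>
    Subgroup.mem_centralizer_singleton_iff.2 (commute_of_mem_commGroup R hw hJ hA)
  have hDconj : ∀ c ∈ Subgroup.centralizer {β}, ∀ d ∈ D, c * d * c⁻¹ ∈ D := fun c hc d hd =>
    ⟨(Cfsg.innNormal _).conj_mem d hd.1 c,
      Subgroup.mul_mem _ (Subgroup.mul_mem _ hc hd.2) (Subgroup.inv_mem _ hc)⟩
  -- properties of the core of `D`
  set W0 := (Cfsg.pPrimeCore 2 D).map D.subtype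
  have hW0D : W0 ≤ D := Subgroup.map_subtype_le _
  set M := W0.comap (conjPSU n F q)
  have hModd : ∀ m ∈ M, ∃ j, Odd j ∧ m ^ j ∈ (scalarGU : U1 F q →* GU n F q).range := by
    intro m hm
    refine ⟨orderOf (conjPSU n F q m), ?_, ?_⟩
    · rw [← Nat.not_even_iff_odd, even_iff_two_dvd]
      intro hd
      have h1 := hd.trans (Subgroup.orderOf_dvd_natCard W0 hm)
      rw [Subgroup.card_map_of_injective D.subtype_injective] at h1
      exact Lib.Cores.not_dvd_card_pPrimeCore 2 h1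
    · obtain ⟨z, hz⟩ := (conjPSU_eq_one_iff hF hn).1
        (show conjPSU n F q (m ^ orderOf (conjPSU n F q m)) = 1 by
          rw [map_pow, pow_orderOf_eq_one])
      exact ⟨z, hz.symm⟩
  have hMnorm : ∀ A ∈ R.commGroup, ∀ m ∈ M, A * m * A⁻¹ ∈ M := by
    intro A hA m hm
    rw [Subgroup.mem_comap, map_mul, map_mul, map_inv]
    exact conj_mem_core (hDconj _ (hcent A hA)) (fun d hd => by
      have := hDconj _ (Subgroup.inv_mem _ (hcent A hA)) d hd
      rwa [inv_inv] at this) hm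
  have hMJ : ∀ m ∈ M, ∃ z : F, ∀ x, R.J (m.1.1 *ᵥ x) = z • m.1.1 *ᵥ R.J x := fun m hm =>
    exists_J_comm R hF hJ hn (Subgroup.mem_centralizer_singleton_iff.1 (hW0D hm).2)
  have hMscal : M ≤ (scalarGU : U1 F q →* GU n F q).range := by
    rcases hs with hs | hs
    · exact R.orth_le_scalar hF h2 hs M hModd hMnorm hMJ hn
    · exact R.symp_le_scalar hF h2 hs M hModd hMnorm hMJ hn
  have hW0 : W0 = ⊥ := by
    rw [eq_bot_iff]
    intro y hy
    have hy' := inn_le_inndiagPSU (hW0D hy).1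
    rw [inndiagPSU_eq_range] at hy'
    obtain ⟨m, rfl⟩ := hy'
    obtain ⟨z, rfl⟩ := hMscal (show m ∈ M from hy)
    exact Subgroup.mem_bot.2 (conjPSU_scalarGU hF hn z)
  have hdet : ∀ A : GU n F q, A.1.1.det = 1 → conjPSU n F q A ∈ Cfsg.Inn (PSU n F q) := by
    intro A hA
    rw [inn_eq_map]
    exact Subgroup.mem_map_of_mem _ (MonoidHom.mem_ker.2 (Units.ext (by rw [detGU_val, hA]; rfl)))
  constructor
  · -- the core of `C`
    set W := (Cfsg.pPrimeCore 2 C).map C.subtype with hW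
    have hWC : W ≤ C := Subgroup.map_subtype_le _
    have hWn : ∀ c ∈ C, ∀ u ∈ W, c * u * c⁻¹ ∈ W := by
      rintro c hc _ ⟨u, hu, rfl⟩
      exact ⟨⟨c, hc⟩ * u * (⟨c, hc⟩ : C)⁻¹, (Cfsg.pPrimeCore_normal 2 C).conj_mem u hu _, rfl⟩
    have hWodd : ¬ 2 ∣ Nat.card W := by
      rw [hW, Subgroup.card_map_of_injective C.subtype_injective]
      exact Lib.Cores.not_dvd_card_pPrimeCore 2
    have hWD : W ⊓ D = ⊥ := by
      rw [eq_bot_iff]
      intro y hy
      haveI : ((W ⊓ D).subgroupOf D).Normal := ⟨fun u hu d =>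
        ⟨hWn d (hDC d.2) _ hu.1, D.mul_mem (D.mul_mem d.2 hu.2) (D.inv_mem d.2)⟩⟩
      have hle : (W ⊓ D).subgroupOf D ≤ Cfsg.pPrimeCore 2 D := by
        refine Lib.Cores.le_pPrimeCore_of_not_dvd ?_
        rw [Nat.card_congr (Subgroup.subgroupOfEquivOfLe inf_le_right).toEquiv]
        exact fun h => hWodd (h.trans (Subgroup.card_dvd_of_le inf_le_left))
      have : y ∈ W0 := ⟨⟨y, hy.2⟩, hle hy, rfl⟩
      rwa [hW0] at this
    suffices hWbot : W = ⊥ by
      rwa [hW, Subgroup.map_eq_bot_iff_of_injective _ C.subtype_injective] at hWbot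
    rw [eq_bot_iff]
    intro u hu
    rw [Subgroup.mem_bot]
    have huD : ∀ d ∈ D, u * d = d * u := by
      intro d hd
      have h1 : u * d * u⁻¹ * d⁻¹ ∈ W ⊓ D := by
        refine Subgroup.mem_inf.2 ⟨?_, D.mul_mem (hDconj u (hWC hu).2 d hd) (D.inv_mem hd)⟩
        have := W.mul_mem hu (hWn d (hDC hd) _ (W.inv_mem hu))
        simpa only [mul_assoc] using this
      rw [hWD, Subgroup.mem_bot, mul_inv_eq_one, mul_inv_eq_iff_eq_mul] at h1
      exact h1
    obtain ⟨h, τ, hdec⟩ := exists_decomp hF hn h32 u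
    have hL : ∀ A : GU n F q, A ∈ R.commGroup → A.1.1.det = 1 →
        ∃ z : F, ∀ x, h.1.1 *ᵥ sv τ (A.1.1 *ᵥ x) = z • A.1.1 *ᵥ (h.1.1 *ᵥ sv τ x) := by
      intro A hA hAd
      have h1 := huD _ ⟨hdet A hAd, hcent A hA⟩
      rw [hdec, mul_assoc, fieldPSU_conjPSU, ← mul_assoc, ← mul_assoc, mul_left_inj, ← map_mul,
        ← map_mul, eq_comm, conjPSU_eq_iff hF hn] at h1
      obtain ⟨z, hz⟩ := h1
      refine ⟨z.1, fun x => ?_⟩
      rw [← sv_mulVec, ← coe_fieldGU, ← GU_mul_mulVec, hz, GU_mul_mulVec, scalarGU_mulVec,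
        GU_mul_mulVec]
    -- the square of `u`
    have hsq : u * u = conjPSU n F q (h * fieldGU τ h) * fieldPSU n F q (τ * τ) := by
      rw [hdec, ← semiAut_eq_mul, semiAut_mul, semiAut_eq_mul]
    have hL2 : ∀ v, (h * fieldGU τ h).1.1 *ᵥ sv (τ * τ) v = h.1.1 *ᵥ sv τ (h.1.1 *ᵥ sv τ v) :=
      fun v => by rw [GU_mul_mulVec, coe_fieldGU, sv_mul, sv_mulVec]
    obtain ⟨⟨l, hl⟩, v0, hv0R, hv00⟩ : (∃ l : F, ∀ v, R.Real v →
        (h * fieldGU τ h).1.1 *ᵥ sv (τ * τ) v = l • v) ∧ ∃ v0, R.Real v0 ∧ v0 ≠ 0 := by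
      refine ⟨?_, R.exists_real_ne_zero hF h2 (by omega)⟩
      rcases hs with hs | hs
      · exact R.orth_scalar_of_lines hF h2 hs hn _ _ fun v hv hQ => by
          rw [hL2]; exact R.orth_outer hF h2 hs hn h τ hL v hv hQ
      · exact R.symp_scalar_of_lines hF h2 hs hn _ _ fun v hv => by
          rw [hL2]; exact R.symp_outer hF h2 hs hn h τ hL v hv
    have hfix : ∀ t, σ t = t → (τ * τ) t = t := by
      intro t ht
      have htq : t ^ q = t := by rw [← hσq, ht]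
      have h1 := hl _ (R.smul_real htq hv0R)
      rw [sv_smul, Matrix.mulVec_smul, hl v0 hv0R, smul_smul, smul_smul] at h1
      have hl0 : l ≠ 0 := fun h0 => by
        have h3 := hl v0 hv0R
        rw [h0, zero_smul] at h3
        have h4 := GU_mulVec_injective (h * fieldGU τ h) (a₁ := sv (τ * τ) v0) (a₂ := 0)
          (h3.trans (Matrix.mulVec_zero _).symm)
        have h5 := congrArg (sv (τ * τ).symm) h4
        rw [sv_symm', sv_zero] at h5
        exact hv00 h5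
      have h6 := smul_left_injective F hv00 h1
      exact mul_right_cancel₀ hl0 (h6.trans (mul_comm l t))
    have hττ := Cfsg.Agent.Lib.AutPSL.mem_zpowers_of_fix (r := p) (f := k * 2) hFp σ (τ * τ) hfix
    have hord : ¬ 2 ∣ orderOf u := fun hd => hWodd (hd.trans (Subgroup.orderOf_dvd_natCard W hu))
    have hτ : τ * τ = 1 := by
      have h1 : orderOf (τ * τ) ∣ 2 := by
        rw [← hσ]
        obtain ⟨j, hj⟩ := Subgroup.mem_zpowers_iff.1 hττ
        rw [← hj]
        exact orderOf_dvd_of_pow_eq_one (by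
          rw [← zpow_natCast, ← _root_.zpow_mul, mul_comm, _root_.zpow_mul, zpow_natCast,
            pow_orderOf_eq_one, _root_.one_zpow])
      have h3 : orderOf (τ * τ) ∣ orderOf u := by
        have e : fieldPart hF hn h32 (u * u) = τ * τ := by
          rw [hsq, map_mul (fieldPart hF hn h32), fieldPart_conjPSU, fieldPart_fieldPSU, one_mul]
        rw [← e, ← pow_two]
        exact (orderOf_map_dvd _ _).trans (orderOf_pow_dvd 2)
      rcases (Nat.dvd_prime Nat.prime_two).1 h1 with h4 | h4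
      · exact orderOf_eq_one_iff.1 h4
      · exact absurd (h4 ▸ h3) hord
    obtain ⟨z, -, hz⟩ := exists_scalarGU (by omega) (R.ext_real hF h2 (A := (h * fieldGU τ h).1.1)
      (l := l) fun v hv => by
        have h1 := hl v hv
        rw [hτ] at h1
        exact h1)
    have hu2 : u ^ 2 = 1 := by
      rw [pow_two, hsq, hz, hτ, map_one, mul_one, conjPSU_scalarGU hF hn]
    rcases (Nat.dvd_prime Nat.prime_two).1 (orderOf_dvd_of_pow_eq_one hu2) with h1 | h1
    · exact orderOf_eq_one_iff.1 h1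
    · exact absurd (dvd_of_eq h1.symm) hord
  · -- an involution in `D`
    obtain ⟨t, htc, htd, htt, hts⟩ : ∃ t : GU n F q, t ∈ R.commGroup ∧ t.1.1.det = 1 ∧ t * t = 1 ∧
        t ∉ (scalarGU : U1 F q →* GU n F q).range := by
      rcases hs with hs | hs
      · exact R.orth_exists_invol hF h2 hs hn
      · exact R.symp_exists_invol hF h2 hs hn
    have hne : conjPSU n F q t ≠ 1 := fun h1 => by
      obtain ⟨z, hz⟩ := (conjPSU_eq_one_iff hF hn).1 h1
      exact hts ⟨z, hz.symm⟩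
    have ho : orderOf (conjPSU n F q t) = 2 :=
      orderOf_eq_prime (by rw [pow_two, ← map_mul, htt, map_one]) hne
    rw [← ho]
    exact Subgroup.orderOf_dvd_natCard D ⟨hdet t htd, hcent t htc⟩

end Cfsg.Agent.Lib.AutPSU
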