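import Cfsg.Agent.Lib.AutPSU.Card
import Cfsg.Agent.Lib.AutPSL.Out

/-!
Lib/AutPSU/Out: the scalars of `GU n`, the inner-diagonal group as the image of `GU n`, and the
projection of `Aut (PSU n)` to the automorphisms of the field.
-/

set_option autoImplicit false
set_option linter.unusedSectionVars false

namespace Cfsg.Agent.Lib.AutPSU

open Matrix Cfsg.Agent.Lib.Unitary

variable {F : Type*} [Field F] {q : ℕ} {n : ℕ}

/-- The group of units of norm one. -/
abbrev U1 (F : Type*) [Field F] (q : ℕ) : Subgroup Fˣ := (Unitary.normHom F q).ker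

theorem mem_U1_iff {z : Fˣ} : z ∈ U1 F q ↔ z ^ (q + 1) = 1 := Iff.rfl

theorem U1_val_pow (z : U1 F q) : (z.1 : F) * (z.1 : F) ^ q = 1 := by
  rw [← pow_succ', ← Units.val_pow_eq_pow_val, mem_U1_iff.1 z.2, Units.val_one]

/-- Scalar matrices of norm one in `GU n`. -/
def scalarGU : U1 F q →* GU n F q :=
  ((GeneralLinearGroup.scalar (Fin n)).comp (U1 F q).subtype).codRestrict _ fun z u v => by
    show hermForm n F q (_ *ᵥ u) (_ *ᵥ v) = _
    have h : ∀ x : Fin n → F,
        (Units.coeHom _ (GeneralLinearGroup.scalar (Fin n) z.1) : Matrix (Fin n) (Fin n) F) *ᵥ x =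
          (z.1 : F) • x := fun x => by
      ext i
      simp [Matrix.scalar_apply, Matrix.mulVec_diagonal]
    simp only [MonoidHom.coe_comp, Subgroup.coe_subtype, Function.comp_apply, h, herm_smul_left,
      herm_smul_right, ← mul_assoc]
    rw [mul_comm ((z.1 : F) ^ q), U1_val_pow, one_mul]

theorem coe_scalarGU (z : U1 F q) :
    ((scalarGU z : GU n F q).1.1 : Matrix (Fin n) (Fin n) F) = (z.1 : F) • 1 := by
  rw [Matrix.smul_one_eq_diagonal]; rfl

theorem scalarGU_mulVec (z : U1 F q) (x : Fin n → F) :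
    (scalarGU z : GU n F q).1.1 *ᵥ x = (z.1 : F) • x := by
  rw [coe_scalarGU, Matrix.smul_mulVec, Matrix.one_mulVec]

theorem scalarGU_injective (hn : 0 < n) :
    Function.Injective (scalarGU : U1 F q → GU n F q) := fun a b h => by
  have := congrFun (congrArg (fun g : GU n F q => g.1.1 *ᵥ (Pi.single ⟨0, hn⟩ 1)) h) ⟨0, hn⟩
  simp only [scalarGU_mulVec, Pi.smul_apply, Pi.single_eq_same, smul_eq_mul, mul_one] at this
  exact Subtype.ext (Units.ext this)

theorem scalarGU_comm (z : U1 F q) (g : GU n F q) : Commute (scalarGU z) g :=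
  GU_ext fun v => by
    simp only [GU_mul_mulVec, scalarGU_mulVec, Matrix.mulVec_smul]

theorem exists_scalarGU (hn : 0 < n) {g : GU n F q} {l : F} (h : ∀ x, g.1.1 *ᵥ x = l • x) :
    ∃ z : U1 F q, (z.1 : F) = l ∧ g = scalarGU z := by
  set i : Fin n := ⟨0, hn⟩
  set e : Fin n → F := Pi.single i 1
  have hl : l ^ (q + 1) = 1 := by
    have h2 : hermForm n F q e e = 1 := by
      rw [hermForm, Finset.sum_eq_single i
        (fun j _ hj => by simp only [e, Pi.single_eq_of_ne hj, zero_mul])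
        (fun h0 => absurd (Finset.mem_univ _) h0)]
      simp only [e, Pi.single_eq_same, one_pow, one_mul]
    have h1 := GU_herm e e g
    rw [h, herm_smul_left, herm_smul_right, ← mul_assoc, ← pow_succ', h2, mul_one] at h1
    exact h1
  have hl0 : l ≠ 0 := fun h0 => by simp [h0] at hl
  refine ⟨⟨Units.mk0 l hl0, Units.ext (by simpa [Unitary.normHom] using hl)⟩, rfl,
    GU_ext fun v => by rw [h, scalarGU_mulVec]; rfl⟩

theorem fieldGU_scalarGU (σ : F ≃+* F) (z z' : U1 F q) (h : (z'.1 : F) = σ (z.1 : F)) :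
    fieldGU σ (scalarGU z : GU n F q) = scalarGU z' := by
  refine Subtype.ext (Units.ext ?_)
  rw [coe_fieldGU, coe_scalarGU, coe_scalarGU, h]
  ext i j
  by_cases hij : i = j
  · subst hij; simp
  · simp [hij]

/-- A field automorphism on the units of norm one. -/
def fieldU1 (σ : F ≃+* F) : U1 F q →* U1 F q where
  toFun z := ⟨Cfsg.Agent.Lib.AutPSL.mapUnits σ z.1, by
    rw [mem_U1_iff, ← map_pow, mem_U1_iff.1 z.2, map_one]⟩
  map_one' := Subtype.ext (map_one _)
  map_mul' a b := Subtype.ext (map_mul _ a.1 b.1)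

theorem coe_fieldU1 (σ : F ≃+* F) (z : U1 F q) :
    ((fieldU1 σ z : U1 F q) : Fˣ) = Cfsg.Agent.Lib.AutPSL.mapUnits σ z.1 := rfl

theorem fieldGU_scalar (σ : F ≃+* F) (z : U1 F q) :
    fieldGU σ (scalarGU z : GU n F q) = scalarGU (fieldU1 σ z) :=
  fieldGU_scalarGU σ z _ rfl

/-- The standard field automorphisms of `PSU n`. -/
def fieldPSU (n : ℕ) (F : Type*) [Field F] (q : ℕ) : (F ≃+* F) →* MulAut (PSU n F q) :=
  descend.comp fieldSU

theorem fieldPSU_apply (σ : F ≃+* F) : fieldPSU n F q σ = semiAut 1 σ := by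
  rw [semiAut, map_one, one_mul]; rfl

variable [Fintype F]

theorem semiAut_eq_mul (g : GU n F q) (σ : F ≃+* F) :
    semiAut g σ = conjPSU n F q g * fieldPSU n F q σ := by
  rw [semiAut_split, conjPSU_apply, fieldPSU_apply]

theorem fieldPSU_conjPSU (σ : F ≃+* F) (g : GU n F q) :
    fieldPSU n F q σ * conjPSU n F q g = conjPSU n F q (fieldGU σ g) * fieldPSU n F q σ := by
  rw [fieldPSU_apply, conjPSU_apply, conjPSU_apply, semiAut_mul, ← semiAut_split, one_mul,
    mul_one]

theorem eq_fieldPSU {σ : F ≃+* F} {φ : MulAut (PSU n F q)} (h : IsFieldAutPSUOf σ φ) :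
    φ = fieldPSU n F q σ := by
  refine MulEquiv.ext fun x => ?_
  obtain ⟨s, rfl⟩ := QuotientGroup.mk_surjective x
  exact h s (fieldSU σ s) (coe_fieldSU σ s)

theorem isFieldAutPSUOf_fieldPSU (σ : F ≃+* F) : IsFieldAutPSUOf σ (fieldPSU n F q σ) := by
  rw [fieldPSU_apply]; exact semiAut_fieldOf σ

theorem isInnerDiagonalAutPSU_iff {β : MulAut (PSU n F q)} :
    IsInnerDiagonalAutPSU β ↔ β ∈ (conjPSU n F q).range := by
  constructor
  · rintro ⟨g, hg, h⟩
    refine ⟨⟨g, hg⟩, ?_⟩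
    rw [conjPSU_apply]
    exact (eq_semiAut hg (σ := 1) fun s s' e => h s s' (e.trans (by congr 2))).symm
  · rintro ⟨g, rfl⟩
    rw [conjPSU_apply]
    exact semiAut_innerDiagonal g

theorem inndiagPSU_eq_range : inndiagPSU n F q = (conjPSU n F q).range := by
  refine le_antisymm ((Subgroup.closure_le _).2 fun β h => isInnerDiagonalAutPSU_iff.1 h) ?_
  exact fun β h => Subgroup.subset_closure (isInnerDiagonalAutPSU_iff.2 h)

theorem conjPSU_mem (g : GU n F q) : conjPSU n F q g ∈ inndiagPSU n F q := by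
  rw [inndiagPSU_eq_range]; exact ⟨g, rfl⟩

/-- Inner automorphisms come from `SU n`. -/
theorem conjPSU_suToGU (s : SU n F q) :
    conjPSU n F q (suToGU n F q s) = MulAut.conj (QuotientGroup.mk s) := by
  refine MulEquiv.ext fun x => ?_
  obtain ⟨t, rfl⟩ := QuotientGroup.mk_surjective x
  rw [MulAut.conj_apply, ← QuotientGroup.mk_inv, ← QuotientGroup.mk_mul, ← QuotientGroup.mk_mul]
  show QuotientGroup.mk (conjSU _ t) = _
  exact congrArg _ (suToGU_injective (by rw [suToGU_conjSU, map_mul, map_mul, map_inv]))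

theorem inn_eq_map : Cfsg.Inn (PSU n F q) = (detGU n F q).ker.map (conjPSU n F q) := by
  rw [← suToGU_range]
  ext β
  constructor
  · rintro ⟨y, rfl⟩
    obtain ⟨s, rfl⟩ := QuotientGroup.mk_surjective y
    exact ⟨_, ⟨s, rfl⟩, conjPSU_suToGU s⟩
  · rintro ⟨_, ⟨s, rfl⟩, rfl⟩
    exact ⟨QuotientGroup.mk s, (conjPSU_suToGU s).symm⟩

theorem inn_le_inndiagPSU : Cfsg.Inn (PSU n F q) ≤ inndiagPSU n F q := by
  rw [inn_eq_map, inndiagPSU_eq_range]
  exact Subgroup.map_le_range _ _

theorem conjPSU_eq_one_iff (hF : Fintype.card F = q ^ 2) (hn : 3 ≤ n) {g : GU n F q} :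
    conjPSU n F q g = 1 ↔ ∃ z : U1 F q, g = scalarGU z := by
  rw [conjPSU_apply, semiAut_eq_one_iff hF hn]
  constructor
  · rintro ⟨-, l, hl⟩
    obtain ⟨z, -, h⟩ := exists_scalarGU (by omega) hl
    exact ⟨z, h⟩
  · rintro ⟨z, rfl⟩
    exact ⟨rfl, z.1, scalarGU_mulVec z⟩

theorem conjPSU_scalarGU (hF : Fintype.card F = q ^ 2) (hn : 3 ≤ n) (z : U1 F q) :
    conjPSU n F q (scalarGU z) = 1 :=
  (conjPSU_eq_one_iff hF hn).2 ⟨z, rfl⟩

theorem conjPSU_eq_iff (hF : Fintype.card F = q ^ 2) (hn : 3 ≤ n) {g g' : GU n F q} :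
    conjPSU n F q g = conjPSU n F q g' ↔ ∃ z : U1 F q, g' = scalarGU z * g := by
  constructor
  · intro h
    have h1 : conjPSU n F q (g' * g⁻¹) = 1 := by rw [map_mul, map_inv, h, mul_inv_cancel]
    obtain ⟨z, hz⟩ := (conjPSU_eq_one_iff hF hn).1 h1
    exact ⟨z, by rw [← hz, inv_mul_cancel_right]⟩
  · rintro ⟨z, rfl⟩
    rw [map_mul, conjPSU_scalarGU hF hn, one_mul]

theorem semiAut_field_eq (hF : Fintype.card F = q ^ 2) (hn : 3 ≤ n) {g g' : GU n F q}
    {σ σ' : F ≃+* F} (h : semiAut g σ = semiAut g' σ') : σ = σ' := by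
  have h1 : semiAut (fieldGU σ⁻¹ (g⁻¹ * g')) (σ⁻¹ * σ') = 1 := by
    rw [map_mul, ← semiAut_mul, ← semiAut_inv, h, inv_mul_cancel]
  exact inv_mul_eq_one.1 ((semiAut_eq_one_iff hF hn _ _).1 h1).1

theorem fieldPSU_injective (hF : Fintype.card F = q ^ 2) (hn : 3 ≤ n) :
    Function.Injective (fieldPSU n F q) := fun σ σ' h => by
  rw [fieldPSU_apply, fieldPSU_apply] at h
  exact semiAut_field_eq hF hn h

theorem conj_mk_eq_one_iff (hF : Fintype.card F = q ^ 2) (hn : 3 ≤ n) (x : PSU n F q) :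
    MulAut.conj x = 1 ↔ x = 1 := by
  refine ⟨fun h => ?_, fun h => by rw [h, map_one]⟩
  obtain ⟨s, rfl⟩ := QuotientGroup.mk_surjective x
  rw [← conjPSU_suToGU, conjPSU_eq_one_iff hF hn] at h
  obtain ⟨z, hz⟩ := h
  refine (QuotientGroup.eq_one_iff _).2 ((mem_center_SU_iff hF (by omega) s).2 ?_)
  refine ⟨z.1, fun x => ?_⟩
  rw [← suToGU_val, hz, scalarGU_mulVec]

/-- The determinant with values in the units of norm one. -/
noncomputable def detU (hF : Fintype.card F = q ^ 2) : GU n F q →* U1 F q :=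
  (detGU n F q).codRestrict _ fun A => by
    rw [mem_U1_iff]
    exact Units.ext (by rw [Units.val_pow_eq_pow_val, detGU_val, pow_succ', det_norm_one hF A]; rfl)

theorem coe_detU (hF : Fintype.card F = q ^ 2) (A : GU n F q) :
    (detU hF A).1 = detGU n F q A := rfl

theorem detU_surjective (hF : Fintype.card F = q ^ 2) (hn : 1 ≤ n) :
    Function.Surjective (detU hF : GU n F q → U1 F q) := by
  intro u
  obtain ⟨A, hA⟩ := exists_GU_det hF hn (U1_val_pow u)
  exact ⟨A, Subtype.ext (Units.ext hA)⟩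

theorem detU_ker (hF : Fintype.card F = q ^ 2) :
    (detU hF : GU n F q →* U1 F q).ker = (detGU n F q).ker := MonoidHom.ker_codRestrict _ _ _

theorem detU_scalarGU (hF : Fintype.card F = q ^ 2) (z : U1 F q) :
    detU hF (scalarGU z : GU n F q) = z ^ n := by
  refine Subtype.ext (Units.ext ?_)
  rw [coe_detU, detGU_val, coe_scalarGU, Matrix.det_smul, Matrix.det_one, mul_one,
    Fintype.card_fin]
  simp

variable (hF : Fintype.card F = q ^ 2) (hn : 3 ≤ n) (h32 : ¬ (n = 3 ∧ q = 2))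

/-- The field automorphism of a semilinear automorphism. -/
noncomputable def fieldPart : MulAut (PSU n F q) →* (F ≃+* F) :=
  MonoidHom.mk' (fun α => (exists_semiAut hF hn h32 α).choose_spec.choose) fun α β => by
    have ha := (exists_semiAut hF hn h32 α).choose_spec.choose_spec
    have hb := (exists_semiAut hF hn h32 β).choose_spec.choose_spec
    have hab := (exists_semiAut hF hn h32 (α * β)).choose_spec.choose_spec
    exact semiAut_field_eq hF hn (hab.symm.trans ((congrArg₂ (· * ·) ha hb).trans (semiAut_mul ..)))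

theorem fieldPart_semiAut (g : GU n F q) (σ : F ≃+* F) :
    fieldPart hF hn h32 (semiAut g σ) = σ :=
  semiAut_field_eq hF hn (exists_semiAut hF hn h32 (semiAut g σ)).choose_spec.choose_spec.symm

theorem fieldPart_conjPSU (g : GU n F q) : fieldPart hF hn h32 (conjPSU n F q g) = 1 := by
  rw [conjPSU_apply, fieldPart_semiAut]

theorem fieldPart_fieldPSU (σ : F ≃+* F) : fieldPart hF hn h32 (fieldPSU n F q σ) = σ := by
  rw [fieldPSU_apply, fieldPart_semiAut]

theorem fieldPart_ker : (fieldPart hF hn h32).ker = inndiagPSU n F q := by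
  rw [inndiagPSU_eq_range]
  ext α
  obtain ⟨g, σ, rfl⟩ := exists_semiAut hF hn h32 α
  rw [MonoidHom.mem_ker, fieldPart_semiAut]
  constructor
  · rintro rfl; exact ⟨g, conjPSU_apply g⟩
  · rintro ⟨g', h⟩
    rw [conjPSU_apply] at h
    exact (semiAut_field_eq hF hn h).symm

include hF hn h32 in
theorem exists_decomp (α : MulAut (PSU n F q)) :
    ∃ g σ, α = conjPSU n F q g * fieldPSU n F q σ := by
  obtain ⟨g, σ, rfl⟩ := exists_semiAut hF hn h32 α
  exact ⟨g, σ, semiAut_eq_mul g σ⟩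

include hF hn h32 in
theorem inndiagPSU_normal : (inndiagPSU n F q).Normal := by
  rw [← fieldPart_ker hF hn h32]; infer_instance

include hF hn h32 in
/-- The outer automorphism group maps onto the field automorphisms with cyclic kernel of order
`gcd(n, q+1)`. -/
theorem exists_out_hom {p f : ℕ} [Fact p.Prime] (hq : q = p ^ f) (hf : 1 ≤ f) :
    ∃ φ : Cfsg.Out (PSU n F q) →* (F ≃+* F),
      Function.Surjective φ ∧ IsCyclic φ.ker ∧ Nat.card φ.ker = Nat.gcd n (q + 1) := by
  classical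
  have hle : Cfsg.Inn (PSU n F q) ≤ (fieldPart hF hn h32).ker := by
    rw [fieldPart_ker]; exact inn_le_inndiagPSU
  let φ : Cfsg.Out (PSU n F q) →* (F ≃+* F) := QuotientGroup.lift _ (fieldPart hF hn h32) hle
  have hsurj : Function.Surjective φ := fun σ =>
    ⟨QuotientGroup.mk (fieldPSU n F q σ), fieldPart_fieldPSU hF hn h32 σ⟩
  let ψ : GU n F q →* φ.ker :=
    ((QuotientGroup.mk' (Cfsg.Inn (PSU n F q))).comp (conjPSU n F q)).codRestrict _ fun g => by
      rw [MonoidHom.mem_ker]; exact fieldPart_conjPSU hF hn h32 g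
  have hψ : Function.Surjective ψ := by
    rintro ⟨y, hy⟩
    obtain ⟨α, rfl⟩ := QuotientGroup.mk_surjective y
    have h1 : α ∈ (fieldPart hF hn h32).ker := hy
    rw [fieldPart_ker, inndiagPSU_eq_range] at h1
    obtain ⟨g, rfl⟩ := h1
    exact ⟨g, rfl⟩
  have hdker : (detU hF : GU n F q →* U1 F q).ker ≤ ψ.ker := fun g hg => by
    rw [detU_ker] at hg
    refine MonoidHom.mem_ker.2 (Subtype.ext ((QuotientGroup.eq_one_iff _).2 ?_))
    rw [inn_eq_map]
    exact Subgroup.mem_map_of_mem _ hg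
  obtain ⟨χ, hχ⟩ : ∃ χ : U1 F q →* φ.ker, ∀ g, χ (detU hF g) = ψ g :=
    ⟨(detU hF).liftOfSurjective (detU_surjective hF (by omega)) ⟨ψ, hdker⟩,
      fun g => MonoidHom.liftOfRightInverse_comp_apply _ _ _ _ g⟩
  refine ⟨φ, hsurj, isCyclic_of_surjective χ fun y => ?_, ?_⟩
  · obtain ⟨g, hg⟩ := hψ y
    exact ⟨_, (hχ g).trans hg⟩
  · have hF2 : Fintype.card F = p ^ (f * 2) := by rw [hF, hq, pow_mul]
    have hinj : Function.Injective (MulAut.conj : PSU n F q →* MulAut (PSU n F q)) :=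
      (injective_iff_map_eq_one _).2 fun x hx => (conj_mk_eq_one_iff hF hn x).1 hx
    have hinn : Nat.card (Cfsg.Inn (PSU n F q)) = Nat.card (PSU n F q) :=
      (Nat.card_congr (MonoidHom.ofInjective hinj).toEquiv).symm
    have h1 : Nat.card (MulAut (PSU n F q)) =
        Nat.card (Cfsg.Out (PSU n F q)) * Nat.card (PSU n F q) := by
      rw [← hinn]
      exact Subgroup.card_eq_card_quotient_mul_card_subgroup _
    have h2 := Subgroup.card_eq_card_quotient_mul_card_subgroup φ.ker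
    rw [Nat.card_congr (QuotientGroup.quotientKerEquivRange φ).toEquiv,
      MonoidHom.range_eq_top.2 hsurj, Subgroup.card_top, card_ringAuts hF2] at h2
    rw [card_mulAut_PSU hF hn h32 hq, h2, mul_comm (f * 2), mul_comm f 2] at h1
    have hpos : 0 < Nat.card (PSU n F q) := Nat.card_pos
    exact (Nat.eq_of_mul_eq_mul_right (by omega : 0 < 2 * f)
      (Nat.eq_of_mul_eq_mul_right hpos h1)).symm

end Cfsg.Agent.Lib.AutPSU
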