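import Cfsg.Agent.Lib.AutPSU.Common

/-!
Lib/AutPSU/RealForm: conjugate-linear involutions `J` of the unitary space with
`h(J u, J v) = s h(u, v)^q`, `s = ±1`, their fixed vectors, and the unitary maps commuting with `J`.
-/

set_option autoImplicit false
set_option linter.unusedSectionVars false

namespace Cfsg.Agent.Lib.AutPSU

open Matrix Cfsg.Agent.Lib.Unitary

variable {F : Type*} [Field F] {q : ℕ} {n : ℕ}

/-- A conjugate-linear involution, compatible with the form up to the sign `s`. -/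
structure RealStr (n : ℕ) (F : Type*) [Field F] (q : ℕ) (s : F) where
  /-- the involution -/
  J : (Fin n → F) → (Fin n → F)
  add : ∀ u v, J (u + v) = J u + J v
  smul : ∀ (l : F) v, J (l • v) = l ^ q • J v
  invol : ∀ v, J (J v) = v
  herm : ∀ u v, hermForm n F q (J u) (J v) = s * hermForm n F q u v ^ q

namespace RealStr

variable {s : F} (R : RealStr n F q s)

/-- The fixed vectors. -/
def Real (v : Fin n → F) : Prop := R.J v = v

/-- The unitary maps commuting with the involution. -/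
def commGroup : Subgroup (GU n F q) where
  carrier := {A | ∀ x, R.J (A.1.1 *ᵥ x) = A.1.1 *ᵥ R.J x}
  one_mem' := fun x => by simp
  mul_mem' := fun {A B} hA hB x => by
    rw [GU_mul_mulVec, GU_mul_mulVec, hA, hB]
  inv_mem' := fun {A} hA x => by
    apply GU_mulVec_injective A
    dsimp only
    rw [← hA, GU_mulVec_inv, GU_mulVec_inv]

theorem mem_commGroup {A : GU n F q} :
    A ∈ R.commGroup ↔ ∀ x, R.J (A.1.1 *ᵥ x) = A.1.1 *ᵥ R.J x := Iff.rfl

theorem real_image {A : GU n F q} (hA : A ∈ R.commGroup) {v : Fin n → F} (hv : R.Real v) :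
    R.Real (A.1.1 *ᵥ v) := by
  show R.J _ = _
  rw [hA, hv]

theorem zero_real : R.Real (0 : Fin n → F) := by
  show R.J 0 = 0
  have h := R.add 0 0
  rw [add_zero] at h
  exact left_eq_add.1 h

theorem add_real {u v : Fin n → F} (hu : R.Real u) (hv : R.Real v) : R.Real (u + v) := by
  show R.J _ = _
  rw [R.add, hu, hv]

theorem smul_real {l : F} (hl : l ^ q = l) {v : Fin n → F} (hv : R.Real v) : R.Real (l • v) := by
  show R.J _ = _
  rw [R.smul, hl, hv]

variable [Fintype F]

theorem neg_real (hF : Fintype.card F = q ^ 2) {v : Fin n → F} (hv : R.Real v) : R.Real (-v) := by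
  rw [← neg_one_smul F v]
  exact R.smul_real (by rw [neg_pow_q hF, one_pow]) hv

theorem sub_real (hF : Fintype.card F = q ^ 2) {u v : Fin n → F} (hu : R.Real u) (hv : R.Real v) :
    R.Real (u - v) := by
  rw [sub_eq_add_neg]
  exact R.add_real hu (R.neg_real hF hv)

theorem herm_real {u v : Fin n → F} (hu : R.Real u) (hv : R.Real v) :
    hermForm n F q u v = s * hermForm n F q u v ^ q := by
  conv_lhs => rw [← hu, ← hv, R.herm]

theorem add_J_real (v : Fin n → F) : R.Real (v + R.J v) := by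
  show R.J _ = _
  rw [R.add, R.invol, add_comm]

theorem trace_zero_smul_sub_real (hF : Fintype.card F = q ^ 2) {θ : F} (hθ : θ + θ ^ q = 0)
    (v : Fin n → F) : R.Real (θ • (v - R.J v)) := by
  show R.J _ = _
  have h : R.J (v - R.J v) = R.J v - v := by
    rw [sub_eq_add_neg, ← neg_one_smul F (R.J v), R.add, R.smul, R.invol, neg_pow_q hF, one_pow,
      neg_one_smul, ← sub_eq_add_neg]
  rw [R.smul, h, show θ ^ q = -θ from eq_neg_of_add_eq_zero_right hθ, neg_smul, ← smul_neg,
    neg_sub]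

/-- Linear identities can be checked on fixed vectors. -/
theorem ext_real (hF : Fintype.card F = q ^ 2) (h2 : (2 : F) ≠ 0) {A : Matrix (Fin n) (Fin n) F}
    {l : F} (h : ∀ v, R.Real v → A *ᵥ v = l • v) (x : Fin n → F) : A *ᵥ x = l • x := by
  obtain ⟨θ, hθ0, hθ⟩ := exists_trace_zero_ne_zero hF
  have h1 := h _ (R.add_J_real x)
  have h3 := h _ (R.trace_zero_smul_sub_real hF hθ x)
  rw [Matrix.mulVec_smul, smul_comm l θ] at h3
  have h4 := smul_right_injective _ hθ0 h3
  rw [Matrix.mulVec_add, smul_add] at h1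
  rw [Matrix.mulVec_sub, smul_sub] at h4
  apply smul_right_injective (Fin n → F) h2
  show (2 : F) • (A *ᵥ x) = (2 : F) • (l • x)
  rw [two_smul, two_smul]
  linear_combination (norm := abel) h1 + h4

theorem eq_zero_of_perp_real (hF : Fintype.card F = q ^ 2) (h2 : (2 : F) ≠ 0) {u : Fin n → F}
    (h : ∀ y, R.Real y → hermForm n F q u y = 0) : u = 0 := by
  obtain ⟨θ, hθ0, hθ⟩ := exists_trace_zero_ne_zero hF
  refine herm_nondeg_left hF fun v => ?_
  have h1 := h _ (R.add_J_real v)
  have h3 := h _ (R.trace_zero_smul_sub_real hF hθ v)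
  rw [herm_add_right _ _ _ hF] at h1
  rw [herm_smul_right, herm_sub_right _ _ _ hF] at h3
  have h4 := (mul_eq_zero.1 h3).resolve_left (pow_ne_zero q hθ0)
  exact (mul_eq_zero.1 (show (2 : F) * hermForm n F q u v = 0 by linear_combination h1 + h4)).resolve_left h2

/-- A vector whose line is fixed has a fixed nonzero multiple. -/
theorem exists_real_multiple (hF : Fintype.card F = q ^ 2) {v : Fin n → F} (hv0 : v ≠ 0) {z : F}
    (hv : R.J v = z • v) : ∃ a : Fin n → F, ∃ l : F, R.Real a ∧ l ≠ 0 ∧ v = l • a := by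
  by_cases hz : 1 + z = 0
  · obtain ⟨θ, hθ0, hθ⟩ := exists_trace_zero_ne_zero hF
    refine ⟨θ • v, θ⁻¹, ?_, inv_ne_zero hθ0, by rw [smul_smul, inv_mul_cancel₀ hθ0, one_smul]⟩
    show R.J _ = _
    rw [R.smul, hv, smul_smul, show θ ^ q = -θ from eq_neg_of_add_eq_zero_right hθ,
      show z = -1 from eq_neg_of_add_eq_zero_right hz, neg_mul_neg, mul_one]
  · refine ⟨(1 + z) • v, (1 + z)⁻¹, ?_, inv_ne_zero hz, by
      rw [smul_smul, inv_mul_cancel₀ hz, one_smul]⟩
    rw [add_smul, one_smul, ← hv]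
    exact R.add_J_real v

/-- A transvection along a fixed vector commutes with the involution. -/
theorem tv_mem_commGroup (hF : Fintype.card F = q ^ 2) (hs : s = -1) {v : Fin n → F} {k : F}
    (hv : R.Real v) (hk : k + k ^ q = 0) {A : GU n F q} (hA : IsTvAt v k A) :
    A ∈ R.commGroup := by
  intro x
  have h1 : hermForm n F q (R.J x) v = -hermForm n F q x v ^ q := by
    conv_lhs => rw [← hv, R.herm, hs, neg_one_mul]
  rw [hA, hA, R.add, R.smul, hv, h1, mul_pow,
    show k ^ q = -k from eq_neg_of_add_eq_zero_right hk, neg_mul, ← mul_neg]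

end RealStr

/-- The reflection in the anisotropic vector `v`. -/
def IsRefl (v : Fin n → F) (A : GU n F q) : Prop :=
  ∀ x, A.1.1 *ᵥ x = x - (2 * hermForm n F q x v / hermForm n F q v v) • v

theorem IsRefl.unique {v : Fin n → F} {A B : GU n F q} (hA : IsRefl v A) (hB : IsRefl v B) :
    A = B :=
  GU_ext fun x => by rw [hA, hB]

theorem IsRefl.fix {v : Fin n → F} {A : GU n F q} (hA : IsRefl v A) {x : Fin n → F}
    (hx : hermForm n F q x v = 0) : A.1.1 *ᵥ x = x := by
  rw [hA, hx, mul_zero, zero_div, zero_smul, sub_zero]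

theorem IsRefl.apply_self {v : Fin n → F} {A : GU n F q} (hA : IsRefl v A)
    (hQ : hermForm n F q v v ≠ 0) : A.1.1 *ᵥ v = -v := by
  rw [hA, mul_div_assoc, div_self hQ, mul_one, two_smul, sub_add_cancel_left]

theorem IsRefl.conj {v : Fin n → F} {A : GU n F q} (hA : IsRefl v A) (g : GU n F q) :
    IsRefl (g.1.1 *ᵥ v) (g * A * g⁻¹) := fun x => by
  have h := GU_herm (g⁻¹.1.1 *ᵥ x) v g
  rw [GU_mulVec_inv] at h
  rw [GU_mul_mulVec, GU_mul_mulVec, hA, Matrix.mulVec_sub, Matrix.mulVec_smul, GU_mulVec_inv, h,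
    GU_herm]

theorem IsRefl.smul {v : Fin n → F} {A : GU n F q} (hA : IsRefl v A) {l : F} (hl : l ≠ 0) :
    IsRefl (l • v) A := fun x => by
  rw [hA, herm_smul_right, herm_smul_left, herm_smul_right, smul_smul]
  congr 2
  rcases eq_or_ne (hermForm n F q v v) 0 with h | h
  · simp [h]
  · field_simp

theorem IsRefl.mul_self {v : Fin n → F} {A : GU n F q} (hA : IsRefl v A)
    (hQ : hermForm n F q v v ≠ 0) : A * A = 1 :=
  GU_ext fun x => by
    rw [GU_mul_mulVec, GU_one_mulVec, hA x, Matrix.mulVec_sub, Matrix.mulVec_smul, hA.apply_self hQ,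
      hA x, smul_neg, sub_neg_eq_add, sub_add_cancel]

theorem IsRefl.inv_eq {v : Fin n → F} {A : GU n F q} (hA : IsRefl v A)
    (hQ : hermForm n F q v v ≠ 0) : A⁻¹ = A :=
  inv_eq_of_mul_eq_one_right (hA.mul_self hQ)

variable [Fintype F]

theorem exists_refl (hF : Fintype.card F = q ^ 2) {v : Fin n → F}
    (hQ : hermForm n F q v v ≠ 0) : ∃ A : GU n F q, IsRefl v A ∧ A.1.1.det = -1 := by
  set Q := hermForm n F q v v with hQdef
  have hQq : Q ^ q = Q := herm_self_fixed v hF
  have h2q : (2 : F) ^ q = 2 := by rw [← one_add_one_eq_two, add_pow_q hF, one_pow]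
  have hpres : ∀ u w, hermForm n F q (rk1 q (-2 / Q) v v *ᵥ u) (rk1 q (-2 / Q) v v *ᵥ w) =
      hermForm n F q u w := by
    intro u w
    simp only [rk1_mulVec, herm_add_left, herm_add_right _ _ _ hF, herm_smul_left, herm_smul_right,
      mul_pow, div_pow, neg_pow_q hF, h2q, hQq, herm_conj w v hF, ← hQdef]
    field_simp
    ring
  refine ⟨mkGU hF _ hpres, fun x => ?_, ?_⟩
  · rw [mkGU_val, rk1_mulVec, sub_eq_add_neg, ← neg_smul]
    congr 2
    ring
  · rw [mkGU_val, rk1_det, ← hQdef, div_mul_cancel₀ _ hQ]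
    ring

theorem IsRefl.det (hF : Fintype.card F = q ^ 2) {v : Fin n → F} {A : GU n F q} (hA : IsRefl v A)
    (hQ : hermForm n F q v v ≠ 0) : A.1.1.det = -1 := by
  obtain ⟨B, hB, hd⟩ := exists_refl hF hQ
  rw [hA.unique hB, hd]

theorem RealStr.refl_mem_commGroup {s : F} (R : RealStr n F q s) (hF : Fintype.card F = q ^ 2)
    (hs : s = 1) {v : Fin n → F} (hv : R.Real v) {A : GU n F q} (hA : IsRefl v A) :
    A ∈ R.commGroup := by
  intro x
  have h2q : (2 : F) ^ q = 2 := by rw [← one_add_one_eq_two, add_pow_q hF, one_pow]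
  have h1 : hermForm n F q (R.J x) v = hermForm n F q x v ^ q := by
    conv_lhs => rw [← hv, R.herm, hs, one_mul]
  rw [hA, hA, sub_eq_add_neg, ← neg_smul, R.add, R.smul, hv, h1, neg_pow_q hF, div_pow, mul_pow, h2q,
    herm_self_fixed v hF, sub_eq_add_neg, neg_smul]

end Cfsg.Agent.Lib.AutPSU

namespace Cfsg.Agent.Lib.AutPSU

open Matrix Cfsg.Agent.Lib.Unitary

variable {F : Type*} [Field F] {q : ℕ} {n : ℕ}

/-- In a subgroup where some odd power of each element is scalar, a scalar square forces a scalar. -/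
theorem mem_scalar_of_sq {m : GU n F q} {k : ℕ} (hk : Odd k)
    (hmk : m ^ k ∈ (scalarGU : U1 F q →* GU n F q).range)
    (hm2 : m * m ∈ (scalarGU : U1 F q →* GU n F q).range) :
    m ∈ (scalarGU : U1 F q →* GU n F q).range := by
  obtain ⟨j, rfl⟩ := hk
  rw [pow_succ, pow_mul, pow_two] at hmk
  exact (Subgroup.mul_mem_cancel_left _ (Subgroup.pow_mem _ hm2 j)).1 hmk

theorem eq_one_of_scalar_fix {m : GU n F q} (hm : m ∈ (scalarGU : U1 F q →* GU n F q).range)
    {y : Fin n → F} (hy : y ≠ 0) (h : m.1.1 *ᵥ y = y) : m = 1 := by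
  obtain ⟨z, rfl⟩ := hm
  rw [scalarGU_mulVec] at h
  have : z = 1 := Subtype.ext (Units.ext (smul_left_injective F hy (h.trans (one_smul F y).symm)))
  rw [this, map_one]

/-- A diagonal binary form over `GF(q)` represents everything. -/
theorem exists_quad [Fintype F] (hF : Fintype.card F = q ^ 2) (h2 : (2 : F) ≠ 0) {a b t : F}
    (ha : a ^ q = a) (hb : b ^ q = b) (ht : t ^ q = t) (ha0 : a ≠ 0) (hb0 : b ≠ 0) :
    ∃ X Y : F, X ^ q = X ∧ Y ^ q = Y ∧ a * X ^ 2 + b * Y ^ 2 = t := by
  classical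
  let K : Subfield F := (conj hF).eqLocusField (RingHom.id F)
  letI : Fintype K := Fintype.ofFinite _
  have hcard : Fintype.card K = q := by
    rw [← Nat.card_eq_fintype_card, ← card_fixed hF]
    exact Nat.card_congr (Equiv.subtypeEquivRight fun x => Iff.rfl)
  have hodd : Fintype.card K % 2 = 1 := by
    obtain ⟨p, k, hp, hc, -, hq⟩ := q_eq_primePow hF
    rw [hcard, hq]
    rcases hp.eq_two_or_odd' with rfl | hpo
    · exact absurd (CharTwo.two_eq_zero (R := F)) h2
    · exact Nat.odd_iff.1 hpo.pow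
  let a' : K := ⟨a, ha⟩
  let b' : K := ⟨b, hb⟩
  let t' : K := ⟨t, ht⟩
  have ha' : a' ≠ 0 := fun h => ha0 (congrArg Subtype.val h)
  have hb' : b' ≠ 0 := fun h => hb0 (congrArg Subtype.val h)
  have hdeg : (Polynomial.C b' * Polynomial.X ^ 2 - Polynomial.C t').degree = 2 := by
    rw [Polynomial.degree_sub_eq_left_of_degree_lt]
    · exact Polynomial.degree_C_mul_X_pow 2 hb'
    · rw [Polynomial.degree_C_mul_X_pow 2 hb']
      exact lt_of_le_of_lt Polynomial.degree_C_le (by decide)
  obtain ⟨X, Y, h⟩ := FiniteField.exists_root_sum_quadratic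
    (Polynomial.degree_C_mul_X_pow 2 ha') hdeg hodd
  simp only [Polynomial.eval_sub, Polynomial.eval_mul, Polynomial.eval_C, Polynomial.eval_pow,
    Polynomial.eval_X] at h
  refine ⟨X.1, Y.1, X.2, Y.2, ?_⟩
  have h1 := congrArg Subtype.val h
  simp only [a', b', t'] at h1
  push_cast at h1
  linear_combination h1

end Cfsg.Agent.Lib.AutPSU
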