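import Cfsg.Agent.Lib.AutPSU.RealForm

/-!
Lib/AutPSU/TwoOrth: odd subgroups of `GU n` normalised by the orthogonal group of a symmetric real
form are scalar; semilinear maps centralising its double reflections.
-/

set_option autoImplicit false
set_option linter.unusedSectionVars false

namespace Cfsg.Agent.Lib.AutPSU

open Matrix Cfsg.Agent.Lib.Unitary

variable {F : Type*} [Field F] [Fintype F] {q : ℕ} {n : ℕ} {s : F}

set_option maxHeartbeats 400000

namespace RealStr

variable (R : RealStr n F q s) (hF : Fintype.card F = q ^ 2) (h2 : (2 : F) ≠ 0) (hs : s = 1)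

include hs in
theorem orth_symm {u v : Fin n → F} (hu : R.Real u) (hv : R.Real v) :
    hermForm n F q u v ^ q = hermForm n F q u v := by
  have h := R.herm_real hu hv
  rw [hs, one_mul] at h
  exact h.symm

include hF hs in
theorem orth_comm {u v : Fin n → F} (hu : R.Real u) (hv : R.Real v) :
    hermForm n F q v u = hermForm n F q u v := by
  rw [← herm_conj u v hF, R.orth_symm hs hu hv]

include hF h2 hs in
/-- An anisotropic fixed vector orthogonal to at most two given orthogonal ones. -/
theorem exists_aniso_perp (hn : 3 ≤ n) {u v : Fin n → F} (hu : R.Real u) (hv : R.Real v)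
    (hu0 : u = 0 ∨ hermForm n F q u u ≠ 0) (hv0 : v = 0 ∨ hermForm n F q v v ≠ 0)
    (huv : hermForm n F q u v = 0) :
    ∃ z, R.Real z ∧ hermForm n F q z z ≠ 0 ∧ hermForm n F q z u = 0 ∧ hermForm n F q z v = 0 := by
  by_contra hcon
  push Not at hcon
  let P : (Fin n → F) → (Fin n → F) := fun y =>
    y - (hermForm n F q y u / hermForm n F q u u) • u - (hermForm n F q y v / hermForm n F q v v) • v
  have hvu : hermForm n F q v u = 0 := herm_eq_zero_symm hF huv
  have hPu : ∀ y, hermForm n F q (P y) u = 0 := fun y => by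
    simp only [P, herm_sub_left, herm_smul_left, hvu, mul_zero, sub_zero]
    rcases hu0 with rfl | h
    · simp [herm_zero_right _ hF]
    · rw [div_mul_cancel₀ _ h, sub_self]
  have hPv : ∀ y, hermForm n F q (P y) v = 0 := fun y => by
    simp only [P, herm_sub_left, herm_smul_left, huv, mul_zero, sub_zero]
    rcases hv0 with rfl | h
    · simp [herm_zero_right _ hF]
    · rw [div_mul_cancel₀ _ h, sub_self]
  have hPr : ∀ y, R.Real y → R.Real (P y) := fun y hy => by
    refine R.sub_real hF (R.sub_real hF hy (R.smul_real ?_ hu)) (R.smul_real ?_ hv)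
    · rw [div_pow, R.orth_symm hs hy hu, herm_self_fixed u hF]
    · rw [div_pow, R.orth_symm hs hy hv, herm_self_fixed v hF]
  have hzero : ∀ y, R.Real y → hermForm n F q (P y) (P y) = 0 := fun y hy => by
    by_contra h
    exact (hcon (P y) (hPr y hy) h (hPu y)) (hPv y)
  have hlin : ∀ y y', P (y + y') = P y + P y' := fun y y' => by
    simp only [P, herm_add_left, add_div, add_smul]
    abel
  have hP0 : ∀ y, R.Real y → P y = 0 := by
    intro y hy
    refine R.eq_zero_of_perp_real hF h2 fun y' hy' => ?_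
    have h1 : hermForm n F q (P y) (P y') = 0 := by
      have h := hzero _ (R.add_real hy hy')
      rw [hlin, herm_add_left, herm_add_right _ _ _ hF, herm_add_right _ _ _ hF, hzero y hy,
        hzero y' hy', R.orth_comm hF hs (hPr y hy) (hPr y' hy'), zero_add, add_zero, ← two_mul] at h
      exact (mul_eq_zero.1 h).resolve_left h2
    simp only [P, herm_sub_right _ _ _ hF, herm_smul_right] at h1
    have e1 : hermForm n F q (y - (hermForm n F q y u / hermForm n F q u u) • u -
        (hermForm n F q y v / hermForm n F q v v) • v) u = 0 := hPu y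
    have e2 : hermForm n F q (y - (hermForm n F q y u / hermForm n F q u u) • u -
        (hermForm n F q y v / hermForm n F q v v) • v) v = 0 := hPv y
    rw [e1, e2, mul_zero, mul_zero, sub_zero, sub_zero] at h1
    exact h1
  obtain ⟨y0, hy0, hy0u, hy0v⟩ := exists_perp_two hF hn u v
  refine hy0 (R.eq_zero_of_perp_real hF h2 fun y hy => ?_)
  have h := hP0 y hy
  simp only [P, sub_sub, sub_eq_zero] at h
  rw [h, herm_add_right _ _ _ hF, herm_smul_right, herm_smul_right, hy0u, hy0v]
  ring

include hF h2 hs in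
/-- Semilinear maps fixing the anisotropic fixed lines are scalar on fixed vectors. -/
theorem orth_scalar_of_lines (hn : 3 ≤ n) (g : GU n F q) (τ : F ≃+* F)
    (h : ∀ v, R.Real v → hermForm n F q v v ≠ 0 → ∃ a : F, g.1.1 *ᵥ sv τ v = a • v) :
    ∃ l : F, ∀ v, R.Real v → g.1.1 *ᵥ sv τ v = l • v := by
  let L : (Fin n → F) → (Fin n → F) := fun x => g.1.1 *ᵥ sv τ x
  have hLadd : ∀ x y, L (x + y) = L x + L y := fun x y => by
    simp only [L, sv_add, Matrix.mulVec_add]
  have hLneg : ∀ x, L (-x) = -L x := fun x => by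
    rw [eq_neg_iff_add_eq_zero, ← hLadd, neg_add_cancel]
    simp only [L, sv_zero, Matrix.mulVec_zero]
  have hz : R.Real (0 : Fin n → F) := R.zero_real
  -- two independent vectors with nonzero product
  have step1 : ∀ (a b : Fin n → F) (la lb : F), R.Real a → R.Real b → hermForm n F q a a ≠ 0 →
      hermForm n F q b b ≠ 0 → (∀ k : F, b ≠ k • a) → hermForm n F q a b ≠ 0 →
      L a = la • a → L b = lb • b → la = lb := by
    intro a b la lb ha hb hQa hQb hind hab hLa hLb
    have key : ∀ c : Fin n → F, R.Real c → hermForm n F q (a + c) (a + c) ≠ 0 →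
        ∀ lc, L c = lc • c → (∀ k : F, c ≠ k • a) → la = lc := by
      intro c hc hQ lc hLc hindc
      obtain ⟨l, hl⟩ := h _ (R.add_real ha hc) hQ
      have h1 : la • a + lc • c = l • (a + c) := by rw [← hLa, ← hLc, ← hLadd]; exact hl
      have h2' : (la - l) • a = (l - lc) • c := by
        rw [smul_add] at h1
        rw [sub_smul, sub_smul]
        linear_combination (norm := abel) h1
      by_cases hcl : l - lc = 0
      · rw [hcl, zero_smul, smul_eq_zero] at h2'
        have ha0 : a ≠ 0 := fun h0 => hQa (by rw [h0, herm_zero_left])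
        exact (sub_eq_zero.1 (h2'.resolve_right ha0)).trans (sub_eq_zero.1 hcl)
      · refine absurd ?_ (hindc ((l - lc)⁻¹ * (la - l)))
        rw [← smul_smul, h2', smul_smul, inv_mul_cancel₀ hcl, one_smul]
    by_cases hQ : hermForm n F q (a + b) (a + b) = 0
    · refine key (-b) (R.neg_real hF hb) ?_ lb (by rw [hLneg, hLb, smul_neg]) fun k hk =>
        hind (-k) (by rw [neg_smul, ← hk, neg_neg])
      intro hQ'
      rw [← sub_eq_add_neg] at hQ'
      simp only [herm_add_left, herm_add_right _ _ _ hF, R.orth_comm hF hs ha hb] at hQ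
      simp only [herm_sub_left, herm_sub_right _ _ _ hF, R.orth_comm hF hs ha hb] at hQ'
      exact hab ((mul_eq_zero.1 (show (2 * 2 : F) * hermForm n F q a b = 0 by
        linear_combination hQ - hQ')).resolve_left (mul_ne_zero h2 h2))
    · exact key b hb hQ lb hLb hind
  have step2 : ∀ (a b : Fin n → F) (la lb : F), R.Real a → R.Real b → hermForm n F q a a ≠ 0 →
      hermForm n F q b b ≠ 0 → (∀ k : F, b ≠ k • a) →
      L a = la • a → L b = lb • b → la = lb := by
    intro a b la lb ha hb hQa hQb hind hLa hLb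
    by_cases hab : hermForm n F q a b = 0
    · obtain ⟨z, hzR, hQz, hza, hzb⟩ := R.exists_aniso_perp hF h2 hs hn ha hb (Or.inr hQa)
        (Or.inr hQb) hab
      by_cases hQ : hermForm n F q (a + b) (a + b) = 0
      · -- pass through `a + b + z`
        have haz := herm_eq_zero_symm hF hza
        have hbz := herm_eq_zero_symm hF hzb
        have hba := herm_eq_zero_symm hF hab
        set c := a + b + z with hc
        have hcR : R.Real c := R.add_real (R.add_real ha hb) hzR
        have hQc : hermForm n F q c c ≠ 0 := by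
          rw [hc, herm_add_left, herm_add_right (a + b) (a + b) z hF, hQ,
            herm_add_right z (a + b) z hF, herm_add_left a b z, herm_add_right z a b hF, haz, hbz,
            hza, hzb]
          simpa using hQz
        have hac : hermForm n F q a c ≠ 0 := by
          simpa [c, herm_add_right _ _ _ hF, hab, haz] using hQa
        have hbc : hermForm n F q b c ≠ 0 := by
          simpa [c, herm_add_right _ _ _ hF, hba, hbz] using hQb
        have hcz : hermForm n F q c z = hermForm n F q z z := by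
          simp [c, herm_add_left, haz, hbz]
        obtain ⟨lc, hlc⟩ := h c hcR hQc
        exact (step1 a c la lc ha hcR hQa hQc (fun k hk => hQz (by
            rw [← hcz, hk, herm_smul_left, haz, mul_zero])) hac hLa hlc).trans
          (step1 b c lb lc hb hcR hQb hQc (fun k hk => hQz (by
            rw [← hcz, hk, herm_smul_left, hbz, mul_zero])) hbc hLb hlc).symm
      · obtain ⟨l, hl⟩ := h _ (R.add_real ha hb) hQ
        have h1 : la • a + lb • b = l • (a + b) := by rw [← hLa, ← hLb, ← hLadd]; exact hl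
        have e1 := congrArg (fun x => hermForm n F q x a) h1
        have e2 := congrArg (fun x => hermForm n F q x b) h1
        simp only [herm_add_left, herm_smul_left, hab, herm_eq_zero_symm hF hab, mul_zero, add_zero,
          zero_add] at e1 e2
        exact (mul_right_cancel₀ hQa e1).trans (mul_right_cancel₀ hQb e2).symm
    · exact step1 a b la lb ha hb hQa hQb hind hab hLa hLb
  obtain ⟨a, haR, hQa, -, -⟩ := R.exists_aniso_perp hF h2 hs hn hz hz (Or.inl rfl) (Or.inl rfl)
    (herm_zero_left _)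
  obtain ⟨la, hla⟩ := h a haR hQa
  have ha0 : a ≠ 0 := fun h0 => hQa (by rw [h0, herm_zero_left])
  have haniso : ∀ v, R.Real v → hermForm n F q v v ≠ 0 → L v = la • v := by
    intro v hv hQv
    obtain ⟨lv, hlv⟩ := h v hv hQv
    by_cases hind : ∀ k : F, v ≠ k • a
    · rw [step2 a v la lv haR hv hQa hQv hind hla hlv]; exact hlv
    push Not at hind
    obtain ⟨k, rfl⟩ := hind
    obtain ⟨z, hzR, hQz, hza, -⟩ := R.exists_aniso_perp hF h2 hs hn haR hz (Or.inr hQa) (Or.inl rfl)
      (herm_zero_right _ hF)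
    obtain ⟨lz, hlz⟩ := h z hzR hQz
    have h1 := step2 z a lz la hzR haR hQz hQa (fun j hj => hQa (by
      conv_lhs => rw [hj, herm_smul_left]
      rw [← hj, hza, mul_zero])) hlz hla
    have h3 := step2 z _ lz lv hzR hv hQz hQv (fun j hj => hQv (by
      conv_lhs => rw [hj, herm_smul_left]
      rw [← hj, herm_smul_right, hza, mul_zero, mul_zero])) hlz hlv
    rw [h1.symm.trans h3]; exact hlv
  refine ⟨la, fun v hv => ?_⟩
  show L v = _
  by_cases hQv : hermForm n F q v v = 0
  · by_cases hQ : hermForm n F q (v + a) (v + a) = 0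
    · have hQ' : hermForm n F q (v - a) (v - a) ≠ 0 := fun hQ' => by
        simp only [herm_add_left, herm_add_right _ _ _ hF, R.orth_comm hF hs hv haR, hQv] at hQ
        simp only [herm_sub_left, herm_sub_right _ _ _ hF, R.orth_comm hF hs hv haR, hQv] at hQ'
        exact hQa ((mul_eq_zero.1 (show (2 : F) * hermForm n F q a a = 0 by
          linear_combination hQ + hQ')).resolve_left h2)
      have h1 := haniso _ (R.sub_real hF hv haR) hQ'
      rw [sub_eq_add_neg, hLadd, hLneg, haniso a haR hQa, smul_add, smul_neg, add_left_inj] at h1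
      exact h1
    · have h1 := haniso _ (R.add_real hv haR) hQ
      rw [hLadd, haniso a haR hQa, smul_add, add_left_inj] at h1
      exact h1
  · exact haniso v hv hQv

variable (M : Subgroup (GU n F q))
  (hodd : ∀ m ∈ M, ∃ k, Odd k ∧ m ^ k ∈ (scalarGU : U1 F q →* GU n F q).range)
  (hnorm : ∀ A ∈ R.commGroup, ∀ m ∈ M, A * m * A⁻¹ ∈ M)
  (hJ : ∀ m ∈ M, ∃ z : F, ∀ x, R.J (m.1.1 *ᵥ x) = z • m.1.1 *ᵥ R.J x)

include hF h2 hodd in
theorem pair_orth {a b : Fin n → F} {A B : GU n F q} (hA : IsRefl a A) (hB : IsRefl b B)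
    (hQa : hermForm n F q a a ≠ 0) (hQb : hermForm n F q b b ≠ 0) (hab : hermForm n F q a b = 0)
    (hM : A * B ∈ M) (hn : 3 ≤ n) : False := by
  have hABA : A * B * A⁻¹ = B := by
    have h1 := hB.conj A
    rw [hA.fix (herm_eq_zero_symm hF hab)] at h1
    exact h1.unique hB
  have hsq : A * B * (A * B) ∈ (scalarGU : U1 F q →* GU n F q).range := by
    rw [hA.inv_eq hQa] at hABA
    rw [show A * B * (A * B) = A * B * A * B by group, hABA, hB.mul_self hQb]
    exact one_mem _
  obtain ⟨k, hk, hmk⟩ := hodd _ hM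
  obtain ⟨y, hy0, hya, hyb⟩ := exists_perp_two hF hn a b
  have h1 := eq_one_of_scalar_fix (mem_scalar_of_sq hk hmk hsq) hy0 (by
    rw [GU_mul_mulVec, hB.fix hyb, hA.fix hya])
  have h3 : (A * B).1.1 *ᵥ a = a := by rw [h1, GU_one_mulVec]
  rw [GU_mul_mulVec, hB.fix hab, hA.apply_self hQa] at h3
  have ha0 : a ≠ 0 := fun h0 => hQa (by rw [h0, herm_zero_left])
  exact mul_ne_zero h2 (one_ne_zero : (1 : F) ≠ 0) (by
    have h4 : (2 : F) • a = 0 := by
      rw [two_smul]
      conv_lhs => arg 1; rw [← h3]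
      exact neg_add_cancel a
    rw [mul_one]
    exact (smul_eq_zero.1 h4).resolve_right ha0)

include hF h2 hs hodd hnorm in
theorem pair_degenerate (hn : 3 ≤ n) {a b : Fin n → F} {A B : GU n F q} (ha : R.Real a)
    (hb : R.Real b) (hA : IsRefl a A) (hB : IsRefl b B) (hQa : hermForm n F q a a ≠ 0)
    (hQb : hermForm n F q b b = hermForm n F q a a)
    (hdeg : hermForm n F q a b ^ 2 = hermForm n F q a a ^ 2) (hM : A * B ∈ M) :
    b = (hermForm n F q a b / hermForm n F q a a) • a := by
  by_contra hne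
  set Q := hermForm n F q a a with hQdef
  set h := hermForm n F q a b with hhdef
  have hh0 : h ≠ 0 := fun h0 => hQa ((pow_eq_zero_iff two_ne_zero).1 (by rw [← hdeg, h0]; ring))
  have hhq : h ^ q = h := R.orth_symm hs ha hb
  have hQq : Q ^ q = Q := herm_self_fixed a hF
  set p := b - (h / Q) • a with hp
  have hpR : R.Real p := R.sub_real hF hb (R.smul_real (by rw [div_pow, hhq, hQq]) ha)
  have hp0 : p ≠ 0 := sub_ne_zero.2 hne
  have hpa : hermForm n F q p a = 0 := by
    rw [hp, herm_sub_left, herm_smul_left, R.orth_comm hF hs ha hb, ← hhdef, ← hQdef,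
      div_mul_cancel₀ _ hQa, sub_self]
  have hap := herm_eq_zero_symm hF hpa
  have hpb : hermForm n F q p b = 0 := by
    rw [hp, herm_sub_left, herm_smul_left, ← hhdef, hQb]
    field_simp
    linear_combination -hdeg
  have hpp : hermForm n F q p p = 0 := by
    rw [show hermForm n F q p p = hermForm n F q p (b - (h / Q) • a) by rw [← hp],
      herm_sub_right _ _ _ hF, herm_smul_right, hpb, hpa, mul_zero, sub_zero]
  obtain ⟨y, hy, hpy⟩ : ∃ y, R.Real y ∧ hermForm n F q p y ≠ 0 := by
    by_contra hcon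
    push Not at hcon
    exact hp0 (R.eq_zero_of_perp_real hF h2 hcon)
  set y' := y - (hermForm n F q y a / Q) • a with hy'
  have hy'R : R.Real y' :=
    R.sub_real hF hy (R.smul_real (by rw [div_pow, R.orth_symm hs hy ha, hQq]) ha)
  have hy'a : hermForm n F q y' a = 0 := by
    rw [hy', herm_sub_left, herm_smul_left, ← hQdef, div_mul_cancel₀ _ hQa, sub_self]
  set d := hermForm n F q p y' with hd
  have hd0 : d ≠ 0 := by
    rw [hd, hy', herm_sub_right _ _ _ hF, herm_smul_right, hpa, mul_zero, sub_zero]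
    exact hpy
  have hdq : d ^ q = d := R.orth_symm hs hpR hy'R
  -- the vector `w`
  set k0 := h / d
  set l := (Q - k0 ^ 2 * hermForm n F q y' y') / (2 * k0 * d)
  have hk0q : k0 ^ q = k0 := by rw [div_pow, hhq, hdq]
  have h2q : (2 : F) ^ q = 2 := by rw [← one_add_one_eq_two, add_pow_q hF, one_pow]
  have hlq : l ^ q = l := by
    rw [div_pow, sub_pow_q hF, mul_pow, mul_pow, mul_pow, ← pow_mul, mul_comm 2 q, pow_mul, hk0q,
      hdq, h2q, hQq, herm_self_fixed y' hF]
  set w := k0 • y' + l • p with hw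
  have hwR : R.Real w := R.add_real (R.smul_real hk0q hy'R) (R.smul_real hlq hpR)
  have hwa : hermForm n F q w a = 0 := by
    rw [hw, herm_add_left, herm_smul_left, herm_smul_left, hy'a, hpa]; ring
  have haw := herm_eq_zero_symm hF hwa
  have hy'p : hermForm n F q y' p = d := R.orth_comm hF hs hpR hy'R
  have hww : hermForm n F q w w = Q := by
    rw [hw]
    simp only [herm_add_left, herm_add_right _ _ _ hF, herm_smul_left, herm_smul_right, hk0q, hlq,
      hy'p, hpp, ← hd]
    have hk00 : k0 ≠ 0 := div_ne_zero hh0 hd0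
    simp only [l]
    field_simp
    ring
  have hbp : b = p + (h / Q) • a := by rw [hp, sub_add_cancel]
  have hbw : hermForm n F q b w = h := by
    rw [hbp, herm_add_left, herm_smul_left, haw, mul_zero, add_zero, hw, herm_add_right _ _ _ hF,
      herm_smul_right, herm_smul_right, hk0q, ← hd, hpp, mul_zero, add_zero]
    exact div_mul_cancel₀ h hd0
  set kv := a - w
  have hkQ : hermForm n F q kv kv = 2 * Q := by
    simp only [kv, herm_sub_left, herm_sub_right _ _ _ hF, haw, hwa, hww, ← hQdef]
    ring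
  have hkQ0 : hermForm n F q kv kv ≠ 0 := by rw [hkQ]; exact mul_ne_zero h2 hQa
  obtain ⟨K, hK, -⟩ := exists_refl hF hkQ0
  have hKc : K ∈ R.commGroup := R.refl_mem_commGroup hF hs (R.sub_real hF ha hwR) hK
  have hKb : K.1.1 *ᵥ b = b := hK.fix (by
    simp only [kv, herm_sub_right _ _ _ hF, hbw, R.orth_comm hF hs ha hb, ← hhdef, sub_self])
  have hKa : K.1.1 *ᵥ a = w := by
    rw [hK, hkQ]
    simp only [kv, herm_sub_right _ _ _ hF, haw, sub_zero, ← hQdef]
    rw [div_self (mul_ne_zero h2 hQa), one_smul, sub_sub_cancel]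
  set W := K * A * K⁻¹
  have hW : IsRefl w W := by have := hA.conj K; rwa [hKa] at this
  have hKB : K * B * K⁻¹ = B := by
    have := hB.conj K
    rw [hKb] at this
    exact this.unique hB
  have hWB : W * B ∈ M := by
    have h1 := hnorm K hKc _ hM
    rwa [show K * (A * B) * K⁻¹ = K * A * K⁻¹ * (K * B * K⁻¹) by group, hKB] at h1
  have hAW : A * W ∈ M := by
    have h1 := M.mul_mem hM (M.inv_mem hWB)
    rwa [_root_.mul_inv_rev, ← mul_assoc, mul_inv_cancel_right, hW.inv_eq (by rw [hww]; exact hQa)] at h1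
  exact pair_orth hF h2 M hodd hA hW hQa (by rw [hww]; exact hQa) haw hAW hn

include hF h2 hs hodd hnorm in
theorem pair_eq (hn : 3 ≤ n) {a b : Fin n → F} {A B : GU n F q} (ha : R.Real a) (hb : R.Real b)
    (hA : IsRefl a A) (hB : IsRefl b B) (hQa : hermForm n F q a a ≠ 0)
    (hQb : hermForm n F q b b = hermForm n F q a a) (hM : A * B ∈ M) :
    b = (hermForm n F q a b / hermForm n F q a a) • a := by
  by_cases hdeg : hermForm n F q a b ^ 2 = hermForm n F q a a ^ 2
  · exact R.pair_degenerate hF h2 hs M hodd hnorm hn ha hb hA hB hQa hQb hdeg hM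
  exfalso
  set Q := hermForm n F q a a with hQdef
  set h := hermForm n F q a b with hhdef
  have hhq : h ^ q = h := R.orth_symm hs ha hb
  have hQq : Q ^ q = Q := herm_self_fixed a hF
  set p := b - (h / Q) • a with hp
  have hcq : (h / Q) ^ q = h / Q := by rw [div_pow, hhq, hQq]
  have hpR : R.Real p := R.sub_real hF hb (R.smul_real hcq ha)
  have hpa : hermForm n F q p a = 0 := by
    rw [hp, herm_sub_left, herm_smul_left, R.orth_comm hF hs ha hb, ← hhdef, ← hQdef,
      div_mul_cancel₀ _ hQa, sub_self]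
  have hap := herm_eq_zero_symm hF hpa
  have hbp : b = p + (h / Q) • a := by rw [hp, sub_add_cancel]
  set e := hermForm n F q p p with he
  have he0 : e ≠ 0 := by
    intro h0
    apply hdeg
    have h1 : hermForm n F q b b = e + (h / Q) * (h / Q) * Q := by
      rw [hbp]
      simp only [herm_add_left, herm_add_right _ _ _ hF, herm_smul_left, herm_smul_right, hpa, hap,
        hcq, ← he, ← hQdef]
      ring
    rw [hQb, h0] at h1
    field_simp at h1
    linear_combination -h1
  obtain ⟨z, hzR, hQz, hza, hzp⟩ := R.exists_aniso_perp hF h2 hs hn ha hpR (Or.inr hQa)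
    (Or.inr he0) hap
  have haz := herm_eq_zero_symm hF hza
  have hpz := herm_eq_zero_symm hF hzp
  have hzb : hermForm n F q z b = 0 := by
    rw [hbp, herm_add_right _ _ _ hF, herm_smul_right, hzp, hza, mul_zero, add_zero]
  set T := hermForm n F q z z with hT
  have hTq : T ^ q = T := herm_self_fixed z hF
  obtain ⟨X, Y, hX, hY, hXY⟩ := exists_quad hF h2 hQq (herm_self_fixed p hF)
    (t := -T) (by rw [neg_pow_q hF, hTq]) hQa he0
  have hXY' : Q * X ^ 2 + e * Y ^ 2 = -T := hXY
  set p' := X • a + Y • p with hp'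
  set u := (-Y * e) • a + (X * Q) • p with hu
  have hp'R : R.Real p' := R.add_real (R.smul_real hX ha) (R.smul_real hY hpR)
  have heq : e ^ q = e := herm_self_fixed p hF
  have hYe : (-Y * e) ^ q = -Y * e := by rw [mul_pow, neg_pow_q hF, hY, heq]
  have hXQ : (X * Q) ^ q = X * Q := by rw [mul_pow, hX, hQq]
  have huR : R.Real u := R.add_real (R.smul_real hYe ha) (R.smul_real hXQ hpR)
  have hp'p' : hermForm n F q p' p' = -T := by
    simp only [hp', herm_add_left, herm_add_right _ _ _ hF, herm_smul_left, herm_smul_right, hX, hY,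
      hpa, hap, ← he, ← hQdef]
    linear_combination hXY'
  have hup' : hermForm n F q u p' = 0 := by
    simp only [hu, hp', herm_add_left, herm_add_right _ _ _ hF, herm_smul_left, herm_smul_right, hX,
      hY, hpa, hap, ← he, ← hQdef]
    ring
  set U := hermForm n F q u u with hU
  have hUval : U = -(Q * e * T) := by
    simp only [hU, hu, herm_add_left, herm_add_right _ _ _ hF, herm_smul_left, herm_smul_right, hYe,
      hXQ, hpa, hap, ← he, ← hQdef]
    linear_combination (Q * e) * hXY'
  have hU0 : U ≠ 0 := by rw [hUval]; exact neg_ne_zero.2 (mul_ne_zero (mul_ne_zero hQa he0) hQz)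
  have hzu : hermForm n F q z u = 0 := by
    rw [hu, herm_add_right _ _ _ hF, herm_smul_right, herm_smul_right, hza, hzp]; ring
  have hzp' : hermForm n F q z p' = 0 := by
    simp [hp', herm_add_right _ _ _ hF, herm_smul_right, hza, hzp]
  -- the plane in the new basis
  have hplane : ∀ s t : F, ∃ α β : F, s • a + t • p = α • u + β • p' := by
    intro s t
    have hT0 : -T ≠ 0 := neg_ne_zero.2 hQz
    refine ⟨(t * X - s * Y) / (-T), (s * X * Q + t * Y * e) / (-T), ?_⟩
    apply smul_right_injective _ hT0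
    show (-T) • (s • a + t • p) = (-T) • _
    rw [smul_add, smul_add, smul_smul, smul_smul, smul_smul, smul_smul, mul_div_cancel₀ _ hT0,
      mul_div_cancel₀ _ hT0, hu, hp', smul_add, smul_add, smul_smul, smul_smul, smul_smul,
      smul_smul, add_add_add_comm, ← add_smul, ← add_smul]
    congr 2
    · linear_combination -s * hXY'
    · linear_combination -t * hXY'
  set x := A * B with hx
  have hxy : ∀ y, ∃ s t : F, x.1.1 *ᵥ y = y + (s • a + t • p) := by
    intro y
    rw [hx, GU_mul_mulVec, hB y, hA, hbp]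
    set c1 := 2 * hermForm n F q y (p + (h / Q) • a) /
      hermForm n F q (p + (h / Q) • a) (p + (h / Q) • a)
    set c2 := 2 * hermForm n F q (y - c1 • (p + (h / Q) • a)) a / hermForm n F q a a
    exact ⟨-(c1 * (h / Q) + c2), -c1, by
      simp only [smul_add, smul_smul, neg_smul, add_smul]; abel⟩
  have hxz : ∀ y, hermForm n F q y a = 0 → hermForm n F q y p = 0 → x.1.1 *ᵥ y = y := by
    intro y hya hyp
    rw [hx, GU_mul_mulVec, hB.fix (by
      rw [hbp, herm_add_right _ _ _ hF, herm_smul_right, hyp, hya, mul_zero, add_zero]), hA.fix hya]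
  have hQb0 : hermForm n F q b b ≠ 0 := by rw [hQb]; exact hQa
  have hxc : x ∈ R.commGroup :=
    mul_mem (R.refl_mem_commGroup hF hs ha hA) (R.refl_mem_commGroup hF hs hb hB)
  set w := x.1.1 *ᵥ u with hw
  have hwR : R.Real w := R.real_image hxc huR
  have hwU : hermForm n F q w w = U := by rw [hw, GU_herm]
  obtain ⟨s1, t1, h1⟩ := hxy u
  obtain ⟨α, β, hwe⟩ : ∃ α β : F, w = α • u + β • p' := by
    obtain ⟨α, β, hab⟩ := hplane (-Y * e + s1) (X * Q + t1)
    exact ⟨α, β, by rw [hw, h1, ← hab, hu, add_smul, add_smul]; abel⟩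
  have hp'u := herm_eq_zero_symm hF hup'
  by_cases hβ : β = 0
  · rw [hβ, zero_smul, add_zero] at hwe
    have hα2 : α * α ^ q = 1 := by
      have e1 := hwU
      rw [hwe, herm_smul_left, herm_smul_right, ← hU, ← mul_assoc] at e1
      exact mul_right_cancel₀ hU0 (e1.trans (one_mul U).symm)
    obtain ⟨s2, t2, h3⟩ := hxy p'
    obtain ⟨γ, δ, hp'e⟩ : ∃ γ δ : F, x.1.1 *ᵥ p' = γ • u + δ • p' := by
      obtain ⟨γ, δ, hab⟩ := hplane (X + s2) (Y + t2)
      exact ⟨γ, δ, by rw [h3, ← hab, hp', add_smul, add_smul]; abel⟩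
    have hα0 : α ≠ 0 := fun h0 => by simp [h0] at hα2
    have hγ : γ = 0 := by
      have e1 := GU_herm p' u x
      rw [hp'e, ← hw, hwe, hp'u, herm_add_left, herm_smul_left, herm_smul_left, herm_smul_right,
        herm_smul_right, hp'u, ← hU, mul_zero, mul_zero, add_zero] at e1
      exact (mul_eq_zero.1 e1).resolve_right (mul_ne_zero (pow_ne_zero q hα0) hU0)
    rw [hγ, zero_smul, zero_add] at hp'e
    have hδ2 : δ * δ ^ q = 1 := by
      have e1 := GU_herm p' p' x
      rw [hp'e, herm_smul_left, herm_smul_right, hp'p', ← mul_assoc] at e1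
      exact mul_right_cancel₀ (neg_ne_zero.2 hQz) (e1.trans (one_mul _).symm)
    have hαq : α ^ q = α := by
      have e1 := R.orth_symm hs hwR huR
      rw [hwe, herm_smul_left, ← hU, mul_pow, hU, herm_self_fixed u hF] at e1
      exact mul_right_cancel₀ hU0 e1
    have hδq : δ ^ q = δ := by
      have e1 := R.orth_symm hs (R.real_image hxc hp'R) hp'R
      rw [hp'e, herm_smul_left, hp'p', mul_pow, neg_pow_q hF, hTq] at e1
      exact mul_right_cancel₀ (neg_ne_zero.2 hQz) e1
    rw [hαq] at hα2
    rw [hδq] at hδ2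
    -- `x` is an involution
    have hxu : x.1.1 *ᵥ (x.1.1 *ᵥ u) = u := by
      rw [← hw, hwe, Matrix.mulVec_smul, ← hw, hwe, smul_smul, hα2, one_smul]
    have hxp : x.1.1 *ᵥ (x.1.1 *ᵥ p') = p' := by
      rw [hp'e, Matrix.mulVec_smul, hp'e, smul_smul, hδ2, one_smul]
    have hxx : x * x = 1 := GU_ext fun y => by
      rw [GU_mul_mulVec, GU_one_mulVec]
      set sy := hermForm n F q y a / Q
      set ty := hermForm n F q y p / e
      obtain ⟨α', β', hab⟩ := hplane sy ty
      set r := y - (sy • a + ty • p) with hr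
      have hra : hermForm n F q r a = 0 := by
        rw [hr, herm_sub_left, herm_add_left, herm_smul_left, herm_smul_left, hpa, ← hQdef,
          div_mul_cancel₀ _ hQa]
        ring
      have hrp : hermForm n F q r p = 0 := by
        rw [hr, herm_sub_left, herm_add_left, herm_smul_left, herm_smul_left, hap, ← he,
          div_mul_cancel₀ _ he0]
        ring
      have hy : y = r + (α' • u + β' • p') := by rw [← hab, hr, sub_add_cancel]
      rw [hy]
      simp only [Matrix.mulVec_add, Matrix.mulVec_smul, hxz r hra hrp, hxu, hxp]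
    obtain ⟨k, hk, hmk⟩ := hodd _ hM
    have hz0 : z ≠ 0 := fun h0 => hQz (by rw [hT, h0, herm_zero_left])
    have hx1 : x = 1 := eq_one_of_scalar_fix (mem_scalar_of_sq hk hmk (by rw [hxx]; exact one_mem _))
      hz0 (hxz z hza hzp)
    have hAB : A = B := by
      rw [hx, mul_eq_one_iff_eq_inv, hB.inv_eq hQb0] at hx1
      exact hx1
    have e1 : A.1.1 *ᵥ b = -b := by rw [hAB]; exact hB.apply_self hQb0
    rw [hA, R.orth_comm hF hs ha hb, ← hhdef, ← hQdef, sub_eq_iff_eq_add] at e1
    have e3 := congrArg (fun v => hermForm n F q v p) e1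
    simp only [hbp, herm_add_left, herm_neg_left, herm_smul_left, hap, mul_zero, add_zero, ← he] at e3
    exact he0 ((mul_eq_zero.1 (show (2 : F) * e = 0 by linear_combination e3)).resolve_left h2)
  · -- reduce to a degenerate pair
    obtain ⟨Ru, hRu, -⟩ := exists_refl hF (v := u) hU0
    set Rw := x * Ru * x⁻¹
    have hRw : IsRefl w Rw := hRu.conj x
    have hRuc := R.refl_mem_commGroup hF hs huR hRu
    have hwu : Rw * Ru ∈ M := by
      have e1 := M.mul_mem hM (hnorm Ru hRuc _ (M.inv_mem hM))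
      rw [hRu.inv_eq hU0] at e1
      simpa only [Rw, hx, mul_assoc] using e1
    have huw : Ru * Rw ∈ M := by
      have e1 := M.inv_mem hwu
      rwa [_root_.mul_inv_rev, hRu.inv_eq hU0, hRw.inv_eq (by rw [hwU]; exact hU0)] at e1
    set h' := hermForm n F q u w with hh'
    have hh'q : h' ^ q = h' := R.orth_symm hs huR hwR
    by_cases hh0 : h' = 0
    · exact pair_orth hF h2 M hodd hRu hRw hU0 (by rw [hwU]; exact hU0) hh0 huw hn
    set p2 := p' + z with hp2
    have hp2u : hermForm n F q p2 u = 0 := by rw [hp2, herm_add_left, hp'u, hzu, add_zero]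
    have hup2 := herm_eq_zero_symm hF hp2u
    have hp2p2 : hermForm n F q p2 p2 = 0 := by
      rw [hp2]
      simp only [herm_add_left, herm_add_right _ _ _ hF, hp'p', hzp', herm_eq_zero_symm hF hzp',
        ← hT]
      ring
    have hwp2 : hermForm n F q w p2 = β * -T := by
      rw [hwe, hp2]
      simp only [herm_add_left, herm_add_right _ _ _ hF, herm_smul_left, hup', hp'p',
        herm_eq_zero_symm hF hzu, herm_eq_zero_symm hF hzp']
      ring
    have hp2R : R.Real p2 := R.add_real hp'R hzR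
    set c := hermForm n F q w p2 with hc
    have hc0 : c ≠ 0 := by rw [hwp2]; exact mul_ne_zero hβ (neg_ne_zero.2 hQz)
    have hcq' : c ^ q = c := R.orth_symm hs hwR hp2R
    set sc := 2 * h' / c
    have h2q : (2 : F) ^ q = 2 := by rw [← one_add_one_eq_two, add_pow_q hF, one_pow]
    have hscq : sc ^ q = sc := by rw [div_pow, mul_pow, hh'q, hcq', h2q]
    set P2 := sc • p2 with hP2
    set w2 := P2 - u with hw2
    have hP2R : R.Real P2 := R.smul_real hscq hp2R
    have hw2R : R.Real w2 := R.sub_real hF hP2R huR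
    have hP2u : hermForm n F q P2 u = 0 := by rw [hP2, herm_smul_left, hp2u, mul_zero]
    have huP2 := herm_eq_zero_symm hF hP2u
    have hP2P2 : hermForm n F q P2 P2 = 0 := by
      rw [hP2, herm_smul_left, herm_smul_right, hp2p2, mul_zero, mul_zero]
    have hw2w2 : hermForm n F q w2 w2 = U := by
      simp only [hw2, herm_sub_left, herm_sub_right _ _ _ hF, hP2P2, hP2u, huP2, ← hU]
      ring
    have hww2 : hermForm n F q w w2 = h' := by
      rw [hw2, herm_sub_right _ _ _ hF, hP2, herm_smul_right, hscq, ← hc,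
        R.orth_comm hF hs huR hwR, ← hh']
      simp only [sc]
      field_simp
      ring
    have huw2 : hermForm n F q u w2 = -U := by
      rw [hw2, herm_sub_right _ _ _ hF, huP2, ← hU, zero_sub]
    set kv := u - w2
    have hkQ : hermForm n F q kv kv = 4 * U := by
      simp only [kv, herm_sub_left, herm_sub_right _ _ _ hF, hw2w2, huw2, ← hU,
        R.orth_comm hF hs huR hw2R]
      ring
    have h40 : (4 : F) ≠ 0 := by
      rw [show (4 : F) = 2 * 2 by norm_num]; exact mul_ne_zero h2 h2
    have hkQ0 : hermForm n F q kv kv ≠ 0 := by rw [hkQ]; exact mul_ne_zero h40 hU0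
    obtain ⟨K, hK, -⟩ := exists_refl hF hkQ0
    have hKc : K ∈ R.commGroup := R.refl_mem_commGroup hF hs (R.sub_real hF huR hw2R) hK
    have hKw : K.1.1 *ᵥ w = w := hK.fix (by
      simp only [kv, herm_sub_right _ _ _ hF, hww2, R.orth_comm hF hs huR hwR, ← hh', sub_self])
    have hKu : K.1.1 *ᵥ u = w2 := by
      rw [hK, hkQ]
      simp only [kv, herm_sub_right _ _ _ hF, huw2, ← hU]
      rw [show 2 * (U - -U) / (4 * U) = (1 : F) by field_simp; ring, one_smul, sub_sub_cancel]
    set W2 := K * Ru * K⁻¹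
    have hW2 : IsRefl w2 W2 := by have := hRu.conj K; rwa [hKu] at this
    have hKW : K * Rw * K⁻¹ = Rw := by
      have := hRw.conj K
      rw [hKw] at this
      exact this.unique hRw
    have hW2w : W2 * Rw ∈ M := by
      have e1 := hnorm K hKc _ huw
      rwa [show K * (Ru * Rw) * K⁻¹ = K * Ru * K⁻¹ * (K * Rw * K⁻¹) by group, hKW] at e1
    have huW2 : Ru * W2 ∈ M := by
      have e1 := M.mul_mem huw (M.inv_mem hW2w)
      rwa [_root_.mul_inv_rev, ← mul_assoc, mul_inv_cancel_right,
        hW2.inv_eq (by rw [hw2w2]; exact hU0)] at e1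
    have e1 := R.pair_degenerate hF h2 hs M hodd hnorm hn huR hw2R hRu hW2 hU0 hw2w2
      (by rw [huw2, ← hU]; ring) huW2
    rw [huw2, ← hU, neg_div, div_self hU0, neg_smul, one_smul, hw2, sub_eq_iff_eq_add,
      neg_add_cancel] at e1
    have e2 : c = 0 := by
      have : p2 = 0 := (smul_eq_zero.1 e1).resolve_left
        (div_ne_zero (mul_ne_zero h2 hh0) hc0)
      rw [hc, this, herm_zero_right _ hF]
    exact hc0 e2

include hF h2 hs hodd hnorm hJ in
/-- An odd subgroup normalised by the orthogonal group fixes the anisotropic fixed lines. -/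
theorem orth_fix_lines (hn : 3 ≤ n) {m : GU n F q} (hm : m ∈ M) {v : Fin n → F} (hv : R.Real v)
    (hQ : hermForm n F q v v ≠ 0) : ∃ l : F, m.1.1 *ᵥ v = l • v := by
  obtain ⟨z, hz⟩ := hJ m hm
  set mv := m.1.1 *ᵥ v with hmv
  have hmv0 : mv ≠ 0 := fun h0 => hQ (by rw [← GU_herm v v m, ← hmv, h0, herm_zero_left])
  obtain ⟨a, l, haR, hl, hal⟩ := R.exists_real_multiple hF hmv0 (z := z) (by rw [hmv, hz, hv])
  have hQa : hermForm n F q a a ≠ 0 := fun h0 => hQ (by
    rw [← GU_herm v v m, ← hmv, hal, herm_smul_left, herm_smul_right, h0, mul_zero, mul_zero])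
  obtain ⟨V, hV, -⟩ := exists_refl hF hQ
  have hVc := R.refl_mem_commGroup hF hs hv hV
  set A := m * V * m⁻¹
  have hA : IsRefl a A := by
    have e1 := (hV.conj m).smul (inv_ne_zero hl)
    rwa [← hmv, hal, smul_smul, inv_mul_cancel₀ hl, one_smul] at e1
  set x := A * V with hx
  have hxM : x ∈ M := by
    have e1 := M.mul_mem hm (hnorm V hVc _ (M.inv_mem hm))
    rw [hV.inv_eq hQ] at e1
    simpa only [A, hx, mul_assoc] using e1
  have hxc : x ∈ R.commGroup := mul_mem (R.refl_mem_commGroup hF hs haR hA) hVc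
  set A' := x * V * x⁻¹
  have hA' : IsRefl (x.1.1 *ᵥ v) A' := hV.conj x
  have hM' : V * A' ∈ M := by
    have e1 := M.inv_mem (M.mul_mem hxM (hnorm V hVc _ (M.inv_mem hxM)))
    rw [hV.inv_eq hQ] at e1
    rw [show V * A' = (A' * V)⁻¹ by
      rw [_root_.mul_inv_rev, hV.inv_eq hQ, hA'.inv_eq (by rw [GU_herm]; exact hQ)]]
    simpa only [A', mul_assoc] using e1
  have hxv := R.pair_eq hF h2 hs M hodd hnorm hn hv (R.real_image hxc hv) hV hA' hQ (GU_herm v v x) hM'
  set c := hermForm n F q v (x.1.1 *ᵥ v) / hermForm n F q v v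
  have hc0 : c ≠ 0 := fun h0 => hQ (by
    rw [← GU_herm v v x, hxv, h0, zero_smul, herm_zero_left])
  have hA'V : A' = V := by
    have e1 := hA'
    rw [hxv] at e1
    have e2 := e1.smul (inv_ne_zero hc0)
    rw [smul_smul, inv_mul_cancel₀ hc0, one_smul] at e2
    exact e2.unique hV
  have hxx : x * x = 1 := by
    have e1 : x * V * x⁻¹ = V := hA'V
    rw [hx, _root_.mul_inv_rev, hV.inv_eq hQ, hA.inv_eq hQa] at e1
    calc x * x = A * V * (A * V) := by rw [hx]
      _ = A * V * V * (V * A) * V := by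
          rw [mul_assoc (A * V) V, ← mul_assoc V V A, hV.mul_self hQ, one_mul, mul_assoc (A * V) A V]
      _ = 1 := by rw [e1, hV.mul_self hQ]
  obtain ⟨k, hk, hmk⟩ := hodd _ hxM
  obtain ⟨y, hy0, hya, hyv⟩ := exists_perp_two hF hn a v
  have hx1 : x = 1 := eq_one_of_scalar_fix (mem_scalar_of_sq hk hmk (by rw [hxx]; exact one_mem _))
    hy0 (by rw [hx, GU_mul_mulVec, hV.fix hyv, hA.fix hya])
  have hAV : A = V := by
    rw [hx, mul_eq_one_iff_eq_inv, hV.inv_eq hQ] at hx1
    exact hx1
  have e1 : A.1.1 *ᵥ v = -v := by rw [hAV]; exact hV.apply_self hQ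
  rw [hA, sub_eq_iff_eq_add] at e1
  set ka := 2 * hermForm n F q v a / hermForm n F q a a
  have e2 : (2 : F) • v = ka • a := by
    rw [two_smul]
    conv_lhs => arg 1; rw [e1]
    abel
  have hka : ka ≠ 0 := fun h0 => by
    rw [h0, zero_smul] at e2
    exact hQ (by rw [(smul_eq_zero.1 e2).resolve_left h2, herm_zero_left])
  refine ⟨l * ka⁻¹ * 2, ?_⟩
  rw [hal, ← smul_smul, e2, smul_smul, mul_assoc, inv_mul_cancel₀ hka, mul_one]

include hF h2 hs hodd hnorm hJ in
/-- An odd subgroup normalised by the orthogonal group is scalar. -/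
theorem orth_le_scalar (hn : 3 ≤ n) : M ≤ (scalarGU : U1 F q →* GU n F q).range := by
  intro m hm
  have hsv : ∀ v : Fin n → F, sv (1 : F ≃+* F) v = v := fun v => rfl
  obtain ⟨l, hl⟩ := R.orth_scalar_of_lines hF h2 hs hn m 1 fun v hv hQ => by
    rw [hsv]; exact R.orth_fix_lines hF h2 hs M hodd hnorm hJ hn hm hv hQ
  obtain ⟨z, -, hz⟩ := exists_scalarGU (by omega)
    (R.ext_real hF h2 fun v hv => by have := hl v hv; rwa [hsv] at this)
  exact ⟨z, hz.symm⟩

include hF h2 hs in
/-- A semilinear map commuting up to scalars with the double reflections has square fixing the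
anisotropic fixed lines. -/
theorem orth_outer (hn : 3 ≤ n) (h : GU n F q) (τ : F ≃+* F)
    (hL : ∀ A : GU n F q, A ∈ R.commGroup → A.1.1.det = 1 →
      ∃ z : F, ∀ x, h.1.1 *ᵥ sv τ (A.1.1 *ᵥ x) = z • A.1.1 *ᵥ (h.1.1 *ᵥ sv τ x))
    (v : Fin n → F) (hv : R.Real v) (hQ : hermForm n F q v v ≠ 0) :
    ∃ a : F, h.1.1 *ᵥ sv τ (h.1.1 *ᵥ sv τ v) = a • v := by
  let L : (Fin n → F) → (Fin n → F) := fun x => h.1.1 *ᵥ sv τ x
  have hLs : ∀ (k : F) x, L (k • x) = τ k • L x := fun k x => by
    simp only [L, sv_smul, Matrix.mulVec_smul]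
  have hLinj : ∀ x, L x = 0 → x = 0 := fun x hx => by
    have := GU_mulVec_injective h (a₁ := sv τ x) (a₂ := 0) (by simpa using hx)
    have h1 := congrArg (sv τ.symm) this
    rwa [sv_symm', sv_zero] at h1
  obtain ⟨z1, hz1R, hQ1, hz1v, -⟩ := R.exists_aniso_perp hF h2 hs hn hv R.zero_real (Or.inr hQ)
    (Or.inl rfl) (herm_zero_right _ hF)
  obtain ⟨z2, hz2R, hQ2, hz2v, hz21⟩ := R.exists_aniso_perp hF h2 hs hn hv hz1R (Or.inr hQ)
    (Or.inr hQ1) (herm_eq_zero_symm hF hz1v)
  have key : ∀ w, R.Real w → hermForm n F q w w ≠ 0 → hermForm n F q w v = 0 →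
      ∃ c d : F, L (L v) = c • v + d • w := by
    intro w hw hQw hwv
    obtain ⟨A, hA, hAd⟩ := exists_refl hF hQ
    obtain ⟨B, hB, hBd⟩ := exists_refl hF hQw
    set t := A * B with ht
    have htd : t.1.1.det = 1 := by
      rw [ht, Subgroup.coe_mul, Units.val_mul, Matrix.det_mul, hAd, hBd]; ring
    obtain ⟨z, hz⟩ := hL t (mul_mem (R.refl_mem_commGroup hF hs hv hA)
      (R.refl_mem_commGroup hF hs hw hB)) htd
    have hv0 : v ≠ 0 := fun h0 => hQ (by rw [h0, herm_zero_left])
    have hvw := herm_eq_zero_symm hF hwv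
    have htv : t.1.1 *ᵥ v = -v := by rw [ht, GU_mul_mulVec, hB.fix hvw, hA.apply_self hQ]
    have hLneg : ∀ x, L (-x) = -L x := fun x => by
      rw [← neg_one_smul F x, hLs, map_neg, map_one, neg_one_smul]
    have e1 : -L v = z • t.1.1 *ᵥ L v := by rw [← hLneg, ← htv]; exact hz v
    have htt : ∀ x, t.1.1 *ᵥ (t.1.1 *ᵥ x) = x := by
      intro x
      have hABA : A * B * A⁻¹ = B := by
        have h1 := hB.conj A
        rw [hA.fix hwv] at h1
        exact h1.unique hB
      rw [hA.inv_eq hQ] at hABA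
      rw [← GU_mul_mulVec, show t * t = A * B * A * B by rw [ht]; group, hABA, hB.mul_self hQw,
        GU_one_mulVec]
    have hz2' : z * z = 1 := by
      have e2 := congrArg (fun x => z • t.1.1 *ᵥ x) e1
      simp only [Matrix.mulVec_neg, smul_neg, Matrix.mulVec_smul, htt, smul_smul] at e2
      rw [← e1, neg_neg] at e2
      exact (smul_left_injective F (fun h0 => hv0 (hLinj v h0)) ((one_smul F (L v)).trans e2)).symm
    have hτz : τ z = z := by
      rcases mul_self_eq_one_iff.1 hz2' with rfl | rfl <;> simp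
    have e3 : L (L v) = -(t.1.1 *ᵥ L (L v)) := by
      have e4 := congrArg L e1
      rw [hLneg, hLs, hτz, show L (t.1.1 *ᵥ L v) = z • t.1.1 *ᵥ L (L v) from hz (L v), smul_smul,
        hz2', one_smul] at e4
      rw [← e4, neg_neg]
    set y := L (L v)
    set ca := 2 * hermForm n F q (y - (2 * hermForm n F q y w / hermForm n F q w w) • w) v /
      hermForm n F q v v
    set cb := 2 * hermForm n F q y w / hermForm n F q w w
    have e5 : (2 : F) • y = ca • v + cb • w := by
      have : t.1.1 *ᵥ y = y - cb • w - ca • v := by rw [ht, GU_mul_mulVec, hB y, hA]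
      rw [two_smul]
      conv_lhs => arg 1; rw [e3, this]
      abel
    refine ⟨2⁻¹ * ca, 2⁻¹ * cb, ?_⟩
    rw [← smul_smul, ← smul_smul, ← smul_add, ← e5, smul_smul, inv_mul_cancel₀ h2, one_smul]
  obtain ⟨c, d, h1⟩ := key z1 hz1R hQ1 hz1v
  obtain ⟨c', d', h1'⟩ := key z2 hz2R hQ2 hz2v
  have hd : d = 0 := by
    have e1 := congrArg (fun x => hermForm n F q x z1) (h1.symm.trans h1')
    simp only [herm_add_left, herm_smul_left, herm_eq_zero_symm hF hz1v, hz21, mul_zero, zero_add,
      add_zero] at e1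
    exact (mul_eq_zero.1 e1).resolve_right hQ1
  exact ⟨c, by rw [hd, zero_smul, add_zero] at h1; exact h1⟩

include hF h2 hs in
/-- A noncentral involution of determinant one commuting with `J`. -/
theorem orth_exists_invol (hn : 3 ≤ n) : ∃ t : GU n F q, t ∈ R.commGroup ∧ t.1.1.det = 1 ∧
    t * t = 1 ∧ t ∉ (scalarGU : U1 F q →* GU n F q).range := by
  have hz := R.zero_real
  obtain ⟨v, hv, hQ, -, -⟩ := R.exists_aniso_perp hF h2 hs hn hz hz (Or.inl rfl) (Or.inl rfl)
    (herm_zero_left _)
  obtain ⟨w, hw, hQw, hwv, -⟩ := R.exists_aniso_perp hF h2 hs hn hv hz (Or.inr hQ) (Or.inl rfl)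
    (herm_zero_right _ hF)
  obtain ⟨A, hA, hAd⟩ := exists_refl hF hQ
  obtain ⟨B, hB, hBd⟩ := exists_refl hF hQw
  have hABA : A * B * A⁻¹ = B := by
    have h1 := hB.conj A
    rw [hA.fix hwv] at h1
    exact h1.unique hB
  rw [hA.inv_eq hQ] at hABA
  refine ⟨A * B, mul_mem (R.refl_mem_commGroup hF hs hv hA) (R.refl_mem_commGroup hF hs hw hB),
    by rw [Subgroup.coe_mul, Units.val_mul, Matrix.det_mul, hAd, hBd]; ring,
    by rw [← mul_assoc, hABA, hB.mul_self hQw], fun h => ?_⟩
  obtain ⟨y, hy0, hyv, hyw⟩ := exists_perp_two hF hn v w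
  have h1 := eq_one_of_scalar_fix h hy0 (by rw [GU_mul_mulVec, hB.fix hyw, hA.fix hyv])
  have h3 : (A * B).1.1 *ᵥ v = v := by rw [h1, GU_one_mulVec]
  rw [GU_mul_mulVec, hB.fix (herm_eq_zero_symm hF hwv), hA.apply_self hQ] at h3
  refine hQ ?_
  have h4 : (2 : F) • v = 0 := by
    rw [two_smul]
    conv_lhs => arg 1; rw [← h3]
    exact neg_add_cancel v
  rw [(smul_eq_zero.1 h4).resolve_left h2, herm_zero_left]

end RealStr

end Cfsg.Agent.Lib.AutPSU
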